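import Mathlib

/-!
Presentations of groups: `IsPres R x` says that the family `x` generates `G` and that the relations between the
`x i` are exactly the consequences of the relators in `R`.
-/

set_option autoImplicit false

namespace Cfsg.Agent.GK

open Subgroup

/-- the family `x` generates `G` and its relations are the consequences of `R` -/
structure IsPres {ι : Type*} {G : Type*} [Group G] (R : Set (FreeGroup ι)) (x : ι → G) : Prop where
  ker : ∀ w, FreeGroup.lift x w = 1 ↔ w ∈ Subgroup.normalClosure R
  surj : Function.Surjective (FreeGroup.lift x)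

section
variable {ι κ : Type*} {G H : Type*} [Group G] [Group H]

theorem IsPres.exists_equiv {R : Set (FreeGroup ι)} {x : ι → G} (h : IsPres R x) :
    ∃ e : PresentedGroup R ≃* G, ∀ i, e (PresentedGroup.of i) = x i := by
  have h1 : ∀ r ∈ R, FreeGroup.lift x r = 1 := fun r hr => (h.ker r).2 (Subgroup.subset_normalClosure hr)
  let f : PresentedGroup R →* G := PresentedGroup.toGroup h1
  have hf : ∀ i, f (PresentedGroup.of i) = x i := fun i => PresentedGroup.toGroup.of h1
  have hmk : ∀ w : FreeGroup ι, f (PresentedGroup.mk R w) = FreeGroup.lift x w := by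
    intro w
    have : f.comp (PresentedGroup.mk R) = FreeGroup.lift x := by
      ext i
      rw [MonoidHom.comp_apply, FreeGroup.lift_apply_of]
      exact hf i
    exact DFunLike.congr_fun this w
  have hinj : Function.Injective f := by
    rw [injective_iff_map_eq_one]
    intro g hg
    obtain ⟨w, rfl⟩ := PresentedGroup.mk_surjective R g
    rw [hmk] at hg
    rw [PresentedGroup.mk_eq_one_iff]
    exact (h.ker w).1 hg
  have hsurj : Function.Surjective f := by
    intro g
    obtain ⟨w, hw⟩ := h.surj g
    exact ⟨PresentedGroup.mk R w, by rw [hmk, hw]⟩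
  exact ⟨MulEquiv.ofBijective f ⟨hinj, hsurj⟩, fun i => hf i⟩

theorem lift_surjective_iff (x : ι → G) :
    Function.Surjective (FreeGroup.lift x) ↔ closure (Set.range x) = ⊤ := by
  rw [← MonoidHom.range_eq_top, FreeGroup.range_lift_eq_closure]

theorem IsPres.closure {R : Set (FreeGroup ι)} {x : ι → G} (h : IsPres R x) :
    Subgroup.closure (Set.range x) = ⊤ := (lift_surjective_iff x).1 h.surj

/-- criterion: the relators hold, the `x i` generate, and the map from the presented group is injective -/
theorem isPres_of_inj {R : Set (FreeGroup ι)} {x : ι → G}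
    (h1 : ∀ r ∈ R, FreeGroup.lift x r = 1) (h2 : Subgroup.closure (Set.range x) = ⊤)
    (h3 : ∀ π : PresentedGroup R →* G, (∀ i, π (PresentedGroup.of i) = x i) → Function.Injective π) :
    IsPres R x := by
  let f : PresentedGroup R →* G := PresentedGroup.toGroup h1
  have hf : ∀ i, f (PresentedGroup.of i) = x i := fun i => PresentedGroup.toGroup.of h1
  have hinj := h3 f hf
  have hmk : ∀ w : FreeGroup ι, f (PresentedGroup.mk R w) = FreeGroup.lift x w := by
    intro w
    have : f.comp (PresentedGroup.mk R) = FreeGroup.lift x := by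
      ext i
      rw [MonoidHom.comp_apply, FreeGroup.lift_apply_of]
      exact hf i
    exact DFunLike.congr_fun this w
  refine ⟨fun w => ?_, (lift_surjective_iff x).2 h2⟩
  rw [← hmk, ← PresentedGroup.mk_eq_one_iff]
  constructor
  · intro h
    exact hinj (by rw [h, map_one])
  · intro h
    rw [h, map_one]

/-- relators hold in the presented group -/
theorem lift_of_eq_mk (R : Set (FreeGroup ι)) (w : FreeGroup ι) :
    FreeGroup.lift (fun i => (PresentedGroup.of i : PresentedGroup R)) w = PresentedGroup.mk R w := by
  have : FreeGroup.lift (fun i => (PresentedGroup.of i : PresentedGroup R)) = PresentedGroup.mk R := by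
    ext i
    simp [PresentedGroup.of]
  rw [this]

theorem lift_of_rel {R : Set (FreeGroup ι)} {r : FreeGroup ι} (hr : r ∈ R) :
    FreeGroup.lift (fun i => (PresentedGroup.of i : PresentedGroup R)) r = 1 := by
  rw [lift_of_eq_mk]
  exact (PresentedGroup.mk_eq_one_iff).2 (Subgroup.subset_normalClosure hr)

theorem closure_of_eq_top (R : Set (FreeGroup ι)) :
    Subgroup.closure (Set.range (fun i => (PresentedGroup.of i : PresentedGroup R))) = ⊤ := by
  rw [← lift_surjective_iff]
  intro g
  obtain ⟨w, rfl⟩ := PresentedGroup.mk_surjective R g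
  exact ⟨w, lift_of_eq_mk R w⟩

/-- transport along an isomorphism -/
theorem IsPres.map {R : Set (FreeGroup ι)} {x : ι → G} (h : IsPres R x) (e : G ≃* H) :
    IsPres R (fun i => e (x i)) := by
  have h1 : ∀ w, FreeGroup.lift (fun i => e (x i)) w = e (FreeGroup.lift x w) := by
    intro w
    have : FreeGroup.lift (fun i => e (x i)) = e.toMonoidHom.comp (FreeGroup.lift x) := by
      ext i; simp
    rw [this]; rfl
  refine ⟨fun w => ?_, fun g => ?_⟩
  · rw [h1, ← h.ker w]
    constructor
    · intro hh; exact e.injective (by rw [hh, map_one])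
    · intro hh; rw [hh, map_one]
  · obtain ⟨w, hw⟩ := h.surj (e.symm g)
    exact ⟨w, by rw [h1, hw]; simp⟩

/-- Tietze: changing the generators costs one relator per new generator, except for those new generators `d j`
that are given by `x (s j)` for an injective choice on a set `S` of indices. -/
theorem IsPres.regen [Finite ι] [Fintype κ] {R : Finset (FreeGroup ι)} {x : ι → G}
    (h : IsPres (R : Set (FreeGroup ι)) x) (d : κ → G) (hd : Subgroup.closure (Set.range d) = ⊤)
    (S : Finset κ) (s : κ → ι) (hs : ∀ j ∈ S, d j = x (s j)) (hinj : Set.InjOn s S) :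
    ∃ R' : Finset (FreeGroup κ), R'.card ≤ R.card + (Fintype.card κ - S.card) ∧
      IsPres (R' : Set (FreeGroup κ)) d := by
  classical
  have hsd := (lift_surjective_iff d).2 hd
  -- words for x in terms of d
  have hv : ∀ i : ι, ∃ v : FreeGroup κ, FreeGroup.lift d v = x i ∧
      ∀ j ∈ S, s j = i → v = FreeGroup.of j := by
    intro i
    by_cases hi : ∃ j ∈ S, s j = i
    · obtain ⟨j, hj, rfl⟩ := hi
      refine ⟨FreeGroup.of j, by simp [hs j hj], ?_⟩
      intro j' hj' hjj'
      rw [hinj hj' hj hjj']
    · obtain ⟨v, hv⟩ := hsd (x i)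
      refine ⟨v, hv, ?_⟩
      intro j hj hji
      exact absurd ⟨j, hj, hji⟩ hi
  choose v hv1 hv2 using hv
  have hu : ∀ j : κ, ∃ u : FreeGroup ι, FreeGroup.lift x u = d j ∧ (j ∈ S → u = FreeGroup.of (s j)) := by
    intro j
    by_cases hj : j ∈ S
    · exact ⟨FreeGroup.of (s j), by simp [hs j hj], fun _ => rfl⟩
    · obtain ⟨u, hu⟩ := h.surj (d j)
      exact ⟨u, hu, fun hh => absurd hh hj⟩
  choose u hu1 hu2 using hu
  let R1 : Finset (FreeGroup κ) := R.image (FreeGroup.lift v)
  let R2 : Finset (FreeGroup κ) := (Finset.univ \ S).image fun j => (FreeGroup.of j)⁻¹ * FreeGroup.lift v (u j)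
  have hdv : ∀ w : FreeGroup ι, FreeGroup.lift d (FreeGroup.lift v w) = FreeGroup.lift x w := by
    intro w
    have : (FreeGroup.lift d).comp (FreeGroup.lift v) = FreeGroup.lift x := by
      ext i; simp [hv1]
    exact DFunLike.congr_fun this w
  refine ⟨R1 ∪ R2, ?_, ?_⟩
  · refine (Finset.card_union_le _ _).trans (Nat.add_le_add Finset.card_image_le ?_)
    refine Finset.card_image_le.trans ?_
    rw [Finset.card_sdiff_of_subset (Finset.subset_univ S), Finset.card_univ]
  · have hrel : ∀ r ∈ ((R1 ∪ R2 : Finset (FreeGroup κ)) : Set (FreeGroup κ)), FreeGroup.lift d r = 1 := by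
      intro r hr
      rw [Finset.mem_coe, Finset.mem_union] at hr
      rcases hr with hr | hr
      · obtain ⟨w, hw, rfl⟩ := Finset.mem_image.1 hr
        rw [hdv]
        exact (h.ker w).2 (Subgroup.subset_normalClosure hw)
      · obtain ⟨j, hj, rfl⟩ := Finset.mem_image.1 hr
        rw [map_mul, map_inv, hdv, hu1]
        simp
    refine isPres_of_inj hrel hd ?_
    intro π hπ
    set P := PresentedGroup ((R1 ∪ R2 : Finset (FreeGroup κ)) : Set (FreeGroup κ)) with hP
    -- the inverse map on words
    let δ : κ → P := fun j => PresentedGroup.of j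
    have hδ : ∀ w : FreeGroup κ, FreeGroup.lift δ w = PresentedGroup.mk _ w := lift_of_eq_mk _
    -- the map G → P
    have hker : ∀ w : FreeGroup ι, FreeGroup.lift x w = 1 → FreeGroup.lift δ (FreeGroup.lift v w) = 1 := by
      intro w hw
      have hw' := (h.ker w).1 hw
      have hle : Subgroup.normalClosure (R : Set (FreeGroup ι)) ≤
          ((FreeGroup.lift δ).comp (FreeGroup.lift v)).ker := by
        apply Subgroup.normalClosure_le_normal
        intro r hr
        change FreeGroup.lift δ (FreeGroup.lift v r) = 1
        apply lift_of_rel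
        rw [Finset.mem_coe, Finset.mem_union]
        exact Or.inl (Finset.mem_image_of_mem _ hr)
      exact hle hw'
    have hδu : ∀ j, FreeGroup.lift δ (FreeGroup.lift v (u j)) = δ j := by
      intro j
      by_cases hj : j ∈ S
      · rw [hu2 j hj, FreeGroup.lift_apply_of, hv2 (s j) j hj rfl, FreeGroup.lift_apply_of]
      · have : FreeGroup.lift δ ((FreeGroup.of j)⁻¹ * FreeGroup.lift v (u j)) = 1 := by
          apply lift_of_rel
          rw [Finset.mem_coe, Finset.mem_union]
          right
          exact Finset.mem_image.2 ⟨j, by simp [hj], rfl⟩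
        rw [map_mul, map_inv, FreeGroup.lift_apply_of] at this
        exact (inv_mul_eq_one.1 this).symm
    rw [injective_iff_map_eq_one]
    intro g hg
    obtain ⟨w, rfl⟩ := PresentedGroup.mk_surjective _ g
    -- rewrite w through u and v
    have key : ∀ w : FreeGroup κ, FreeGroup.lift δ (FreeGroup.lift v (FreeGroup.lift u w)) = FreeGroup.lift δ w := by
      intro w
      have : ((FreeGroup.lift δ).comp ((FreeGroup.lift v).comp (FreeGroup.lift u))) = FreeGroup.lift δ := by
        ext j; simp [hδu]
      exact DFunLike.congr_fun this w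
    have hπw : π (PresentedGroup.mk _ w) = FreeGroup.lift d w := by
      have : π.comp (PresentedGroup.mk _) = FreeGroup.lift d := by
        ext j
        simpa [PresentedGroup.of] using hπ j
      exact DFunLike.congr_fun this w
    rw [hπw] at hg
    have hxu : FreeGroup.lift x (FreeGroup.lift u w) = 1 := by
      rw [← hg]
      have : (FreeGroup.lift x).comp (FreeGroup.lift u) = FreeGroup.lift d := by
        ext j; simp [hu1]
      exact DFunLike.congr_fun this w
    have := hker _ hxu
    rw [key, hδ] at this
    exact this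

end

end Cfsg.Agent.GK
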