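import Cfsg.Agent.GK.Basic

/-!
Carmichael's presentation of the alternating group of `Option (Option Λ)`: generators `X i`, the 3-cycles
`(∞ ∞' i)`, relations `X i ^ 3 = 1`, `(X i * X j) ^ 2 = 1`.
-/

set_option autoImplicit false

namespace Cfsg.Agent.GK

open Subgroup Equiv

section concrete
variable {Λ : Type*} [DecidableEq Λ]

/-- the action of `Perm Λ` on `Option (Option Λ)` -/
def up : Perm Λ →* Perm (Option (Option Λ)) where
  toFun g := Equiv.optionCongr (Equiv.optionCongr g)
  map_one' := by ext x; rcases x with _ | _ | x <;> simp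
  map_mul' g h := by ext x; rcases x with _ | _ | x <;> simp

omit [DecidableEq Λ] in
@[simp] theorem up_none (g : Perm Λ) : up g none = none := rfl
omit [DecidableEq Λ] in
@[simp] theorem up_some_none (g : Perm Λ) : up g (some none) = some none := rfl
omit [DecidableEq Λ] in
@[simp] theorem up_some_some (g : Perm Λ) (x : Λ) : up g (some (some x)) = some (some (g x)) := rfl

/-- the transposition of the two extra points -/
def tau : Perm (Option (Option Λ)) := Equiv.swap none (some none)

@[simp] theorem tau_none : (tau : Perm (Option (Option Λ))) none = some none := by simp [tau]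
@[simp] theorem tau_some_none : (tau : Perm (Option (Option Λ))) (some none) = none := by simp [tau]
@[simp] theorem tau_some_some (x : Λ) : (tau : Perm (Option (Option Λ))) (some (some x)) = some (some x) := by
  simp [tau, Equiv.swap_apply_of_ne_of_ne]

theorem tau_mul_tau : (tau : Perm (Option (Option Λ))) * tau = 1 := by
  simp [tau]

theorem tau_inv : (tau : Perm (Option (Option Λ)))⁻¹ = tau := by
  simp [tau]

/-- the 3-cycle `(∞ ∞' i)` -/
def X (i : Λ) : Perm (Option (Option Λ)) := tau * Equiv.swap (some none) (some (some i))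

@[simp] theorem X_none (i : Λ) : X i none = some none := by
  simp [X, Equiv.swap_apply_of_ne_of_ne]
@[simp] theorem X_some_none (i : Λ) : X i (some none) = some (some i) := by
  simp [X]
@[simp] theorem X_self (i : Λ) : X i (some (some i)) = none := by
  simp [X]
theorem X_other {i j : Λ} (h : j ≠ i) : X i (some (some j)) = some (some j) := by
  rw [X, Perm.mul_apply, Equiv.swap_apply_of_ne_of_ne (by simp) (by simpa using h), tau_some_some]

theorem X_apply (i j : Λ) : X i (some (some j)) = if j = i then none else some (some j) := by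
  split_ifs with h
  · subst h; simp
  · exact X_other h

theorem X_cube (i : Λ) : X i ^ 3 = 1 := by
  ext x
  rcases x with _ | _ | x
  · simp [pow_succ]
  · simp [pow_succ]
  · by_cases h : x = i
    · subst h; simp [pow_succ]
    · simp [pow_succ, X_other h]

theorem X_mul_sq {i j : Λ} (h : i ≠ j) : (X i * X j) ^ 2 = 1 := by
  ext x
  rcases x with _ | _ | x
  · simp [pow_succ, X_other h]
  · simp [pow_succ, X_other h.symm]
  · by_cases h1 : x = i
    · subst h1; simp [pow_succ, X_other h]
    · by_cases h2 : x = j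
      · subst h2; simp [pow_succ, X_other h.symm]
      · simp [pow_succ, X_other h1, X_other h2]

theorem up_conj_X (g : Perm Λ) (i : Λ) : up g * X i * (up g)⁻¹ = X (g i) := by
  rw [mul_inv_eq_iff_eq_mul]
  ext x
  rcases x with _ | _ | x
  · simp
  · simp
  · by_cases h : x = i
    · subst h; simp
    · simp [X_other h, X_other (g.injective.ne h)]

theorem tau_conj_X (i : Λ) : tau * X i * tau⁻¹ = (X i)⁻¹ := by
  rw [mul_inv_eq_iff_eq_mul, eq_comm, inv_mul_eq_iff_eq_mul]
  ext x
  rcases x with _ | _ | x
  · simp
  · simp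
  · by_cases h : x = i
    · subst h; simp
    · simp [X_other h]

theorem tau_comm_up (g : Perm Λ) : tau * up g = up g * tau := by
  ext x
  rcases x with _ | _ | x <;> simp

end concrete

section gen
variable {Λ : Type*} [DecidableEq Λ] [Fintype Λ]

theorem sign_tau : Perm.sign (tau : Perm (Option (Option Λ))) = -1 :=
  Perm.sign_swap (by simp)

theorem sign_X (i : Λ) : Perm.sign (X i) = 1 := by
  rw [X, map_mul, sign_tau, Perm.sign_swap (by simp)]; rfl

theorem X_mem (i : Λ) : X i ∈ alternatingGroup (Option (Option Λ)) := sign_X i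

/-- the 3-cycles `X i` generate the alternating group -/
theorem closure_X : closure (Set.range (X : Λ → Perm (Option (Option Λ)))) =
    alternatingGroup (Option (Option Λ)) := by
  set K := closure (Set.range (X : Λ → Perm (Option (Option Λ)))) with hK
  have hX : ∀ i, X i ∈ K := fun i => subset_closure ⟨i, rfl⟩
  have hle : K ≤ alternatingGroup (Option (Option Λ)) := by
    rw [hK, closure_le]
    rintro _ ⟨i, rfl⟩
    exact X_mem i
  -- tau normalizes K
  have hconj : ∀ g ∈ K, tau * g * tau ∈ K := by
    intro g hg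
    have hmap : K.map (MulAut.conj (tau : Perm (Option (Option Λ)))).toMonoidHom ≤ K := by
      rw [hK, MonoidHom.map_closure, closure_le]
      rintro _ ⟨_, ⟨i, rfl⟩, rfl⟩
      change tau * X i * tau⁻¹ ∈ _
      rw [tau_conj_X]
      exact K.inv_mem (hX i)
    have := hmap (mem_map_of_mem _ hg)
    simpa [MulAut.conj_apply, tau_inv] using this
  -- every swap is in tau K
  have hs1 : ∀ i : Λ, tau * swap (some none) (some (some i)) ∈ K := fun i => hX i
  have hs1' : ∀ i : Λ, swap (some none) (some (some i)) = tau * X i := by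
    intro i
    rw [X, ← mul_assoc, tau_mul_tau, one_mul]
  have hs2 : ∀ i : Λ, tau * swap none (some (some i)) ∈ K := by
    intro i
    have : swap none (some (some i)) = tau * swap (some none) (some (some i)) * tau := by
      have := Equiv.swap_apply_apply (tau : Perm (Option (Option Λ))) (some none) (some (some i))
      rw [tau_some_none, tau_some_some, tau_inv] at this
      exact this
    rw [this]
    have h2 : tau * (tau * swap (some none) (some (some i)) * tau) = (tau * swap (some none) (some (some i)))⁻¹ := by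
      rw [mul_inv_rev, tau_inv, Equiv.swap_inv, ← mul_assoc, ← mul_assoc, tau_mul_tau, one_mul]
    rw [h2]
    exact K.inv_mem (hs1 i)
  have hs3 : ∀ i j : Λ, i ≠ j → tau * swap (some (some i)) (some (some j)) ∈ K := by
    intro i j hij
    have h1 : swap (some (some i)) (some (some j)) =
        swap (some none) (some (some i)) * swap (some none) (some (some j)) * swap (some none) (some (some i)) := by
      have := Equiv.swap_apply_apply (swap (some none) (some (some i)) : Perm (Option (Option Λ)))
        (some none) (some (some j))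
      rw [Equiv.swap_apply_left, Equiv.swap_apply_of_ne_of_ne (by simp) (by simpa using hij.symm),
        Equiv.swap_inv] at this
      exact this
    rw [h1, hs1', hs1']
    have h2 : tau * (tau * X i * (tau * X j) * (tau * X i)) = X i * (tau * X j * tau) * X i := by
      simp only [mul_assoc]
      rw [← mul_assoc tau tau, tau_mul_tau, one_mul]
    rw [h2]
    exact K.mul_mem (K.mul_mem (hX i) (hconj _ (hX j))) (hX i)
  -- the union K ∪ tau K is everything
  have hall : ∀ g : Perm (Option (Option Λ)), g ∈ K ∨ tau * g ∈ K := by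
    intro g
    have hg : g ∈ closure {σ : Perm (Option (Option Λ)) | σ.IsSwap} := by
      rw [Perm.closure_isSwap]; trivial
    induction hg using Subgroup.closure_induction_left with
    | one => left; exact K.one_mem
    | mul_left s hs y hy ih =>
      have hts : tau * s ∈ K := by
        obtain ⟨u, v, huv, rfl⟩ := hs
        rcases u with _ | _ | u <;> rcases v with _ | _ | v
        · exact absurd rfl huv
        · have : tau * swap none (some none) = (1 : Perm (Option (Option Λ))) := tau_mul_tau
          rw [this]; exact K.one_mem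
        · exact hs2 v
        · rw [Equiv.swap_comm]
          have : tau * swap none (some none) = (1 : Perm (Option (Option Λ))) := tau_mul_tau
          rw [this]; exact K.one_mem
        · exact absurd rfl huv
        · exact hs1 v
        · rw [Equiv.swap_comm]; exact hs2 u
        · rw [Equiv.swap_comm]; exact hs1 u
        · exact hs3 u v (by simpa using huv)
      rcases ih with h | h
      · right
        rw [← mul_assoc]
        exact K.mul_mem hts h
      · left
        have : s * y = (tau * (tau * s) * tau) * (tau * y) := by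
          simp only [mul_assoc]
          rw [← mul_assoc tau tau, tau_mul_tau, one_mul, ← mul_assoc tau tau, tau_mul_tau, one_mul]
        rw [this]
        exact K.mul_mem (hconj _ hts) h
    | inv_mul_cancel s hs y hy ih =>
      have hts : tau * s ∈ K := by
        obtain ⟨u, v, huv, rfl⟩ := hs
        rcases u with _ | _ | u <;> rcases v with _ | _ | v
        · exact absurd rfl huv
        · have : tau * swap none (some none) = (1 : Perm (Option (Option Λ))) := tau_mul_tau
          rw [this]; exact K.one_mem
        · exact hs2 v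
        · rw [Equiv.swap_comm]
          have : tau * swap none (some none) = (1 : Perm (Option (Option Λ))) := tau_mul_tau
          rw [this]; exact K.one_mem
        · exact absurd rfl huv
        · exact hs1 v
        · rw [Equiv.swap_comm]; exact hs2 u
        · rw [Equiv.swap_comm]; exact hs1 u
        · exact hs3 u v (by simpa using huv)
      have hsi : s⁻¹ = s := by
        obtain ⟨u, v, huv, rfl⟩ := hs
        exact Equiv.swap_inv _ _
      rw [hsi]
      rcases ih with h | h
      · right
        rw [← mul_assoc]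
        exact K.mul_mem hts h
      · left
        have : s * y = (tau * (tau * s) * tau) * (tau * y) := by
          simp only [mul_assoc]
          rw [← mul_assoc tau tau, tau_mul_tau, one_mul, ← mul_assoc tau tau, tau_mul_tau, one_mul]
        rw [this]
        exact K.mul_mem (hconj _ hts) h
  refine le_antisymm hle ?_
  intro g hg
  rcases hall g with h | h
  · exact h
  · exfalso
    have h1 : Perm.sign (tau * g) = 1 := hle h
    have h2 : Perm.sign g = 1 := hg
    rw [map_mul, sign_tau, h2] at h1
    exact absurd h1 (by decide)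

end gen

section count
variable {G : Type*} [Group G]

/-- the covering by cosets -/
theorem cover (x : ℕ → G) (m : ℕ) (h3 : ∀ i ≤ m, x i ^ 3 = 1)
    (h2 : ∀ i ≤ m, ∀ j ≤ m, i ≠ j → (x i * x j) ^ 2 = 1) (g : G) (hg : g ∈ closure (x '' {i | i < m + 1})) :
    ∃ h ∈ closure (x '' {i | i < m}), g = h ∨ g = h * x m ∨ g = h * (x m)⁻¹ ∨
      ∃ i < m, g = h * (x m * (x i)⁻¹) := by
  set H := closure (x '' {i | i < m}) with hH
  have hx : ∀ i < m, x i ∈ H := fun i hi => subset_closure ⟨i, hi, rfl⟩
  set y := x m with hy
  have hyy : y * y = y⁻¹ := by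
    have := h3 m le_rfl
    rw [pow_succ, pow_two] at this
    exact eq_inv_of_mul_eq_one_left this
  have hxx : ∀ i < m, x i * x i = (x i)⁻¹ := by
    intro i hi
    have := h3 i hi.le
    rw [pow_succ, pow_two] at this
    exact eq_inv_of_mul_eq_one_left this
  have e1 : ∀ i < m, y * x i = (x i)⁻¹ * y⁻¹ := by
    intro i hi
    have := h2 m le_rfl i hi.le hi.ne'
    rw [pow_two] at this
    have := eq_inv_of_mul_eq_one_left this
    rwa [mul_inv_rev] at this
  have e2 : ∀ i < m, x i * y = y⁻¹ * (x i)⁻¹ := by
    intro i hi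
    have := h2 i hi.le m le_rfl hi.ne
    rw [pow_two] at this
    have := eq_inv_of_mul_eq_one_left this
    rwa [mul_inv_rev] at this
  have e3 : ∀ i < m, ∀ j < m, i ≠ j → x i * x j = (x j)⁻¹ * (x i)⁻¹ := by
    intro i hi j hj hij
    have := h2 i hi.le j hj.le hij
    rw [pow_two] at this
    have := eq_inv_of_mul_eq_one_left this
    rwa [mul_inv_rev] at this
  have e4 : ∀ i < m, y⁻¹ * x i = x i * y * (x i)⁻¹ := by
    intro i hi
    rw [e2 i hi, mul_assoc, ← mul_inv_rev, hxx i hi, inv_inv]
  let T : G → Prop := fun g => ∃ h ∈ H, g = h ∨ g = h * y ∨ g = h * y⁻¹ ∨ ∃ i < m, g = h * (y * (x i)⁻¹)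
  have step : ∀ j < m + 1, ∀ g, T g → T (g * x j) := by
    rintro j hj g ⟨h, hh, hg⟩
    rcases Nat.lt_succ_iff_lt_or_eq.1 hj with hj | rfl
    · rcases hg with rfl | rfl | rfl | ⟨i, hi, rfl⟩
      · exact ⟨g * x j, H.mul_mem hh (hx j hj), Or.inl rfl⟩
      · refine ⟨h * (x j)⁻¹, H.mul_mem hh (H.inv_mem (hx j hj)), Or.inr (Or.inr (Or.inl ?_))⟩
        rw [mul_assoc, e1 j hj]; group
      · refine ⟨h * x j, H.mul_mem hh (hx j hj), Or.inr (Or.inr (Or.inr ⟨j, hj, ?_⟩))⟩
        rw [mul_assoc, e4 j hj]; group
      · by_cases hij : i = j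
        · subst hij
          exact ⟨h, hh, Or.inr (Or.inl (by group))⟩
        · refine ⟨h * ((x i)⁻¹ * x j), H.mul_mem hh (H.mul_mem (H.inv_mem (hx i hi)) (hx j hj)),
            Or.inr (Or.inr (Or.inr ⟨i, hi, ?_⟩))⟩
          have h1 : y * (x i)⁻¹ = (x i)⁻¹ * (y⁻¹ * x i) := by rw [e4 i hi]; group
          have h4 : y⁻¹ * (x j)⁻¹ = x j * y := (e2 j hj).symm
          calc h * (y * (x i)⁻¹) * x j = h * ((x i)⁻¹ * y⁻¹ * (x i * x j)) := by rw [h1]; group
            _ = h * ((x i)⁻¹ * (y⁻¹ * (x j)⁻¹) * (x i)⁻¹) := by rw [e3 i hi j hj hij]; group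
            _ = h * ((x i)⁻¹ * x j) * (y * (x i)⁻¹) := by rw [h4]; group
    · rcases hg with rfl | rfl | rfl | ⟨i, hi, rfl⟩
      · exact ⟨g, hh, Or.inr (Or.inl rfl)⟩
      · exact ⟨h, hh, Or.inr (Or.inr (Or.inl (by rw [mul_assoc, hyy])))⟩
      · exact ⟨h, hh, Or.inl (by rw [← hy]; group)⟩
      · refine ⟨h * (x i)⁻¹, H.mul_mem hh (H.inv_mem (hx i hi)), Or.inr (Or.inr (Or.inr ⟨i, hi, ?_⟩))⟩
        have h1 : (x i)⁻¹ * y = x i * y⁻¹ * (x i)⁻¹ := by
          rw [← hxx i hi, mul_assoc, e2 i hi]; rw [← hxx i hi]; group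
        have h5 : y⁻¹ * y⁻¹ = y := by rw [← mul_inv_rev, hyy, inv_inv]
        calc h * (y * (x i)⁻¹) * y = h * (y * ((x i)⁻¹ * y)) := by group
          _ = h * ((y * x i) * (y⁻¹ * (x i)⁻¹)) := by rw [h1]; group
          _ = h * ((x i)⁻¹ * (y⁻¹ * y⁻¹) * (x i)⁻¹) := by rw [e1 i hi]; group
          _ = h * (x i)⁻¹ * (y * (x i)⁻¹) := by rw [h5]; group
  have hsq : ∀ j < m + 1, x j * x j = (x j)⁻¹ := by
    intro j hj
    rcases Nat.lt_succ_iff_lt_or_eq.1 hj with hj | rfl
    · exact hxx j hj
    · exact hyy
  change T g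
  induction hg using Subgroup.closure_induction_right with
  | one => exact ⟨1, H.one_mem, Or.inl rfl⟩
  | mul_right z hz s hs ih =>
    obtain ⟨j, hj, rfl⟩ := hs
    exact step j hj _ ih
  | mul_inv_cancel z hz s hs ih =>
    obtain ⟨j, hj, rfl⟩ := hs
    rw [← hsq j hj, ← mul_assoc]
    exact step j hj _ (step j hj _ ih)

theorem count [DecidableEq G] (x : ℕ → G) (k : ℕ) (h3 : ∀ i < k, x i ^ 3 = 1)
    (h2 : ∀ i < k, ∀ j < k, i ≠ j → (x i * x j) ^ 2 = 1) (m : ℕ) (hm : m ≤ k) :
    ∃ S : Finset G, S.card ≤ (m + 2).factorial / 2 ∧ ∀ g ∈ closure (x '' {i | i < m}), g ∈ S := by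
  induction m with
  | zero =>
    refine ⟨{1}, by simp, ?_⟩
    intro g hg
    have : x '' {i | i < 0} = ∅ := by simp
    rw [this, Subgroup.closure_empty, mem_bot] at hg
    simp [hg]
  | succ m ih =>
    obtain ⟨S, hS, hmem⟩ := ih (by omega)
    refine ⟨Finset.image₂ (· * ·) S ({1, x m, (x m)⁻¹} ∪ (Finset.range m).image fun i => x m * (x i)⁻¹), ?_, ?_⟩
    · refine (Finset.card_image₂_le _ _ _).trans ?_
      have h1 : ({1, x m, (x m)⁻¹} ∪ (Finset.range m).image fun i => x m * (x i)⁻¹ : Finset G).card ≤ m + 3 := by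
        refine (Finset.card_union_le _ _).trans ?_
        have h4 : ({1, x m, (x m)⁻¹} : Finset G).card ≤ 3 := Finset.card_le_three
        have h5 : ((Finset.range m).image fun i => x m * (x i)⁻¹ : Finset G).card ≤ m := by
          refine Finset.card_image_le.trans ?_
          simp
        omega
      have h6 : 2 ∣ (m + 2).factorial := Nat.dvd_factorial (by norm_num) (by omega)
      have h7 : (m + 1 + 2).factorial / 2 = (m + 2).factorial / 2 * (m + 3) := by
        rw [show m + 1 + 2 = (m + 2) + 1 from rfl, Nat.factorial_succ]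
        obtain ⟨c, hc⟩ := h6
        rw [hc, show (m + 2 + 1) * (2 * c) = 2 * ((m + 3) * c) by ring, Nat.mul_div_cancel_left _ (by norm_num),
          Nat.mul_div_cancel_left _ (by norm_num)]
        ring
      rw [h7]
      exact Nat.mul_le_mul hS h1
    · intro g hg
      obtain ⟨h, hh, hcase⟩ := cover x m (fun i hi => h3 i (by omega))
        (fun i hi j hj => h2 i (by omega) j (by omega)) g hg
      rw [Finset.mem_image₂]
      rcases hcase with rfl | rfl | rfl | ⟨i, hi, rfl⟩
      · exact ⟨g, hmem g hh, 1, by simp, by simp⟩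
      · exact ⟨h, hmem h hh, x m, by simp, rfl⟩
      · exact ⟨h, hmem h hh, (x m)⁻¹, by simp, rfl⟩
      · exact ⟨h, hmem h hh, x m * (x i)⁻¹, by
          rw [Finset.mem_union]; right
          exact Finset.mem_image.2 ⟨i, by simpa using hi, rfl⟩, rfl⟩

end count

section hom
variable {Λ : Type*} [DecidableEq Λ] [Fintype Λ]

/-- `X i` as an element of the alternating group -/
def XA (i : Λ) : alternatingGroup (Option (Option Λ)) := ⟨X i, X_mem i⟩

theorem closure_XA : closure (Set.range (XA : Λ → alternatingGroup (Option (Option Λ)))) = ⊤ := by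
  have h := closure_X (Λ := Λ)
  have h1 : (closure (Set.range (XA : Λ → alternatingGroup (Option (Option Λ))))).map
      (alternatingGroup (Option (Option Λ))).subtype = alternatingGroup (Option (Option Λ)) := by
    rw [MonoidHom.map_closure, ← Set.range_comp]
    exact h
  rw [eq_top_iff]
  intro g _
  have h2 : (g : Perm (Option (Option Λ))) ∈ (closure (Set.range (XA : Λ → alternatingGroup (Option (Option Λ))))).map
      (alternatingGroup (Option (Option Λ))).subtype := by rw [h1]; exact g.2
  obtain ⟨g', hg', he⟩ := mem_map.1 h2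
  have : g' = g := Subtype.ext he
  rwa [← this]

/-- Carmichael: a family satisfying the relations of the `X i` is the image of the `X i` under a homomorphism -/
theorem exists_hom {G : Type*} [Group G] (x : Λ → G) (h3 : ∀ i, x i ^ 3 = 1)
    (h2 : ∀ i j, i ≠ j → (x i * x j) ^ 2 = 1) :
    ∃ φ : alternatingGroup (Option (Option Λ)) →* G, ∀ i, φ (XA i) = x i := by
  classical
  let R : Set (FreeGroup Λ) := {w | (∃ i, w = FreeGroup.of i ^ 3) ∨
    ∃ i j, i ≠ j ∧ w = (FreeGroup.of i * FreeGroup.of j) ^ 2}
  let P := PresentedGroup R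
  let ξ : Λ → P := fun i => PresentedGroup.of i
  have hξ3 : ∀ i, ξ i ^ 3 = 1 := by
    intro i
    have := lift_of_rel (R := R) (r := FreeGroup.of i ^ 3) (Or.inl ⟨i, rfl⟩)
    simpa using this
  have hξ2 : ∀ i j, i ≠ j → (ξ i * ξ j) ^ 2 = 1 := by
    intro i j hij
    have := lift_of_rel (R := R) (r := (FreeGroup.of i * FreeGroup.of j) ^ 2) (Or.inr ⟨i, j, hij, rfl⟩)
    simpa using this
  have hA : ∀ r ∈ R, FreeGroup.lift (XA : Λ → alternatingGroup (Option (Option Λ))) r = 1 := by
    rintro r (⟨i, rfl⟩ | ⟨i, j, hij, rfl⟩)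
    · simp only [map_pow, FreeGroup.lift_apply_of]
      exact Subtype.ext (X_cube i)
    · simp only [map_pow, map_mul, FreeGroup.lift_apply_of]
      exact Subtype.ext (X_mul_sq hij)
  have hG : ∀ r ∈ R, FreeGroup.lift x r = 1 := by
    rintro r (⟨i, rfl⟩ | ⟨i, j, hij, rfl⟩)
    · simp [h3 i]
    · simp [h2 i j hij]
  let f : P →* alternatingGroup (Option (Option Λ)) := PresentedGroup.toGroup hA
  have hf : ∀ i, f (ξ i) = XA i := fun i => PresentedGroup.toGroup.of hA
  have hsurj : Function.Surjective f := by
    rw [← MonoidHom.range_eq_top, eq_top_iff, ← closure_XA, closure_le]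
    rintro _ ⟨i, rfl⟩
    exact ⟨ξ i, hf i⟩
  -- counting
  obtain ⟨k, ⟨e⟩⟩ : ∃ k, Nonempty (Λ ≃ Fin k) := ⟨_, ⟨Fintype.equivFin Λ⟩⟩
  have hk : Fintype.card Λ = k := by rw [Fintype.card_congr e, Fintype.card_fin]
  let y : ℕ → P := fun n => if h : n < k then ξ (e.symm ⟨n, h⟩) else 1
  obtain ⟨S, hS, hmem⟩ := count y k (by
      intro i hi
      simp only [y, dif_pos hi]
      exact hξ3 _) (by
      intro i hi j hj hij
      simp only [y, dif_pos hi, dif_pos hj]
      exact hξ2 _ _ (by
        intro h
        apply hij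
        have := e.symm.injective h
        simpa using this)) k le_rfl
  have htop : closure (y '' {i | i < k}) = ⊤ := by
    rw [eq_top_iff, ← closure_of_eq_top R, closure_le]
    rintro _ ⟨i, rfl⟩
    refine subset_closure ⟨(e i : ℕ), (e i).2, ?_⟩
    simp [y, ξ]
  have hfin : Finite P := by
    apply Set.finite_univ_iff.1
    refine Set.Finite.subset S.finite_toSet ?_
    intro g _
    exact hmem g (by rw [htop]; trivial)
  have hcard : Nat.card P ≤ (k + 2).factorial / 2 := by
    refine le_trans ?_ hS
    have h1 : (Set.univ : Set P) ⊆ (S : Set P) := fun g _ => hmem g (by rw [htop]; trivial)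
    have := Set.ncard_le_ncard h1 S.finite_toSet
    rwa [Set.ncard_univ, Set.ncard_coe_finset] at this
  have hcard2 : Nat.card (alternatingGroup (Option (Option Λ))) = (k + 2).factorial / 2 := by
    have h1 := two_mul_nat_card_alternatingGroup (α := Option (Option Λ))
    rw [Nat.card_perm, Nat.card_eq_fintype_card (α := Option (Option Λ)), Fintype.card_option,
      Fintype.card_option, hk, show k + 1 + 1 = k + 2 from rfl] at h1
    omega
  have hbij : Function.Bijective f :=
    hsurj.bijective_of_nat_card_le (by rw [hcard2]; exact hcard)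
  let E : P ≃* alternatingGroup (Option (Option Λ)) := MulEquiv.ofBijective f hbij
  refine ⟨(PresentedGroup.toGroup hG).comp E.symm.toMonoidHom, fun i => ?_⟩
  have : E.symm (XA i) = ξ i := by
    rw [MulEquiv.symm_apply_eq]
    exact (hf i).symm
  change (PresentedGroup.toGroup hG) (E.symm (XA i)) = x i
  rw [this]
  exact PresentedGroup.toGroup.of hG

end hom

end Cfsg.Agent.GK
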