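import Cfsg.Agent.GK.T3k

/-!
Two generators of the three-dimensional unitary groups.
-/

set_option autoImplicit false
set_option linter.unusedSectionVars false
set_option linter.unusedVariables false
set_option linter.unusedSimpArgs false

namespace Cfsg.Agent.GK.G2

open Subgroup Polynomial Cfsg.Agent.ClBN Cfsg.Agent.Uni Cfsg.Agent.GK.T3
open Cfsg.Agent.GK (IsPres IsGen adjoin_cases)
open scoped commutatorElement

universe v

section abs
variable {G : Type*} [Group G]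

/-- the commutator trick -/
theorem trick {h x w : G} (hc : Commute h (w * h * w⁻¹)) : ⁅h, (x * w) * h * (x * w)⁻¹⁆ =
    (h * (x * ((w * h * w⁻¹) * x⁻¹ * (w * h * w⁻¹)⁻¹)) * h⁻¹) * (x * ((w * h * w⁻¹) * x⁻¹ * (w * h * w⁻¹)⁻¹))⁻¹ := by
  set h' := w * h * w⁻¹ with hh'
  have e1 : (x * w) * h * (x * w)⁻¹ = (x * (h' * x⁻¹ * h'⁻¹)) * h' := by rw [hh']; group
  rw [e1]
  set X := x * (h' * x⁻¹ * h'⁻¹)
  rw [commutatorElement_def]
  have e2 : h * (X * h') * h⁻¹ * (X * h')⁻¹ = h * X * h⁻¹ * (h * h' * h⁻¹ * h'⁻¹) * X⁻¹ := by group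
  have e3 : h * h' * h⁻¹ * h'⁻¹ = 1 := by rw [hc.eq]; group
  rw [e2, e3, mul_one]

/-- the additive span -/
theorem span_all {F : Type*} [Field F] {p : ℕ} [hp : Fact p.Prime] [Algebra (ZMod p) F] {κ : F}
    (hκ : ∀ s : F, ∃ f : (ZMod p)[X], aeval κ f = s) (A : AddSubgroup F) (hA : ∀ a ∈ A, κ * a ∈ A) {c : F} (hc : c ∈ A) (hc0 : c ≠ 0) (a : F) : a ∈ A := by
  have key : ∀ f : (ZMod p)[X], aeval κ f * c ∈ A := by
    intro f
    induction f using Polynomial.induction_on' with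
    | add f g h1 h2 => rw [map_add, add_mul]; exact add_mem h1 h2
    | monomial n r =>
      have h1 : κ ^ n * c ∈ A := by
        induction n with
        | zero => rw [pow_zero, one_mul]; exact hc
        | succ n ih => rw [pow_succ', mul_assoc]; exact hA _ ih
      rw [aeval_monomial]
      have e : algebraMap (ZMod p) F r * κ ^ n * c = (r.val) • (κ ^ n * c) := by
        rw [nsmul_eq_mul, ← mul_assoc]
        congr 2
        rw [← map_natCast (algebraMap (ZMod p) F), ZMod.natCast_zmod_val]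
      rw [e]
      exact nsmul_mem h1 _
  obtain ⟨f, hf⟩ := hκ (a / c)
  have := key f
  rwa [hf, div_mul_cancel₀ _ hc0] at this

theorem gen_adj {F : Type*} [Field F] {p : ℕ} [hp : Fact p.Prime] [Algebra (ZMod p) F] {ζ : Fˣ} (hζ : IsGen ζ) (s : F) :
    ∃ f : (ZMod p)[X], aeval (ζ : F) f = s := by
  by_cases hs : s = 0
  · exact ⟨0, by rw [hs, map_zero]⟩
  · obtain ⟨n, hn⟩ := hζ (Units.mk0 s hs)
    refine ⟨Polynomial.X ^ n, ?_⟩
    rw [map_pow, aeval_X, ← Units.val_pow_eq_pow_val, hn]; rfl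

end abs

section three
variable {F : Type v} [Field F] [Fintype F] {q : ℕ} (hF : Fintype.card F = q ^ 2)

local notation "SL3" => Matrix.SpecialLinearGroup (Fin 3) F
local notation "σ" => conjHom hF

theorem thU_gen {p : ℕ} [hp : Fact p.Prime] [Algebra (ZMod p) F] [CharP F p] (hq : q ≠ 2) {ζ : Fˣ} (hζ : IsGen ζ) (s : F) :
    ∃ f : (ZMod p)[X], aeval (thU hF ζ : F) f = s := by
  have hq2 := q2 hF
  rcases adjoin_cases (p := p) ((thU hF ζ : Fˣ) : F) with h | ⟨Q, m, n, hQ, hn, hQ2, hcard, hκ⟩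
  · exact h s
  · exfalso
    have h1 : (thU hF ζ) ^ (Q - 1) = 1 := by
      have : (thU hF ζ) ^ Q = thU hF ζ := by
        ext
        rw [Units.val_pow_eq_pow_val]; exact hκ
      have h2 : (thU hF ζ) ^ (Q - 1) * thU hF ζ = thU hF ζ := by
        rw [← pow_succ, Nat.sub_add_cancel (by omega)]
        exact this
      exact mul_eq_right.1 h2
    have h2 : (ζ ^ 3) ^ (Q - 1) = 1 := by
      have e1 := thU_cube hF ζ
      rw [cu_pow_eq, ← pow_add, thU_pow] at e1
      rw [← e1, ← pow_mul, mul_comm, pow_mul]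
      rw [h1, one_pow]
    rw [← pow_mul] at h2
    have h3 := orderOf_dvd_of_pow_eq_one h2
    rw [hζ.orderOf, hcard] at h3
    have h4 := Nat.le_of_dvd (by omega) h3
    have h5 : Q ^ 2 ≤ Q ^ n := Nat.pow_le_pow_right (by omega) hn
    have h6 : Q = 2 := by
      by_contra hcon
      have : 3 ≤ Q := by omega
      obtain ⟨r, rfl⟩ := Nat.exists_eq_add_of_le this
      have h7 : (3 + r) ^ 2 = 9 + 6 * r + r ^ 2 := by ring
      rw [h7] at h5
      omega
    subst h6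
    have h7 : n = 2 := by
      by_contra hcon
      have h8 : 2 ^ 3 ≤ 2 ^ n := Nat.pow_le_pow_right (by norm_num) (by omega)
      norm_num at h8
      omega
    rw [hF, h7] at hcard
    exact hq ((Nat.pow_left_injective (by norm_num : 2 ≠ 0)) hcard)

/-- the inclusion -/
def inc : Bor hF →* U3 hF := Subgroup.inclusion (Bor_le hF)

theorem two_three (hq : q ≠ 2) : ∃ a b : U3 hF, closure {a, b} = ⊤ := by
  have hq2 := q2 hF
  obtain ⟨p, hc⟩ := CharP.exists F
  have hp : Fact p.Prime := ⟨CharP.char_is_prime F p⟩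
  let _ : Algebra (ZMod p) F := ZMod.algebra F p
  obtain ⟨ζ, hζ⟩ := Cfsg.Agent.GK.exists_isGen F
  obtain ⟨e0, he0⟩ := (Un.tauU hF).tr
  have h0 : Pc σ 1 (-e0) := by
    unfold Pc; rw [map_neg, map_one]; linear_combination -he0
  set s : U3 hF := ⟨sM, sM_mem hF⟩ with hs
  set h : U3 hF := inc hF (bh hF ζ) with hh
  set x : U3 hF := inc hF (bu hF h0) with hx
  set H := closure {h, x * s} with hH
  refine ⟨h, x * s, ?_⟩
  have mh : h ∈ H := subset_closure (Or.inl rfl)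
  have mxs : x * s ∈ H := subset_closure (Or.inr rfl)
  have ss : s * s = 1 := Subtype.ext sM_sq
  have sinv' : s⁻¹ = s := inv_eq_of_mul_eq_one_right ss
  have hh' : s * h * s⁻¹ = inc hF (bh hF (cu hF ζ)⁻¹) := by
    rw [sinv']
    exact Subtype.ext (sM_hM σ ζ (tt hF))
  have hcomm : Commute h (s * h * s⁻¹) := by
    rw [hh', hh]
    change inc hF _ * inc hF _ = inc hF _ * inc hF _
    rw [← map_mul, ← map_mul, ← bh_mul, ← bh_mul, mul_comm]
  have htr := trick (x := x) hcomm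
  have mtr : ⁅h, (x * s) * h * (x * s)⁻¹⁆ ∈ H := by
    have m1 : (x * s) * h * (x * s)⁻¹ ∈ H := mul_mem (mul_mem mxs mh) (inv_mem mxs)
    rw [commutatorElement_def]
    exact mul_mem (mul_mem (mul_mem mh m1) (inv_mem mh)) (inv_mem m1)
  set χ : F := (thU hF ζ : F) with hχ
  set χ' : F := (thU hF ((cu hF ζ)⁻¹) : F) with hχ'
  -- the additive group of first coordinates
  let A : AddSubgroup F :=
    { carrier := {a | ∃ (y : F) (hP : Pc σ a y), inc hF (bu hF hP) ∈ H}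
      zero_mem' := ⟨0, Pc.zero _, by
        have : bu hF (Pc.zero σ) = 1 := (bu_one_iff hF _).2 ⟨rfl, rfl⟩
        rw [this, map_one]; exact one_mem _⟩
      add_mem' := by
        rintro a b ⟨y, hP, m⟩ ⟨y', hP', m'⟩
        exact ⟨_, Pc.mul σ (tt hF) hP hP', by rw [← bu_mul hF hP hP', map_mul]; exact mul_mem m m'⟩
      neg_mem' := by
        rintro a ⟨y, hP, m⟩
        exact ⟨_, Pc.inv σ (tt hF) hP, by rw [← bu_inv hF hP, map_inv]; exact inv_mem m⟩ }
  have hA : ∀ a ∈ A, χ * a ∈ A := by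
    rintro a ⟨y, hP, m⟩
    have h1 := Pc.conj σ (tt hF) hP ζ
    have e : χ * a = ((ζ : Fˣ) : F) ^ 2 * (σ (ζ : F))⁻¹ * a := by rw [hχ, thU_coe]
    rw [e]
    exact ⟨_, h1, by rw [← bh_conj hF hP ζ, map_mul, map_mul, map_inv]; exact mul_mem (mul_mem mh m) (inv_mem mh)⟩
  have hcA : (χ - 1) * (1 - χ') ∈ A := by
    rw [htr, hh'] at mtr
    have i1 := Pc.inv σ (tt hF) h0
    have i2 := Pc.conj σ (tt hF) i1 ((cu hF ζ)⁻¹)
    have i3 := Pc.mul σ (tt hF) h0 i2
    have i4 := Pc.conj σ (tt hF) i3 ζ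
    have i5 := Pc.inv σ (tt hF) i3
    have i6 := Pc.mul σ (tt hF) i4 i5
    have e1 : x * (inc hF (bh hF (cu hF ζ)⁻¹) * x⁻¹ * (inc hF (bh hF (cu hF ζ)⁻¹))⁻¹) = inc hF (bu hF i3) := by
      rw [hx, ← map_inv, bu_inv, ← map_inv, ← map_mul, ← map_mul, bh_conj, ← map_mul, bu_mul]
    have e2 : h * (x * (inc hF (bh hF (cu hF ζ)⁻¹) * x⁻¹ * (inc hF (bh hF (cu hF ζ)⁻¹))⁻¹)) * h⁻¹ *
        (x * (inc hF (bh hF (cu hF ζ)⁻¹) * x⁻¹ * (inc hF (bh hF (cu hF ζ)⁻¹))⁻¹))⁻¹ = inc hF (bu hF i6) := by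
      rw [e1, hh, ← map_inv (inc hF) (bh hF ζ), ← map_inv (inc hF) (bu hF i3), ← map_mul, ← map_mul, ← map_mul, bh_conj hF i3 ζ, bu_inv hF i3, bu_mul hF i4 i5]
    rw [e2] at mtr
    have e3 : (χ - 1) * (1 - χ') = ((ζ : Fˣ) : F) ^ 2 * (σ (ζ : F))⁻¹ *
        (1 + (((cu hF ζ)⁻¹ : Fˣ) : F) ^ 2 * (σ (((cu hF ζ)⁻¹ : Fˣ) : F))⁻¹ * -1) +
        -(1 + (((cu hF ζ)⁻¹ : Fˣ) : F) ^ 2 * (σ (((cu hF ζ)⁻¹ : Fˣ) : F))⁻¹ * -1) := by
      rw [hχ, hχ', thU_coe, thU_coe]; ring
    rw [e3]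
    exact ⟨_, i6, mtr⟩
  have hthne : thU hF ζ ≠ 1 := by
    intro e
    obtain ⟨f, hf⟩ := thU_gen (p := p) hF hq hζ (ζ : F)
    rw [e, Units.val_one] at hf
    have h3 : σ (aeval (1 : F) f) = aeval (1 : F) f := fix_aeval hF (map_one _) f
    rw [hf] at h3
    have := (zeta_fix (hF := hF) hζ 1).1 (by rw [pow_one]; exact h3)
    have := Nat.le_of_dvd one_pos this
    omega
  have hne : (χ - 1) * (1 - χ') ≠ 0 := by
    refine mul_ne_zero (sub_ne_zero.2 ?_) (sub_ne_zero.2 ?_)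
    · intro e; apply hthne; exact Units.ext e
    · intro e
      apply hthne
      have e1 : thU hF ((cu hF ζ)⁻¹) = 1 := Units.ext e.symm
      rw [thU_inv, inv_eq_one, cu_pow_eq, thU_pow, ← cu_pow_eq hF] at e1
      have e2 := congrArg (cu hF) e1
      rw [cu_cu] at e2
      rw [e2]; exact map_one (Units.map _)
  have hall : ∀ a : F, a ∈ A := span_all (thU_gen (p := p) hF hq hζ) A hA hcA hne
  -- the centre
  have hcen : ∀ {c : F} (hc : σ c = -c), inc hF (bu hF (Pc_z hc)) ∈ H := by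
    intro c hc
    obtain ⟨y1, hP1, m1⟩ := hall 1
    obtain ⟨y2, hP2, m2⟩ := hall (c * e0)
    obtain ⟨hz, e⟩ := bu_comm hF hP1 hP2
    have e3 : bu hF (Pc_z hc) = bu hF (Pc_z hz) := bu_congr hF _ _ rfl (by
      rw [map_one, map_mul, hc]
      linear_combination (-c) * he0)
    rw [e3, ← e, map_commutatorElement, commutatorElement_def]
    exact mul_mem (mul_mem (mul_mem m1 m2) (inv_mem m1)) (inv_mem m2)
  have hbu : ∀ {a y : F} (hP : Pc σ a y), inc hF (bu hF hP) ∈ H := by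
    intro a y hP
    obtain ⟨y1, hP1, m1⟩ := hall a
    have hsk : σ (y - y1) = -(y - y1) := by
      unfold Pc at hP hP1
      rw [map_sub]
      linear_combination hP - hP1
    have e : bu hF hP = bu hF (Pc_z hsk) * bu hF hP1 := by
      rw [bu_mul]
      exact bu_congr hF _ _ (by ring) (by ring)
    rw [e, map_mul]
    exact mul_mem (hcen hsk) m1
  have ms : s ∈ H := by
    have : s = x⁻¹ * (x * s) := by group
    rw [this]
    exact mul_mem (inv_mem (hbu h0)) mxs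
  have hbor : ∀ b : Bor hF, inc hF b ∈ H := by
    intro b
    obtain ⟨a, y, c, hP, e⟩ := b.2
    have e1 : b = bu hF hP * bh hF c := Subtype.ext e
    obtain ⟨n, rfl⟩ := hζ c
    rw [e1, map_mul, bh_pow, map_pow]
    exact mul_mem (hbu hP) (pow_mem mh n)
  rw [eq_top_iff]
  rintro g -
  rcases bruhat hF g.2 with hb | ⟨b1, hb1, b2, hb2, e⟩
  · exact hbor ⟨g, hb⟩
  · have : g = inc hF ⟨b1, hb1⟩ * s * inc hF ⟨b2, hb2⟩ := Subtype.ext e
    rw [this]
    exact mul_mem (mul_mem (hbor _) ms) (hbor _)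

end three

end Cfsg.Agent.GK.G2
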