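import Cfsg.Agent.GK.G2a
import Cfsg.Agent.GK.Un28

/-!
Two generators of the unitary groups of rank at least two: monomial elements.
-/

set_option autoImplicit false
set_option linter.unusedSectionVars false
set_option linter.unusedVariables false
set_option linter.unusedSimpArgs false

namespace Cfsg.Agent.GK.G2

open Subgroup Cfsg.Agent.Stb Cfsg.Agent.GK.Un
open Cfsg.Agent.GK (Mo exists_mo tvl tvl_com tvl_congr emb2 hm pmat pmat_apply det_pmat IsGen)
open Om (Mo_emb2_fst Mo_emb2_snd Mo_emb2_out)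
open scoped commutatorElement

attribute [local instance] Stb.sumNeg

universe v

section mon
variable {F : Type v} [Field F] {l : Type*} [Fintype l] [DecidableEq l]

/-- monomial matrices of determinant one -/
theorem exists_cmon (π : Equiv.Perm l) (o : l) : ∃ (c : Matrix.SpecialLinearGroup l F) (ε : l → Fˣ), ∀ i, Mo c i (π i) (ε i) := by
  classical
  let s : Fˣ := Units.map (Int.castRingHom F : ℤ →* F) (Equiv.Perm.sign π)
  let ε : l → Fˣ := fun i => if i = o then s else 1
  have hs : ((s : Fˣ) : F) = ((Equiv.Perm.sign π : ℤ) : F) := rfl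
  have hprod : ∏ i, ((ε i : Fˣ) : F) = s := by
    rw [Finset.prod_eq_single o]
    · change ((if o = o then s else 1 : Fˣ) : F) = _
      rw [if_pos rfl]
    · intro b _ hb
      change ((if b = o then s else 1 : Fˣ) : F) = _
      rw [if_neg hb]; rfl
    · intro h; exact absurd (Finset.mem_univ _) h
  have hdet : ((pmat π : Matrix l l F) * Matrix.diagonal (fun i => (ε i : F))).det = 1 := by
    rw [Matrix.det_mul, det_pmat, Matrix.det_diagonal, hprod, hs, ← Int.cast_mul]
    have : ((Equiv.Perm.sign π : ℤˣ) : ℤ) * ((Equiv.Perm.sign π : ℤˣ) : ℤ) = 1 := by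
      rw [← Units.val_mul, Int.units_mul_self]; rfl
    rw [this, Int.cast_one]
  refine ⟨⟨pmat π * Matrix.diagonal (fun i => (ε i : F)), hdet⟩, ε, fun i => ⟨fun m => ?_, fun m => ?_⟩⟩
  · change ((pmat π : Matrix l l F) * Matrix.diagonal (fun i => (ε i : F))) m i = _
    rw [Matrix.mul_diagonal, pmat_apply]
    split_ifs
    · rw [one_mul]
    · rw [zero_mul]
  · change ((pmat π : Matrix l l F) * Matrix.diagonal (fun i => (ε i : F))) (π i) m = _
    rw [Matrix.mul_diagonal, pmat_apply]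
    by_cases h : m = i
    · subst h
      rw [if_pos rfl, if_pos rfl, one_mul]
    · rw [if_neg (fun e => h (π.injective e).symm), if_neg h, zero_mul]

/-- adjacent transvections generate -/
theorem adj_all {n : ℕ} (K : Subgroup (Matrix.SpecialLinearGroup (Fin (n + 1)) F))
    (h1 : ∀ (i : ℕ) (hi : i + 1 < n + 1) (h : (⟨i, by omega⟩ : Fin (n + 1)) ≠ ⟨i + 1, hi⟩) (a : F), tvl h a ∈ K)
    (h2 : ∀ (i : ℕ) (hi : i + 1 < n + 1) (h : (⟨i + 1, hi⟩ : Fin (n + 1)) ≠ ⟨i, by omega⟩) (a : F), tvl h a ∈ K) : K = ⊤ := by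
  let R : Fin (n + 1) → Fin (n + 1) → Prop := fun i j => ∀ (h : i ≠ j) (a : F), tvl h a ∈ K
  have trans : ∀ i j k, R i j → R j k → R i k := by
    intro i j k hij hjk hik a
    by_cases e1 : i = j
    · subst e1; exact hjk hik a
    by_cases e2 : j = k
    · subst e2; exact hij hik a
    have := tvl_com e1 e2 hik a (1 : F)
    rw [mul_one] at this
    rw [← this, commutatorElement_def]
    exact mul_mem (mul_mem (mul_mem (hij e1 a) (hjk e2 1)) (inv_mem (hij e1 a))) (inv_mem (hjk e2 1))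
  have up : ∀ (i : ℕ) (hi : i < n + 1), R ⟨0, by omega⟩ ⟨i, hi⟩ := by
    intro i
    induction i with
    | zero => intro _ h; exact absurd rfl h
    | succ i ih => intro hi; exact trans _ _ _ (ih (by omega)) (fun h a => h1 i hi h a)
  have dn : ∀ (i : ℕ) (hi : i < n + 1), R ⟨i, hi⟩ ⟨0, by omega⟩ := by
    intro i
    induction i with
    | zero => intro _ h; exact absurd rfl h
    | succ i ih => intro hi; exact trans _ _ _ (fun h a => h2 i hi h a) (ih (by omega))
  apply H40.sl_eq_top_of_transvections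
  intro i j hij a
  exact trans i _ j (dn i.1 i.2) (up j.1 j.2) hij a

end mon

section mn
variable {F : Type v} [Field F] {l : Type} [Fintype l] [DecidableEq l] {W Γ : Type*} [AddCommGroup W] [Module F W] [Group Γ]
variable {τ : F →+* F} {ν : F} {h0 : W → W → F} {yG : (l ⊕ l) → (l ⊕ l) → F → Γ} {zG : (l ⊕ l) → W → F → Γ}
variable {ρ : Γ →* (((l ⊕ l → F) × W) ≃ₗ[F] ((l ⊕ l → F) × W))} {σ : Matrix.SpecialLinearGroup l F →* Γ} {S : l → Γ}
variable (C : Un.CG τ ν h0 (PF τ h0) yG zG ρ σ S)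

theorem Mn_mul {g g' : Γ} {π π' : l ⊕ l → l ⊕ l} {c c' : l ⊕ l → F} (M : Mn ρ g π c) (N : Mn ρ g' π' c') :
    Mn ρ (g * g') (π ∘ π') (fun p => c' p * c (π' p)) where
  neg p := by rw [Function.comp_apply, Function.comp_apply, N.neg, M.neg]
  inj := M.inj.comp N.inj
  act p := by rw [hrho_mul, N.act, map_smul, M.act, smul_smul]; rfl

include C in
theorem Mn_σ {M : Matrix.SpecialLinearGroup l F} {π : Equiv.Perm l} {ε : l → Fˣ} (h : ∀ i, Mo M i (π i) (ε i)) :
    Mn ρ (σ M) (Sum.map π π) (Sum.elim (fun i => (ε i : F)) (fun i => τ (((ε i)⁻¹ : Fˣ) : F))) where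
  neg p := by rcases p with i | i <;> rfl
  inj := Function.Injective.sumMap π.injective π.injective
  act p := by
    rcases p with i | i
    · rw [C.act, LM_eh_inl τ (h i)]; rfl
    · rw [C.act, LM_eh_inr τ (h i)]; rfl

/-- the conjugate of a diagonal element -/
theorem Mn_conj {g w : Γ} {P : l ⊕ l → l ⊕ l} {κ c : l ⊕ l → F} (M : Mn ρ w P κ) (N : Mn ρ g id c) :
    ∃ c', Mn ρ (w * g * w⁻¹) id c' ∧ ∀ p, c' (P p) = c p := by
  have hsurj : Function.Surjective P := Finite.injective_iff_surjective.1 M.inj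
  have hinv : ∀ p, Function.surjInv hsurj (P p) = p := fun p => M.inj (Function.surjInv_eq hsurj (P p))
  refine ⟨fun q => c (Function.surjInv hsurj q), ⟨fun _ => rfl, Function.injective_id, fun q => ?_⟩, fun p => by
    change c (Function.surjInv hsurj (P p)) = c p
    rw [hinv]⟩
  obtain ⟨p, rfl⟩ := hsurj q
  have e1 : ρ w (ρ w⁻¹ (eh (P p))) = eh (P p) := by rw [← hrho_mul, mul_inv_cancel, map_one]; rfl
  have e2 : ρ w⁻¹ (eh (P p)) = (κ p)⁻¹ • (eh p : (l ⊕ l → F) × W) := by
    have h1 : ρ w ((κ p)⁻¹ • (eh p : (l ⊕ l → F) × W)) = eh (P p) := by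
      rw [map_smul, M.act, smul_smul, inv_mul_cancel₀ (M.ne0 p), one_smul]
    apply (ρ w).injective
    rw [e1, h1]
  rw [hrho_mul, hrho_mul, e2, map_smul, N.act, map_smul, map_smul, id, M.act, smul_smul, smul_smul, hinv]
  congr 1
  have := M.ne0 p
  field_simp

include C in
theorem diag_comm {g g' : Γ} {c c' : l ⊕ l → F} (M : Mn ρ g id c) (N : Mn ρ g' id c') (hg : ∀ w, ρ g (wh w) = wh w) (hg' : ∀ w, ρ g' (wh w) = wh w) :
    Commute g g' := by
  apply C.inj
  apply LinearEquiv.toLinearMap_injective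
  apply ext_eh'
  · intro p
    change ρ (g * g') (eh p) = ρ (g' * g) (eh p)
    rw [hrho_mul, hrho_mul, M.act, N.act, map_smul, map_smul]
    simp only [id]
    rw [M.act, N.act, smul_smul, smul_smul, mul_comm]
  · intro w
    change ρ (g * g') (wh w) = ρ (g' * g) (wh w)
    rw [hrho_mul, hrho_mul, hg, hg', hg]

end mn

end Cfsg.Agent.GK.G2
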