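import Cfsg.Agent.GK.G2b

/-!
Two generators of the unitary groups of rank at least two: the cyclic element.
-/

set_option autoImplicit false
set_option linter.unusedSectionVars false
set_option linter.unusedVariables false
set_option linter.unusedSimpArgs false

namespace Cfsg.Agent.GK.G2

open Subgroup Cfsg.Agent.Stb Cfsg.Agent.GK.Un
open Cfsg.Agent.GK (Mo exists_mo tvl tvl_com tvl_congr emb2 hm pmat pmat_apply det_pmat IsGen)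
open Om (Mo_emb2_fst Mo_emb2_snd Mo_emb2_out)
open scoped commutatorElement

attribute [local instance] Stb.sumNeg

universe v

section cy
variable {F : Type v} [Field F] {n : ℕ} {W Γ : Type*} [AddCommGroup W] [Module F W] [Group Γ]
variable {τ : F →+* F} {ν : F} {h0 : W → W → F} {yG : (Fin (n + 1) ⊕ Fin (n + 1)) → (Fin (n + 1) ⊕ Fin (n + 1)) → F → Γ} {zG : (Fin (n + 1) ⊕ Fin (n + 1)) → W → F → Γ}
variable {ρ : Γ →* (((Fin (n + 1) ⊕ Fin (n + 1) → F) × W) ≃ₗ[F] ((Fin (n + 1) ⊕ Fin (n + 1) → F) × W))} {σ : Matrix.SpecialLinearGroup (Fin (n + 1)) F →* Γ} {S : Fin (n + 1) → Γ}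

/-- the properties of the two elements -/
structure WD (τ : F →+* F) (ρ : Γ →* (((Fin (n + 1) ⊕ Fin (n + 1) → F) × W) ≃ₗ[F] ((Fin (n + 1) ⊕ Fin (n + 1) → F) × W)))
    (σ : Matrix.SpecialLinearGroup (Fin (n + 1)) F →* Γ) (S : Fin (n + 1) → Γ) (ζ : Fˣ) (w h : Γ) (P : (Fin (n + 1) ⊕ Fin (n + 1)) → (Fin (n + 1) ⊕ Fin (n + 1)))
    (κ ch c' : (Fin (n + 1) ⊕ Fin (n + 1)) → F) : Prop where
  mw : Mn ρ w P κ
  mh : Mn ρ h id ch
  mc : Mn ρ (w * h * w⁻¹) id c'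
  ww : ∀ v, ρ w (Stb.wh v) = Stb.wh v
  wh : ∀ v, ρ h (Stb.wh v) = Stb.wh v
  wc : ∀ v, ρ (w * h * w⁻¹) (Stb.wh v) = Stb.wh v
  pl : ∀ (i : ℕ) (hi : i + 1 < n + 1), P (Sum.inl ⟨i, by omega⟩) = Sum.inl ⟨i + 1, hi⟩
  pr : ∀ (i : ℕ) (hi : i + 1 < n + 1), P (Sum.inr ⟨i, by omega⟩) = Sum.inr ⟨i + 1, hi⟩
  pll : P (Sum.inl (Fin.last n)) = Sum.inr 0
  prl : P (Sum.inr (Fin.last n)) = Sum.inl 0
  h0 : ch (Sum.inl 0) = ζ
  c0 : c' (Sum.inl 0) = τ ζ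
  c1 : c' (Sum.inr 1) = τ ((ζ⁻¹ : Fˣ) : F)
  h1 : ch (Sum.inr 1) = 1 ∨ ch (Sum.inr 1) = τ ζ
  ex : ∃ M, w = S 0 * σ M

variable (C : Un.CG τ ν h0 (PF τ h0) yG zG ρ σ S)
include C

theorem exists_WD (hn : 1 ≤ n) (ζ : Fˣ) : ∃ (w h : Γ) (P : (Fin (n + 1) ⊕ Fin (n + 1)) → (Fin (n + 1) ⊕ Fin (n + 1))) (κ ch c' : (Fin (n + 1) ⊕ Fin (n + 1)) → F),
    WD τ ρ σ S ζ w h P κ ch c' := by
  obtain ⟨M, ε, hM⟩ := exists_cmon (F := F) (finRotate (n + 1)) 0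
  have h0l : (0 : Fin (n + 1)) ≠ Fin.last n := by
    intro e
    have := congrArg Fin.val e
    simp at this
    omega
  let χ : Fin (n + 1) → Fˣ := fun i => if i = 0 then ζ else if i = Fin.last n then ζ⁻¹ else 1
  have hD : ∀ i, Mo (emb2 h0l (hm ζ)) i ((1 : Equiv.Perm (Fin (n + 1))) i) (χ i) := by
    intro i
    change Mo (emb2 h0l (hm ζ)) i i (if i = 0 then ζ else if i = Fin.last n then ζ⁻¹ else 1)
    by_cases e0 : i = 0
    · subst e0; rw [if_pos rfl]; exact Mo_emb2_fst h0l ζ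
    · rw [if_neg e0]
      by_cases e1 : i = Fin.last n
      · subst e1; rw [if_pos rfl]; exact Mo_emb2_snd h0l ζ
      · rw [if_neg e1]; exact Mo_emb2_out h0l e0 e1 _
  have m1 := Mn_σ C hM
  have m2 := Mn_σ C hD
  have m3 := Mn_mul (C.mn 0) m1
  have m2' : Mn ρ (σ (emb2 h0l (hm ζ))) id (Sum.elim (fun i => (χ i : F)) (fun i => τ (((χ i)⁻¹ : Fˣ) : F))) := by
    refine ⟨fun _ => rfl, Function.injective_id, fun p => ?_⟩
    rw [m2.act]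
    rcases p with i | i <;> rfl
  obtain ⟨c', m4, hc'⟩ := Mn_conj m3 m2'
  have lt : ∀ (i : ℕ) (hi : i + 1 < n + 1), finRotate (n + 1) ⟨i, by omega⟩ = ⟨i + 1, hi⟩ := fun i hi => finRotate_of_lt (by omega)
  have ne0 : ∀ (i : ℕ) (hi : i + 1 < n + 1), (0 : Fin (n + 1)) ≠ ⟨i + 1, hi⟩ := by
    intro i hi e
    have := congrArg Fin.val e
    simp at this
  have pl : ∀ (i : ℕ) (hi : i + 1 < n + 1), (sk 0 ∘ Sum.map (finRotate (n + 1)) (finRotate (n + 1))) (Sum.inl ⟨i, by omega⟩) = Sum.inl ⟨i + 1, hi⟩ := by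
    intro i hi
    rw [Function.comp_apply, Sum.map_inl, lt i hi, sk_l' (ne0 i hi)]
  have pr : ∀ (i : ℕ) (hi : i + 1 < n + 1), (sk 0 ∘ Sum.map (finRotate (n + 1)) (finRotate (n + 1))) (Sum.inr ⟨i, by omega⟩) = Sum.inr ⟨i + 1, hi⟩ := by
    intro i hi
    rw [Function.comp_apply, Sum.map_inr, lt i hi, sk_r' (ne0 i hi)]
  have pll : (sk 0 ∘ Sum.map (finRotate (n + 1)) (finRotate (n + 1))) (Sum.inl (Fin.last n)) = Sum.inr 0 := by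
    rw [Function.comp_apply, Sum.map_inl, finRotate_last, sk_l]
  have prl : (sk 0 ∘ Sum.map (finRotate (n + 1)) (finRotate (n + 1))) (Sum.inr (Fin.last n)) = Sum.inl 0 := by
    rw [Function.comp_apply, Sum.map_inr, finRotate_last, sk_r]
  have hww : ∀ v, ρ (S 0 * σ M) (Stb.wh v) = Stb.wh v := fun v => by rw [hrho_mul, C.σ_wh, C.S_wh]
  have one' : (⟨0 + 1, by omega⟩ : Fin (n + 1)) = 1 := by
    apply Fin.ext
    rw [Fin.val_one']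
    exact (Nat.mod_eq_of_lt (by omega)).symm
  refine ⟨_, _, _, _, _, c', m3, m2', m4, hww, C.σ_wh _, ?_, pl, pr, pll, prl, ?_, ?_, ?_, ?_, ⟨M, rfl⟩⟩
  · intro v
    rw [hrho_mul, hrho_mul, C.inv_wh (hww v), C.σ_wh, hww]
  · change ((if (0 : Fin (n + 1)) = 0 then ζ else _ : Fˣ) : F) = ζ
    rw [if_pos rfl]
  · rw [← prl, hc']
    change τ ((((if Fin.last n = 0 then ζ else if Fin.last n = Fin.last n then ζ⁻¹ else 1 : Fˣ))⁻¹ : Fˣ) : F) = τ ζ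
    rw [if_neg h0l.symm, if_pos rfl, inv_inv]
  · have := pr 0 (by omega)
    rw [one'] at this
    rw [← this, hc']
    change τ ((((if (0 : Fin (n + 1)) = 0 then ζ else _ : Fˣ))⁻¹ : Fˣ) : F) = _
    rw [if_pos rfl]
  · have h10 : (1 : Fin (n + 1)) ≠ 0 := by rw [← one']; exact (ne0 0 (by omega)).symm
    change τ ((((if (1 : Fin (n + 1)) = 0 then ζ else if (1 : Fin (n + 1)) = Fin.last n then ζ⁻¹ else 1 : Fˣ))⁻¹ : Fˣ) : F) = 1 ∨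
      τ ((((if (1 : Fin (n + 1)) = 0 then ζ else if (1 : Fin (n + 1)) = Fin.last n then ζ⁻¹ else 1 : Fˣ))⁻¹ : Fˣ) : F) = τ ζ
    rw [if_neg h10]
    by_cases e : (1 : Fin (n + 1)) = Fin.last n
    · right; rw [if_pos e, inv_inv]
    · left; rw [if_neg e, inv_one, Units.val_one, map_one]

variable {w h : Γ} {P : (Fin (n + 1) ⊕ Fin (n + 1)) → (Fin (n + 1) ⊕ Fin (n + 1))} {κ ch c' : (Fin (n + 1) ⊕ Fin (n + 1)) → F} {ζ : Fˣ}
  (D : WD τ ρ σ S ζ w h P κ ch c') {H : Subgroup Γ} (hwH : w ∈ H)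
include D hwH

theorem stepY {p q : Fin (n + 1) ⊕ Fin (n + 1)} (h1 : p ≠ q) (h2 : p ≠ -q) (hY : ∀ a, yG p q a ∈ H) (a : F) : yG (P p) (P q) a ∈ H := by
  have k1 := D.mw.ne0 p
  have k2 : τ (κ q) ≠ 0 := (map_ne_zero τ).2 (D.mw.ne0 q)
  have e := D.mw.conj_y C.H C.ne C.A h1 h2 (a / (κ p * τ (κ q)))
  rw [mul_div_cancel₀ _ (mul_ne_zero k1 k2)] at e
  rw [← C.inj e]
  exact mul_mem (mul_mem hwH (hY _)) (inv_mem hwH)

theorem stepZ {p : Fin (n + 1) ⊕ Fin (n + 1)} (hZ : ∀ v e, PF τ h0 v e → zG p v e ∈ H) (v : W) (e : F) (hP : PF τ h0 v e) : zG (P p) v e ∈ H := by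
  have k1 := D.mw.ne0 p
  have k2 : τ (κ p) ≠ 0 := (map_ne_zero τ).2 k1
  have hP1 := C.H.P_smul hP (τ (κ p))⁻¹
  have e1 : τ (κ p) • (ρ w (Stb.wh ((τ (κ p))⁻¹ • v))).2 = v := by
    rw [D.ww]
    change τ (κ p) • ((τ (κ p))⁻¹ • v) = v
    rw [smul_smul, mul_inv_cancel₀ k2, one_smul]
  have e2 : κ p * τ (κ p) * ((τ (κ p))⁻¹ * τ ((τ (κ p))⁻¹) * e) = e := by
    rw [map_inv₀, C.T.ττ]
    field_simp
  have e3 := D.mw.conj_z C.H C.ne C.A p hP1 (by rw [e1, e2]; exact hP)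
  rw [e1, e2] at e3
  rw [← C.inj e3]
  exact mul_mem (mul_mem hwH (hZ _ _ hP1)) (inv_mem hwH)

end cy

end Cfsg.Agent.GK.G2
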