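import Cfsg.Agent.GK.G2c

/-!
Two generators of the unitary groups of rank at least two.
-/

set_option autoImplicit false
set_option linter.unusedSectionVars false
set_option linter.unusedVariables false
set_option linter.unusedSimpArgs false

namespace Cfsg.Agent.GK.G2

open Subgroup Cfsg.Agent.Stb Cfsg.Agent.GK.Un
open Cfsg.Agent.GK (Mo exists_mo tvl tvl_com tvl_congr emb2 hm pmat pmat_apply det_pmat IsGen)
open Om (Mo_emb2_fst Mo_emb2_snd Mo_emb2_out)
open scoped commutatorElement Polynomial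

attribute [local instance] Stb.sumNeg

universe v

section cy
variable {F : Type v} [Field F] {n : ℕ} {W Γ : Type*} [AddCommGroup W] [Module F W] [Group Γ]
variable {τ : F →+* F} {ν : F} {h0 : W → W → F} {yG : (Fin (n + 1) ⊕ Fin (n + 1)) → (Fin (n + 1) ⊕ Fin (n + 1)) → F → Γ} {zG : (Fin (n + 1) ⊕ Fin (n + 1)) → W → F → Γ}
variable {ρ : Γ →* (((Fin (n + 1) ⊕ Fin (n + 1) → F) × W) ≃ₗ[F] ((Fin (n + 1) ⊕ Fin (n + 1) → F) × W))} {σ : Matrix.SpecialLinearGroup (Fin (n + 1)) F →* Γ} {S : Fin (n + 1) → Γ}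
variable (C : Un.CG τ ν h0 (PF τ h0) yG zG ρ σ S)

include C in
theorem comm_h {ζ : Fˣ} {w h : Γ} {P : (Fin (n + 1) ⊕ Fin (n + 1)) → (Fin (n + 1) ⊕ Fin (n + 1))} {κ ch c' : (Fin (n + 1) ⊕ Fin (n + 1)) → F}
    (D : WD τ ρ σ S ζ w h P κ ch c') : Commute h (w * h * w⁻¹) := diag_comm C D.mh D.mc D.wh D.wc

theorem trick_mem {G : Type*} [Group G] {h x w : G} (hc : Commute h (w * h * w⁻¹)) :
    (h * (x * ((w * h * w⁻¹) * x⁻¹ * (w * h * w⁻¹)⁻¹)) * h⁻¹) * (x * ((w * h * w⁻¹) * x⁻¹ * (w * h * w⁻¹)⁻¹))⁻¹ ∈ closure {h, x * w} := by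
  rw [← trick hc]
  have mh : h ∈ closure {h, x * w} := subset_closure (Or.inl rfl)
  have mxs : x * w ∈ closure {h, x * w} := subset_closure (Or.inr rfl)
  have m1 : (x * w) * h * (x * w)⁻¹ ∈ closure {h, x * w} := mul_mem (mul_mem mxs mh) (inv_mem mxs)
  rw [commutatorElement_def]
  exact mul_mem (mul_mem (mul_mem mh m1) (inv_mem mh)) (inv_mem m1)

include C in
theorem even_two (hn : 1 ≤ n) {p : ℕ} [hp : Fact p.Prime] [Algebra (ZMod p) F] {ζ : Fˣ} (hζ : IsGen ζ) (hτ : τ (ζ : F) ≠ ζ)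
    (hκ1 : ∀ s : F, ∃ f : (ZMod p)[X], Polynomial.aeval (ζ : F) f = s) (hκ2 : ∀ s : F, ∃ f : (ZMod p)[X], Polynomial.aeval ((ζ : F) ^ 2) f = s)
    (triv : ∀ w : W, w = 0) (top : gp (HX (PF τ h0) yG zG) (fun _ _ => True) = ⊤) : ∃ a b : Γ, closure {a, b} = ⊤ := by
  obtain ⟨w, h, P, κ, ch, c', D⟩ := exists_WD C hn ζ
  have ττ := C.T.ττ
  have R := C.hr
  have h01 : (0 : Fin (n + 1)) ≠ 1 := by
    intro e
    have := congrArg Fin.val e
    rw [Fin.val_one', Nat.mod_eq_of_lt (by omega)] at this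
    simp at this
  have p1 : (Sum.inl 0 : Fin (n + 1) ⊕ Fin (n + 1)) ≠ Sum.inr 1 := Sum.inl_ne_inr
  have p2 : (Sum.inl 0 : Fin (n + 1) ⊕ Fin (n + 1)) ≠ -(Sum.inr 1) := fun e => h01 (Sum.inl_injective e)
  set x := yG (Sum.inl 0) (Sum.inr 1) 1 with hx
  set H := closure {h, x * w} with hH
  refine ⟨h, x * w, ?_⟩
  have mh : h ∈ H := subset_closure (Or.inl rfl)
  have mxs : x * w ∈ H := subset_closure (Or.inr rfl)
  have hmem := trick_mem (x := x) (comm_h C D)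
  have hζ0 := ζ.ne_zero
  have hτζ0 : τ (ζ : F) ≠ 0 := (map_ne_zero τ).2 hζ0
  -- conjugation by the two diagonal elements
  have cj1 : ∀ a, h * yG (Sum.inl 0) (Sum.inr 1) a * h⁻¹ = yG (Sum.inl 0) (Sum.inr 1) (ζ * τ (ch (Sum.inr 1)) * a) := by
    intro a
    have e := C.inj (D.mh.conj_y C.H C.ne C.A p1 p2 a)
    rw [D.h0] at e
    exact e
  have cj2 : ∀ a, (w * h * w⁻¹) * yG (Sum.inl 0) (Sum.inr 1) a * (w * h * w⁻¹)⁻¹ = yG (Sum.inl 0) (Sum.inr 1) (τ ζ * (ζ : F)⁻¹ * a) := by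
    intro a
    have e := C.inj (D.mc.conj_y C.H C.ne C.A p1 p2 a)
    rw [D.c0, D.c1, ττ, Units.val_inv_eq_inv_val] at e
    exact e
  set χ := ζ * τ (ch (Sum.inr 1)) with hχ
  have hχ' : χ = ζ ∨ χ = (ζ : F) ^ 2 := by
    rcases D.h1 with e | e
    · left; rw [hχ, e, map_one, mul_one]
    · right; rw [hχ, e, ττ]; ring
  let A : AddSubgroup F :=
    { carrier := {a | yG (Sum.inl 0) (Sum.inr 1) a ∈ H}
      zero_mem' := by
        change yG (Sum.inl 0) (Sum.inr 1) 0 ∈ H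
        rw [R.zero p1 p2]; exact one_mem _
      add_mem' := by
        intro a b ha hb
        change yG (Sum.inl 0) (Sum.inr 1) (a + b) ∈ H
        rw [R.add p1 p2]; exact mul_mem ha hb
      neg_mem' := by
        intro a ha
        change yG (Sum.inl 0) (Sum.inr 1) (-a) ∈ H
        rw [R.neg p1 p2]; exact inv_mem ha }
  have hA : ∀ a ∈ A, χ * a ∈ A := by
    intro a ha
    change yG (Sum.inl 0) (Sum.inr 1) (χ * a) ∈ H
    rw [← cj1]
    exact mul_mem (mul_mem mh ha) (inv_mem mh)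
  have hcA : (χ - 1) * (1 - τ ζ * (ζ : F)⁻¹) ∈ A := by
    have e1 : x * ((w * h * w⁻¹) * x⁻¹ * (w * h * w⁻¹)⁻¹) = yG (Sum.inl 0) (Sum.inr 1) (1 - τ ζ * (ζ : F)⁻¹) := by
      rw [hx, ← R.neg p1 p2, cj2, ← R.add p1 p2]
      congr 1; ring
    have e2 : h * (x * ((w * h * w⁻¹) * x⁻¹ * (w * h * w⁻¹)⁻¹)) * h⁻¹ * (x * ((w * h * w⁻¹) * x⁻¹ * (w * h * w⁻¹)⁻¹))⁻¹ =
        yG (Sum.inl 0) (Sum.inr 1) ((χ - 1) * (1 - τ ζ * (ζ : F)⁻¹)) := by
      rw [e1, cj1, ← R.neg p1 p2, ← R.add p1 p2]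
      congr 1; ring
    rw [e2] at hmem
    exact hmem
  have hne1 : (1 : F) - τ ζ * (ζ : F)⁻¹ ≠ 0 := by
    intro e
    apply hτ
    have : τ (ζ : F) * (ζ : F)⁻¹ = 1 := (sub_eq_zero.1 e).symm
    field_simp at this
    exact this
  have hχ1 : χ - 1 ≠ 0 := by
    intro e
    have e' : χ = 1 := sub_eq_zero.1 e
    have hbad : ∀ s : F, ∃ f : (ZMod p)[X], Polynomial.aeval (1 : F) f = s := by
      rcases hχ' with e2 | e2
      · rw [← e', e2]; exact hκ1
      · rw [← e', e2]; exact hκ2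
    obtain ⟨f, hf⟩ := hbad ζ
    apply hτ
    rw [← hf, Polynomial.aeval_def, Polynomial.eval₂_eq_sum_range, map_sum]
    refine Finset.sum_congr rfl fun i _ => ?_
    rw [map_mul, one_pow, map_one]
    congr 1
    have : algebraMap (ZMod p) F (f.coeff i) = ((f.coeff i).val : F) := by
      rw [← map_natCast (algebraMap (ZMod p) F), ZMod.natCast_zmod_val]
    rw [this, map_natCast]
  have hall : ∀ a : F, a ∈ A := by
    rcases hχ' with e2 | e2
    · rw [e2] at hA; exact span_all hκ1 A hA hcA (mul_ne_zero hχ1 hne1)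
    · rw [e2] at hA; exact span_all hκ2 A hA hcA (mul_ne_zero hχ1 hne1)
  have hwH : w ∈ H := by
    have : w = x⁻¹ * (x * w) := by group
    rw [this]
    exact mul_mem (inv_mem (hall 1)) mxs
  -- adjacent roots
  have one' : (⟨0 + 1, by omega⟩ : Fin (n + 1)) = 1 := by
    apply Fin.ext
    rw [Fin.val_one']
    exact (Nat.mod_eq_of_lt (by omega)).symm
  have lne : ∀ (i : ℕ) (hi : i + 1 < n + 1), (⟨i, by omega⟩ : Fin (n + 1)) ≠ ⟨i + 1, hi⟩ := by
    intro i hi e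
    have := congrArg Fin.val e
    simp at this
  have up : ∀ (i : ℕ) (hi : i + 1 < n + 1) (a : F), yG (Sum.inl ⟨i, by omega⟩) (Sum.inr ⟨i + 1, hi⟩) a ∈ H := by
    intro i
    induction i with
    | zero =>
      intro hi a
      have := hall a
      change yG (Sum.inl 0) (Sum.inr 1) a ∈ H at this
      rw [← one'] at this
      exact this
    | succ i ih =>
      intro hi a
      have := stepY C D hwH (p := Sum.inl ⟨i, by omega⟩) (q := Sum.inr ⟨i + 1, by omega⟩) Sum.inl_ne_inr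
        (fun e => lne i (by omega) (Sum.inl_injective e)) (ih (by omega)) a
      rwa [D.pl i (by omega), D.pr (i + 1) hi] at this
  have turn1 : ∀ a : F, yG (Sum.inl (Fin.last n)) (Sum.inl 0) a ∈ H := by
    intro a
    obtain ⟨m, rfl⟩ : ∃ m, n = m + 1 := ⟨n - 1, by omega⟩
    have := stepY C D hwH (p := Sum.inl ⟨m, by omega⟩) (q := Sum.inr ⟨m + 1, by omega⟩) Sum.inl_ne_inr
        (fun e => lne m (by omega) (Sum.inl_injective e)) (up m (by omega)) a
    rw [D.pl m (by omega)] at this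
    have e2 : (⟨m + 1, by omega⟩ : Fin (m + 1 + 1)) = Fin.last (m + 1) := rfl
    rw [e2, D.prl] at this
    exact this
  have hl0 : Fin.last n ≠ 0 := by
    intro e
    have := congrArg Fin.val e
    simp at this
    omega
  have turn2 : ∀ a : F, yG (Sum.inr 0) (Sum.inl 1) a ∈ H := by
    intro a
    have := stepY C D hwH (p := Sum.inl (Fin.last n)) (q := Sum.inl 0) (fun e => hl0 (Sum.inl_injective e)) Sum.inl_ne_inr turn1 a
    have e2 := D.pl 0 (by omega)
    have e3 : (⟨0, by omega⟩ : Fin (n + 1)) = 0 := rfl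
    rw [e3, one'] at e2
    rw [D.pll, e2] at this
    exact this
  have q1 : (Sum.inr 0 : Fin (n + 1) ⊕ Fin (n + 1)) ≠ Sum.inl 1 := Sum.inr_ne_inl
  have q2 : (Sum.inr 0 : Fin (n + 1) ⊕ Fin (n + 1)) ≠ -(Sum.inl 1) := fun e => h01 (Sum.inr_injective e)
  have dn : ∀ (i : ℕ) (hi : i + 1 < n + 1) (a : F), yG (Sum.inl ⟨i + 1, hi⟩) (Sum.inr ⟨i, by omega⟩) a ∈ H := by
    intro i
    induction i with
    | zero =>
      intro hi a
      have := turn2 (-τ a)
      rw [R.symm q1 q2, map_neg, neg_neg, ττ, ← one'] at this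
      exact this
    | succ i ih =>
      intro hi a
      have := stepY C D hwH (p := Sum.inl ⟨i + 1, by omega⟩) (q := Sum.inr ⟨i, by omega⟩) Sum.inl_ne_inr
        (fun e => lne i (by omega) (Sum.inl_injective e).symm) (ih (by omega)) a
      rwa [D.pr i (by omega), D.pl (i + 1) hi] at this
  have hσH : σ.range ≤ H := by
    have : H.comap σ = ⊤ := by
      apply adj_all
      · intro i hi h a
        change σ (tvl h a) ∈ H
        rw [C.hσ]; exact up i hi a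
      · intro i hi h a
        change σ (tvl h a) ∈ H
        rw [C.hσ]; exact dn i hi a
    rintro _ ⟨M, rfl⟩
    have hM : M ∈ H.comap σ := by rw [this]; exact mem_top _
    exact hM
  have hS : S 0 ∈ H := by
    obtain ⟨M, hM⟩ := D.ex
    have : S 0 = w * (σ M)⁻¹ := by rw [hM]; group
    rw [this]
    exact mul_mem hwH (inv_mem (hσH ⟨M, rfl⟩))
  rw [eq_top_iff, ← C.gen_even 0 triv top]
  exact sup_le hσH (by rw [zpowers_le]; exact hS)

include C in
theorem odd_two (HH : Herm τ h0) (hn : 1 ≤ n) {p : ℕ} [hp : Fact p.Prime] [Algebra (ZMod p) F] {ζ : Fˣ} (hζ : IsGen ζ) (hζ1 : (ζ : F) ≠ 1)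
    (hκ1 : ∀ s : F, ∃ f : (ZMod p)[X], Polynomial.aeval (τ (ζ : F)) f = s) {w0 : W} (hw0 : w0 ≠ 0) (one : ∀ w : W, ∃ a : F, w = a • w0) {d0 : F} (hP0 : PF τ h0 w0 d0)
    (top : gp (HX (PF τ h0) yG zG) (fun _ _ => True) = ⊤) : ∃ a b : Γ, closure {a, b} = ⊤ := by
  obtain ⟨w, h, P, κ, ch, c', D⟩ := exists_WD C hn ζ
  have ττ := C.T.ττ
  have R := C.hr
  set x := zG (Sum.inl 0) w0 d0 with hx
  set H := closure {h, x * w} with hH
  refine ⟨h, x * w, ?_⟩
  have mh : h ∈ H := subset_closure (Or.inl rfl)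
  have mxs : x * w ∈ H := subset_closure (Or.inr rfl)
  have hmem := trick_mem (x := x) (comm_h C D)
  have hζ0 := ζ.ne_zero
  have hτζ0 : τ (ζ : F) ≠ 0 := (map_ne_zero τ).2 hζ0
  -- conjugation by the two diagonal elements
  have cj1 : ∀ {v e} (hP : PF τ h0 v e), ∃ hP' : PF τ h0 (τ (ζ : F) • v) (ζ * τ ζ * e), h * zG (Sum.inl 0) v e * h⁻¹ = zG (Sum.inl 0) (τ (ζ : F) • v) (ζ * τ ζ * e) := by
    intro v e hP
    have hP' := C.H.P_smul hP (τ (ζ : F))
    rw [ττ, mul_comm (τ (ζ : F)) ζ] at hP'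
    refine ⟨hP', ?_⟩
    have e1 := D.mh.conj_z C.H C.ne C.A (Sum.inl 0) hP (by rw [D.wh, D.h0]; exact hP')
    rw [D.wh, D.h0] at e1
    exact C.inj e1
  have cj2 : ∀ {v e} (hP : PF τ h0 v e), ∃ hP' : PF τ h0 ((ζ : F) • v) (ζ * τ ζ * e), (w * h * w⁻¹) * zG (Sum.inl 0) v e * (w * h * w⁻¹)⁻¹ =
      zG (Sum.inl 0) ((ζ : F) • v) (ζ * τ ζ * e) := by
    intro v e hP
    have hP' := C.H.P_smul hP (ζ : F)
    refine ⟨hP', ?_⟩
    have e1 := D.mc.conj_z C.H C.ne C.A (Sum.inl 0) hP (by rw [D.wc, D.c0, ττ, mul_comm (τ (ζ : F))]; exact hP')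
    rw [D.wc, D.c0, ττ, mul_comm (τ (ζ : F))] at e1
    exact C.inj e1
  have zinv : ∀ {v e} (hP : PF τ h0 v e), ∃ hP' : PF τ h0 (-v) (τ e), (zG (Sum.inl 0) v e)⁻¹ = zG (Sum.inl 0) (-v) (τ e) := by
    intro v e hP
    have hP' : PF τ h0 (-v) (τ e) := by
      have := C.H.P_smul hP (-1)
      rw [neg_smul, one_smul, map_neg, map_one, neg_mul_neg, one_mul, one_mul] at this
      unfold PF at this ⊢
      rw [ττ]
      linear_combination this
    refine ⟨hP', ?_⟩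
    rw [inv_eq_iff_mul_eq_one, R.zmul _ hP hP', add_neg_cancel]
    have e1 : h0 v (-v) = -(h0 v v) := by
      have := HH.smul_right v (-1) v
      rw [neg_smul, one_smul, neg_one_mul] at this
      exact this
    have e2 : e + τ e - h0 v (-v) = 0 := by
      rw [e1]; unfold PF at hP; linear_combination hP
    rw [e2, R.zzero C.H]
  let A : AddSubgroup F :=
    { carrier := {a | ∃ (e : F) (hP : PF τ h0 (a • w0) e), zG (Sum.inl 0) (a • w0) e ∈ H}
      zero_mem' := ⟨0, by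
        unfold PF
        rw [zero_smul, C.H.zero_left]; simp, by rw [zero_smul, R.zzero C.H]; exact one_mem _⟩
      add_mem' := by
        rintro a b ⟨e, hP, m⟩ ⟨e', hP', m'⟩
        have h1 := R.zmul (Sum.inl 0) hP hP'
        have h2 := C.H.P_mul hP hP'
        rw [← add_smul] at h1 h2
        exact ⟨_, h2, by rw [← h1]; exact mul_mem m m'⟩
      neg_mem' := by
        rintro a ⟨e, hP, m⟩
        obtain ⟨hP', h1⟩ := zinv hP
        rw [← neg_smul] at h1 hP'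
        exact ⟨_, hP', by rw [← h1]; exact inv_mem m⟩ }
  have hA : ∀ a ∈ A, τ (ζ : F) * a ∈ A := by
    rintro a ⟨e, hP, m⟩
    obtain ⟨hP', h1⟩ := cj1 hP
    rw [smul_smul] at hP' h1
    exact ⟨_, hP', by rw [← h1]; exact mul_mem (mul_mem mh m) (inv_mem mh)⟩
  have hcA : (τ (ζ : F) - 1) * (1 - ζ) ∈ A := by
    obtain ⟨k1, f1⟩ := zinv hP0
    obtain ⟨k2, f2⟩ := cj2 k1
    have k3 := C.H.P_mul hP0 k2
    have f3 := R.zmul (Sum.inl 0) hP0 k2
    obtain ⟨k4, f4⟩ := cj1 k3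
    obtain ⟨k5, f5⟩ := zinv k3
    have k6 := C.H.P_mul k4 k5
    have f6 := R.zmul (Sum.inl 0) k4 k5
    rw [hx, f1, f2, f3, f4, f5, f6] at hmem
    have e : τ (ζ : F) • (w0 + (ζ : F) • -w0) + -(w0 + (ζ : F) • -w0) = ((τ (ζ : F) - 1) * (1 - ζ)) • w0 := by module
    rw [e] at hmem k6
    exact ⟨_, k6, hmem⟩
  have hall : ∀ a : F, a ∈ A := by
    refine span_all hκ1 A hA hcA (mul_ne_zero (sub_ne_zero.2 ?_) (sub_ne_zero.2 hζ1.symm))
    intro e
    apply hζ1
    have := congrArg τ e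
    rwa [ττ, map_one] at this
  -- the central elements
  have hN : h0 w0 w0 ≠ 0 := fun e => hw0 (HH.aniso e)
  have hNτ : τ (h0 w0 w0) = h0 w0 w0 := HH.symm _ _
  obtain ⟨e0, he0⟩ := C.T.tr
  have hcen : ∀ {c : F} (hc : τ c = -c), zG (Sum.inl 0) 0 c ∈ H := by
    intro c hc
    obtain ⟨y1, k1, m1⟩ := hall 1
    obtain ⟨y2, k2, m2⟩ := hall (c * e0 / h0 w0 w0)
    have f1 := R.zmul (Sum.inl 0) k1 k2
    have f2 := R.zmul (Sum.inl 0) k2 k1
    have k3 : PF τ h0 0 (-c) := by unfold PF; rw [C.H.zero_left, map_neg, hc]; ring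
    have k4 := C.H.P_mul k2 k1
    have f3 := R.zmul (Sum.inl 0) k3 k4
    have e1 : h0 ((1 : F) • w0) ((c * e0 / h0 w0 w0) • w0) = c * e0 := by
      rw [one_smul, HH.smul_right]; field_simp
    have e2 : h0 ((c * e0 / h0 w0 w0) • w0) ((1 : F) • w0) = τ (c * e0) := by
      rw [← HH.symm, e1]
    have e3 : zG (Sum.inl 0) 0 (-c) = (zG (Sum.inl 0) ((1 : F) • w0) y1 * zG (Sum.inl 0) ((c * e0 / h0 w0 w0) • w0) y2) *
        (zG (Sum.inl 0) ((c * e0 / h0 w0 w0) • w0) y2 * zG (Sum.inl 0) ((1 : F) • w0) y1)⁻¹ := by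
      rw [eq_mul_inv_iff_mul_eq, f1, f2, f3, zero_add, C.H.zero_left, e1, e2, add_comm ((1 : F) • w0)]
      congr 1
      rw [map_mul, hc]
      linear_combination c * he0
    have e4 : zG (Sum.inl 0) 0 c = (zG (Sum.inl 0) 0 (-c))⁻¹ := by
      rw [eq_inv_iff_mul_eq_one, R.zmul _ (by unfold PF; rw [C.H.zero_left, hc]; ring) k3, C.H.zero_left, add_zero]
      have : c + -c - 0 = 0 := by ring
      rw [this, R.zzero C.H]
    rw [e4, e3]
    exact inv_mem (mul_mem (mul_mem m1 m2) (inv_mem (mul_mem m2 m1)))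
  have hZ0 : ∀ v e, PF τ h0 v e → zG (Sum.inl 0) v e ∈ H := by
    intro v e hP
    obtain ⟨a, rfl⟩ := one v
    obtain ⟨y1, k1, m1⟩ := hall a
    have hsk : τ (e - y1) = -(e - y1) := by
      unfold PF at hP k1
      rw [map_sub]
      linear_combination hP - k1
    have k2 : PF τ h0 0 (e - y1) := by unfold PF; rw [C.H.zero_left, hsk]; ring
    have e1 := R.zmul (Sum.inl 0) k2 k1
    rw [zero_add, C.H.zero_left] at e1
    have e2 : e - y1 + y1 - 0 = e := by ring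
    rw [e2] at e1
    rw [← e1]
    exact mul_mem (hcen hsk) m1
  have hwH : w ∈ H := by
    have : w = x⁻¹ * (x * w) := by group
    rw [this]
    exact mul_mem (inv_mem (hZ0 _ _ hP0)) mxs
  have hZl : ∀ (i : ℕ) (hi : i < n + 1), ∀ v e, PF τ h0 v e → zG (Sum.inl ⟨i, hi⟩) v e ∈ H := by
    intro i
    induction i with
    | zero => intro _; exact hZ0
    | succ i ih =>
      intro hi
      have := stepZ C D hwH (p := Sum.inl ⟨i, by omega⟩) (ih (by omega))
      rwa [D.pl i hi] at this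
  have hZr : ∀ (i : ℕ) (hi : i < n + 1), ∀ v e, PF τ h0 v e → zG (Sum.inr ⟨i, hi⟩) v e ∈ H := by
    intro i
    induction i with
    | zero =>
      intro _
      have := stepZ C D hwH (p := Sum.inl (Fin.last n)) (hZl n (by omega))
      rw [D.pll] at this
      exact this
    | succ i ih =>
      intro hi
      have := stepZ C D hwH (p := Sum.inr ⟨i, by omega⟩) (ih (by omega))
      rwa [D.pr i hi] at this
  have hσH : σ.range ≤ H := by
    have : H.comap σ = ⊤ := by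
      apply H40.sl_eq_top_of_transvections
      intro i j hij a
      change σ (tvl hij a) ∈ H
      rw [C.hσ]
      have n1 : (Sum.inl i : Fin (n + 1) ⊕ Fin (n + 1)) ≠ Sum.inr j := Sum.inl_ne_inr
      have n2 : (Sum.inl i : Fin (n + 1) ⊕ Fin (n + 1)) ≠ -(Sum.inr j) := fun e => hij (Sum.inl_injective e)
      obtain ⟨y1, k1, m1⟩ := hall 1
      obtain ⟨y2, k2, m2⟩ := hall (-a / h0 w0 w0)
      have e1 := R.c6 n1 n2 k1 k2
      have e2 : -h0 ((1 : F) • w0) ((-a / h0 w0 w0) • w0) = a := by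
        rw [one_smul, HH.smul_right]; field_simp
      rw [e2] at e1
      rw [← e1, commutatorElement_def]
      have t1 := hZl i.1 i.2 _ _ k1
      have t2 := hZr j.1 j.2 _ _ k2
      exact mul_mem (mul_mem (mul_mem t1 t2) (inv_mem t1)) (inv_mem t2)
    rintro _ ⟨M, rfl⟩
    have hM : M ∈ H.comap σ := by rw [this]; exact mem_top _
    exact hM
  have hS : S 0 ∈ H := by
    obtain ⟨M, hM⟩ := D.ex
    have : S 0 = w * (σ M)⁻¹ := by rw [hM]; group
    rw [this]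
    exact mul_mem hwH (inv_mem (hσH ⟨M, rfl⟩))
  rw [eq_top_iff, ← C.gen_odd HH 0 one hP0 top]
  exact sup_le (sup_le hσH (by rw [zpowers_le]; exact hS)) (by rw [zpowers_le]; exact hZ0 _ _ hP0)

end cy

end Cfsg.Agent.GK.G2
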