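import Cfsg.Agent.GK.Un32

/-!
The presentations of `SU_n(q)` and `PSU_n(q)`.
-/

set_option autoImplicit false
set_option linter.unusedSectionVars false
set_option linter.unusedVariables false
set_option linter.unusedSimpArgs false

namespace Cfsg.Agent.GK.Un

open Subgroup Cfsg.Agent.Stb Cfsg.Agent.ClBN Cfsg.Agent.Uni
open scoped commutatorElement

attribute [local instance] Stb.sumNeg

universe v

/-- changing the generators in a two generator group -/
theorem regen_two {G : Type*} [Group G] {k j : ℕ} (hj : j ≤ k) (hk : 0 < k) {R : Finset (FreeGroup (Fin k))} {x : Fin k → G}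
    (P : IsPres (R : Set (FreeGroup (Fin k))) x) (u w : G) (h : closure {u, w} = ⊤) :
    ∃ (R' : Finset (FreeGroup (Fin (j + 2)))) (y : Fin (j + 2) → G), R'.card ≤ R.card + 2 ∧ IsPres (R' : Set (FreeGroup (Fin (j + 2)))) y := by
  classical
  let y : Fin (j + 2) → G := fun i => if h : i.1 < j then x ⟨i.1, by omega⟩ else if i.1 = j then u else w
  let s : Fin (j + 2) → Fin k := fun i => if h : i.1 < j then ⟨i.1, by omega⟩ else ⟨0, hk⟩
  obtain ⟨R', hR', P'⟩ := P.regen y (by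
    rw [eq_top_iff, ← h, closure_le]
    rintro a (rfl | rfl)
    · exact Subgroup.subset_closure ⟨⟨j, by omega⟩, by simp [y]⟩
    · exact Subgroup.subset_closure ⟨⟨j + 1, by omega⟩, by simp [y]⟩) (Finset.univ.image (Fin.castAdd 2)) s (by
    intro i hi
    obtain ⟨i', -, rfl⟩ := Finset.mem_image.1 hi
    simp [y, s]) (by
    intro a ha b hb hab
    obtain ⟨i, -, rfl⟩ := Finset.mem_image.1 (Finset.mem_coe.1 ha)
    obtain ⟨i', -, rfl⟩ := Finset.mem_image.1 (Finset.mem_coe.1 hb)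
    simp only [s, Fin.val_castAdd, i.2, i'.2, dif_pos, Fin.mk.injEq] at hab
    have : i = i' := Fin.ext hab
    rw [this])
  refine ⟨R', y, ?_, P'⟩
  rw [Finset.card_image_of_injective _ (Fin.castAdd_injective j 2), Finset.card_univ, Fintype.card_fin, Fintype.card_fin] at hR'
  omega

section main
variable {F : Type v} [Field F] [Fintype F] {q : ℕ}

variable (F) in
/-- two generators of the special linear group -/
theorem sl_two_gen (n : ℕ) (hn : 3 ≤ n) : ∃ u w : Matrix.SpecialLinearGroup (Fin n) F, closure {u, w} = ⊤ := by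
  by_cases h : n = 3
  · subst h
    obtain ⟨u, g, -, -, h2⟩ := Cfsg.Agent.S2278.result (F := F)
    exact ⟨u, _, h2⟩
  · obtain ⟨⟨u, w, -, -, h3⟩, -⟩ := Cfsg.Agent.S2279.result (F := F) n (by omega)
    exact ⟨u, w, h3⟩

variable (F) in
theorem sl_two_gen' (n : ℕ) (hn : 3 ≤ n) : ∃ g : Fin 2 → Matrix.SpecialLinearGroup (Fin n) F, closure (Set.range g) = ⊤ := by
  obtain ⟨u, w, h⟩ := sl_two_gen F n hn
  refine ⟨![u, w], ?_⟩
  rw [eq_top_iff, ← h, closure_le]
  rintro a (rfl | rfl)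
  · exact Subgroup.subset_closure ⟨0, rfl⟩
  · exact Subgroup.subset_closure ⟨1, rfl⟩

variable (F) in
theorem sln_k (j n : ℕ) (hj : j ≤ 7) (hn : 4 ≤ n) : ∃ (R : Finset (FreeGroup (Fin (j + 2)))) (x : Fin (j + 2) → Matrix.SpecialLinearGroup (Fin n) F),
    R.card ≤ 27 ∧ IsPres (R : Set (FreeGroup (Fin (j + 2)))) x := by
  obtain ⟨R, x, hR, P⟩ := sln_seven F n hn
  obtain ⟨u, w, h⟩ := sl_two_gen F n (by omega)
  obtain ⟨R', y, hR', P'⟩ := regen_two hj (by norm_num) P u w h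
  exact ⟨R', y, by omega, P'⟩

theorem su_four (hF : Fintype.card F = q ^ 2) : ∃ (R : Finset (FreeGroup (Fin 6))) (x : Fin 6 → SU 4 F q),
    R.card ≤ 35 ∧ IsPres (R : Set (FreeGroup (Fin 6))) x := by
  obtain ⟨ζ, hζ⟩ := exists_isGen F
  obtain ⟨RA, hRA, PA⟩ := exists_sl2 F hζ
  obtain ⟨R, x, hR, P⟩ := glue_ev2 hF PA
  obtain ⟨R1, x1, hR1, P1⟩ := P.add_gen (by norm_num)
  obtain ⟨R2, x2, hR2, P2⟩ := P1.add_gen (by norm_num)
  obtain ⟨e⟩ := exists_suEquiv (m := 2) (κ := Empty) hF (n := 4) (by simp)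
  exact ⟨R2, _, by omega, P2.map e⟩

theorem su_five (hF : Fintype.card F = q ^ 2) : ∃ (R : Finset (FreeGroup (Fin 6))) (x : Fin 6 → SU 5 F q),
    R.card ≤ 35 ∧ IsPres (R : Set (FreeGroup (Fin 6))) x := by
  obtain ⟨ζ, hζ⟩ := exists_isGen F
  obtain ⟨RA, hRA, PA⟩ := exists_sl2 F hζ
  obtain ⟨R, x, hR, P⟩ := glue_od2 hF PA
  obtain ⟨R1, x1, hR1, P1⟩ := P.add_gen (by norm_num)
  obtain ⟨e⟩ := exists_suEquiv (m := 2) (κ := Unit) hF (n := 5) (by simp)
  exact ⟨R1, _, by omega, P1.map e⟩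

theorem su_all (hF : Fintype.card F = q ^ 2) (n : ℕ) (hn : 4 ≤ n) : ∃ (R : Finset (FreeGroup (Fin 6))) (x : Fin 6 → SU n F q),
    R.card ≤ 39 ∧ IsPres (R : Set (FreeGroup (Fin 6))) x := by
  obtain ⟨ζ, hζ⟩ := exists_isGen F
  obtain ⟨RB, hRB, PB⟩ := exists_sl2 F hζ
  obtain ⟨RA, hRA, PA⟩ := sl3_pres hζ
  rcases Nat.even_or_odd' n with ⟨m, rfl | rfl⟩
  · by_cases h2 : m = 2
    · subst h2
      obtain ⟨R, x, hR, P⟩ := su_four hF
      exact ⟨R, x, by omega, P⟩
    obtain ⟨e⟩ := exists_suEquiv (m := m) (κ := Empty) hF (n := 2 * m) (by simp; omega)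
    by_cases h3 : m = 3
    · subst h3
      obtain ⟨R, x, hR, P⟩ := glue_ev (n := 2) le_rfl hF PA (gSL ζ) PB.closure
      obtain ⟨R1, x1, hR1, P1⟩ := P.add_gen (by norm_num)
      exact ⟨R1, _, by omega, P1.map e⟩
    · obtain ⟨n', rfl⟩ : ∃ n', m = n' + 1 := ⟨m - 1, by omega⟩
      obtain ⟨R3, x3, hR3, P3⟩ := sln_k F 3 (n' + 1) (by norm_num) (by omega)
      obtain ⟨g, hg⟩ := sl_two_gen' F n' (by omega)
      obtain ⟨R, x, hR, P⟩ := glue_ev (by omega) hF P3 g hg
      exact ⟨R, _, by omega, P.map e⟩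
  · by_cases h2 : m = 2
    · subst h2
      obtain ⟨R, x, hR, P⟩ := su_five hF
      exact ⟨R, x, by omega, P⟩
    obtain ⟨e⟩ := exists_suEquiv (m := m) (κ := Unit) hF (n := 2 * m + 1) (by simp; omega)
    by_cases h3 : m = 3
    · subst h3
      obtain ⟨R, x, hR, P⟩ := glue_od (n := 2) le_rfl hF PA (gSL ζ) PB.closure
      exact ⟨R, _, by omega, P.map e⟩
    · obtain ⟨n', rfl⟩ : ∃ n', m = n' + 1 := ⟨m - 1, by omega⟩
      obtain ⟨R3, x3, hR3, P3⟩ := sln_k F 2 (n' + 1) (by norm_num) (by omega)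
      obtain ⟨g, hg⟩ := sl_two_gen' F n' (by omega)
      obtain ⟨R, x, hR, P⟩ := glue_od' (by omega) hF P3 g hg
      exact ⟨R, _, by omega, P.map e⟩

/-- the centre is the normal closure of one element -/
theorem su_center_gen (hF : Fintype.card F = q ^ 2) {n : ℕ} (hn : 2 ≤ n) : ∃ z : SU n F q, center (SU n F q) = normalClosure {z} := by
  classical
  let i0 : Fin n := ⟨0, by omega⟩
  let f : center (SU n F q) →* F :=
    { toFun := fun z => (((z : SU n F q) : Matrix.SpecialLinearGroup (Fin n) F) : Matrix (Fin n) (Fin n) F) i0 i0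
      map_one' := by simp
      map_mul' := by
        intro z w
        obtain ⟨c, hc⟩ := (mem_center_SU_iff hF hn z.1).1 z.2
        obtain ⟨d, hd⟩ := (mem_center_SU_iff hF hn w.1).1 w.2
        rw [Subgroup.coe_mul, SU_coe_mul, hc, hd, Matrix.diagonal_mul_diagonal, Matrix.diagonal_apply_eq, Matrix.diagonal_apply_eq,
          Matrix.diagonal_apply_eq] }
  have hf : Function.Injective f := by
    intro z w hzw
    obtain ⟨c, hc⟩ := (mem_center_SU_iff hF hn z.1).1 z.2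
    obtain ⟨d, hd⟩ := (mem_center_SU_iff hF hn w.1).1 w.2
    have h1 : (((z : SU n F q) : Matrix.SpecialLinearGroup (Fin n) F) : Matrix (Fin n) (Fin n) F) i0 i0 =
      (((w : SU n F q) : Matrix.SpecialLinearGroup (Fin n) F) : Matrix (Fin n) (Fin n) F) i0 i0 := hzw
    rw [hc, hd, Matrix.diagonal_apply_eq, Matrix.diagonal_apply_eq] at h1
    apply Subtype.ext
    apply SU_ext
    rw [hc, hd, h1]
  have hfin : Finite (SU n F q) := inferInstance
  have hc : IsCyclic (center (SU n F q)) := isCyclic_of_subgroup_isDomain f hf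
  obtain ⟨z, hz⟩ := hc.exists_generator
  refine ⟨z, le_antisymm ?_ ?_⟩
  · intro x hx
    obtain ⟨k, hk⟩ := hz ⟨x, hx⟩
    have : x = (z : SU n F q) ^ k := (congrArg Subtype.val hk).symm
    rw [this]
    exact zpow_mem (subset_normalClosure (Set.mem_singleton _)) k
  · apply normalClosure_le_normal
    rw [Set.singleton_subset_iff]
    exact z.2

theorem su_of {n k : ℕ} {R : Finset (FreeGroup (Fin k))} {x : Fin k → SU n F q} (h : IsPres (R : Set (FreeGroup (Fin k))) x) :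
    Nonempty (PresentedGroup (R : Set (FreeGroup (Fin k))) ≃* SU n F q) := by
  obtain ⟨e, -⟩ := h.exists_equiv
  exact ⟨e⟩

theorem psu_of (hF : Fintype.card F = q ^ 2) {n k : ℕ} (hn : 2 ≤ n) {R : Finset (FreeGroup (Fin k))} {x : Fin k → SU n F q}
    (h : IsPres (R : Set (FreeGroup (Fin k))) x) :
    ∃ R' : Finset (FreeGroup (Fin k)), R'.card ≤ R.card + 1 ∧ Nonempty (PresentedGroup (R' : Set (FreeGroup (Fin k))) ≃* PSU n F q) := by
  classical
  obtain ⟨z, hz⟩ := su_center_gen hF hn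
  obtain ⟨w, hw⟩ := h.surj z
  have P' := h.quot w (center (SU n F q)) (by rw [hw, hz])
  rw [← Finset.coe_insert] at P'
  obtain ⟨e, -⟩ := P'.exists_equiv
  exact ⟨insert w R, Finset.card_insert_le _ _, ⟨e⟩⟩

end main

end Cfsg.Agent.GK.Un
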