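import Cfsg.Agent.GK.G2d
import Cfsg.Agent.GK.Un33

/-!
The special unitary groups are generated by two elements, and short presentations on two generators.
-/

set_option autoImplicit false
set_option linter.unusedSectionVars false
set_option linter.unusedVariables false
set_option linter.unusedSimpArgs false

namespace Cfsg.Agent.GK.G2

open Subgroup Cfsg.Agent.Stb Cfsg.Agent.ClBN Cfsg.Agent.Uni Cfsg.Agent.GK.Un
open Cfsg.Agent.GK (IsGen exists_isGen IsPres)
open scoped commutatorElement Polynomial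

attribute [local instance] Stb.sumNeg

universe v

theorem closure_equiv {G H : Type*} [Group G] [Group H] (e : G →* H) (he : Function.Surjective e) {a b : G} (h : closure {a, b} = ⊤) :
    closure {e a, e b} = ⊤ := by
  have h1 : (closure {a, b}).map e = closure {e a, e b} := by
    rw [MonoidHom.map_closure, Set.image_pair]
  rw [← h1, h, ← MonoidHom.range_eq_map, MonoidHom.range_eq_top]
  exact he

section main
variable {F : Type v} [Field F] [Fintype F] {q : ℕ}

theorem zeta_ne (hF : Fintype.card F = q ^ 2) {ζ : Fˣ} (hζ : IsGen ζ) : conjHom hF (ζ : F) ≠ ζ := by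
  intro e
  have := (T3.zeta_fix (hF := hF) hζ 1).1 (by rw [pow_one]; exact e)
  have h2 := Nat.le_of_dvd one_pos this
  have := T3.q2 hF
  omega

theorem gen_conj (hF : Fintype.card F = q ^ 2) {p : ℕ} [hp : Fact p.Prime] [Algebra (ZMod p) F] [CharP F p] {ζ : Fˣ} (hζ : IsGen ζ) (s : F) :
    ∃ f : (ZMod p)[X], Polynomial.aeval (conjHom hF (ζ : F)) f = s := by
  obtain ⟨f, hf⟩ := gen_adj (p := p) hζ (conjHom hF s)
  refine ⟨f, ?_⟩
  have h1 : conjHom hF (Polynomial.aeval (ζ : F) f) = Polynomial.aeval (conjHom hF (ζ : F)) f := by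
    rw [← T3.sum_aeval, ← T3.sum_aeval, map_sum]
    refine Finset.sum_congr rfl fun i _ => ?_
    rw [map_mul, map_natCast, map_pow]
  rw [← h1, hf, T3.tt]

theorem su_two_gen (hF : Fintype.card F = q ^ 2) (n : ℕ) (hn : 3 ≤ n) (h32 : n = 3 → q ≠ 2) : ∃ a b : SU n F q, closure {a, b} = ⊤ := by
  obtain ⟨p, hc⟩ := CharP.exists F
  have hp : Fact p.Prime := ⟨CharP.char_is_prime F p⟩
  let _ : Algebra (ZMod p) F := ZMod.algebra F p
  by_cases h3 : n = 3
  · subst h3
    obtain ⟨a, b, h⟩ := two_three hF (h32 rfl)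
    obtain ⟨e⟩ := T3.exists_u3_equiv hF
    exact ⟨_, _, closure_equiv e.toMonoidHom e.surjective h⟩
  obtain ⟨ν, e0, ζ, D⟩ := exists_UD hF
  have hζ := D.hζ
  rcases Nat.even_or_odd' n with ⟨m, rfl | rfl⟩
  · obtain ⟨e⟩ := exists_suEquiv (m := m) (κ := Empty) hF (n := 2 * m) (by simp; omega)
    obtain ⟨k, rfl⟩ : ∃ k, m = k + 1 := ⟨m - 1, by omega⟩
    obtain ⟨σ, S, C⟩ := exists_CG Empty (m := k + 1) (by omega) hF D.hν D.ν0
    obtain ⟨a, b, h⟩ := even_two C (by omega) (p := p) hζ (zeta_ne hF hζ) (gen_adj hζ)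
      (fun s => by
        have := Cfsg.Agent.GK.gen_adjoin_sq (p := p) hζ s
        rwa [pow_one] at this) (fun w => Subsingleton.elim _ _) (gp_top (by omega) hF)
    exact ⟨_, _, closure_equiv e.toMonoidHom e.surjective h⟩
  · obtain ⟨e⟩ := exists_suEquiv (m := m) (κ := Unit) hF (n := 2 * m + 1) (by simp; omega)
    obtain ⟨k, rfl⟩ : ∃ k, m = k + 1 := ⟨m - 1, by omega⟩
    obtain ⟨σ, S, C⟩ := exists_CG Unit (m := k + 1) (by omega) hF D.hν D.ν0
    have hw : h0U (κ := Unit) hF (fun _ => (1 : F)) (fun _ => 1) = 1 := by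
      unfold h0U
      rw [Finset.sum_const, Finset.card_univ, Fintype.card_unit, one_smul, map_one, one_mul]
    obtain ⟨a, b, h⟩ := odd_two C (hermU hF) (by omega) (p := p) hζ
      (fun e => zeta_ne hF hζ (by rw [e, map_one])) (gen_conj hF hζ) (w0 := fun _ => (1 : F))
      (fun e => one_ne_zero (congrFun e ())) (fun w => ⟨w (), by funext i; rw [Pi.smul_apply, smul_eq_mul, mul_one]⟩) (d0 := -e0)
      (by unfold PF; rw [hw, map_neg]; linear_combination -D.he) (gp_top (by omega) hF)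
    exact ⟨_, _, closure_equiv e.toMonoidHom e.surjective h⟩

theorem psu_two_gen (hF : Fintype.card F = q ^ 2) (n : ℕ) (hn : 3 ≤ n) (h32 : n = 3 → q ≠ 2) : ∃ a b : PSU n F q, closure ({a, b} : Set (PSU n F q)) = ⊤ := by
  obtain ⟨a, b, h⟩ := su_two_gen hF n hn h32
  exact ⟨_, _, closure_equiv (QuotientGroup.mk' (center (SU n F q))) (QuotientGroup.mk'_surjective _) h⟩

theorem psu_eighty (hF : Fintype.card F = q ^ 2) (n : ℕ) (hn : 3 ≤ n) (h32 : n = 3 → q ≠ 2) :
    ∃ rels : Finset (FreeGroup (Fin 2)), rels.card ≤ 80 ∧ Nonempty (PresentedGroup (↑rels : Set (FreeGroup (Fin 2))) ≃* PSU n F q) := by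
  obtain ⟨a, b, h⟩ := su_two_gen hF n hn h32
  have hd : closure (Set.range ![a, b]) = ⊤ := by
    rw [T3.range_two]; exact h
  have key : ∃ (R : Finset (FreeGroup (Fin 2))) (x : Fin 2 → SU n F q), R.card ≤ 41 ∧ IsPres (R : Set (FreeGroup (Fin 2))) x := by
    by_cases h3 : n = 3
    · subst h3
      obtain ⟨R, x, hR, P⟩ := T3.su3_final hF (h32 rfl)
      obtain ⟨R', hR', P'⟩ := P.regen ![a, b] hd ∅ (fun _ => 0) (fun j hj => absurd hj (Finset.notMem_empty _)) (by simp)
      rw [Fintype.card_fin, Finset.card_empty] at hR'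
      exact ⟨R', _, by omega, P'⟩
    · obtain ⟨R, x, hR, P⟩ := su_all hF n (by omega)
      obtain ⟨R', hR', P'⟩ := P.regen ![a, b] hd ∅ (fun _ => 0) (fun j hj => absurd hj (Finset.notMem_empty _)) (by simp)
      rw [Fintype.card_fin, Finset.card_empty] at hR'
      exact ⟨R', _, by omega, P'⟩
  obtain ⟨R, x, hR, P⟩ := key
  obtain ⟨R', hR', e'⟩ := psu_of hF (by omega) P
  exact ⟨R', by omega, e'⟩

end main

end Cfsg.Agent.GK.G2
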