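import Cfsg.Agent.GK.SpG

/-!
Two generators of `Sp_{2m}(F)`: the theorem.
-/

set_option autoImplicit false
set_option linter.unusedSectionVars false
set_option linter.unusedVariables false
set_option linter.unusedSimpArgs false

namespace Cfsg.Agent.GK

open Subgroup
open Cfsg.Agent.ClassSp (sf tv tv_mulVec tv_conj tv_smul tv_add tv_zero ext_vec mul_mulVec one_mulVec' mulVec_inv_mulVec inv_mulVec_mulVec ofLin
  ofLin_mulVec sf_mulVec sf_add_left sf_add_right sf_smul_left sf_smul_right sf_self sf_sub_left sf_sub_right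
  sf_neg_left sf_neg_right sf_swap)

universe v

section
variable {F : Type v} [Field F] {l : Type*} [Fintype l] [DecidableEq l]

theorem tv_comm_of {g : Matrix.symplecticGroup l F} {w : l ⊕ l → F}
    (h : (g : Matrix (l ⊕ l) (l ⊕ l) F).mulVec w = w) (c : F) : Commute (tv w c) g := by
  have := tv_conj g w c
  rw [h] at this
  exact (mul_inv_eq_iff_eq_mul.1 this).symm

theorem tv_pow (w : l ⊕ l → F) (c : F) (n : ℕ) : tv w c ^ n = tv w (n * c) := by
  induction n with
  | zero => rw [pow_zero, Nat.cast_zero, zero_mul, tv_zero]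
  | succ n ih => rw [pow_succ, ih, ← tv_add]; congr 1; push_cast; ring

theorem iL_be (i : l) (ζ : Fˣ) :
    (iL i (hm ζ) : Matrix.symplecticGroup l F).1.mulVec (be i) = (ζ : F) • be i := by
  refine (iL_ee_inl i (hm ζ)).trans ?_
  change (ζ : F) • be i + (0 : F) • bf i = _
  rw [zero_smul, add_zero]

theorem iL_be_of {i j : l} (h : i ≠ j) (A : Matrix.SpecialLinearGroup (Fin 2) F) :
    (iL i A : Matrix.symplecticGroup l F).1.mulVec (be j) = be j :=
  iL_ee_of i A (p := Sum.inl j) h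

theorem iL_bf_of {i j : l} (h : i ≠ j) (A : Matrix.SpecialLinearGroup (Fin 2) F) :
    (iL i A : Matrix.symplecticGroup l F).1.mulVec (bf j) = bf j :=
  iL_ee_of i A (p := Sum.inr j) h

theorem iS_be (A : Matrix.SpecialLinearGroup l F) (j : l) :
    (iS A : Matrix.symplecticGroup l F).1.mulVec (be j) = Sum.elim (fun i => (A : Matrix l l F) i j) 0 := by
  refine (iS_mulVec A _).trans ?_
  rw [iSlin_apply]
  have e : (fun k : l => be (F := F) j (Sum.inl k)) = Pi.single j 1 := by
    ext k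
    rw [be_l, Pi.single_apply]
  have e' : (fun k : l => be (F := F) j (Sum.inr k)) = 0 := by
    ext k
    rw [be_r]; rfl
  rw [e, e', Matrix.mulVec_zero, Matrix.mulVec_single_one]
  rfl

theorem iS_emb_be (e : Fin 2 → l) (he : Function.Injective e) (A : Matrix.SpecialLinearGroup (Fin 2) F) (j : Fin 2) :
    (iS (emb e he A) : Matrix.symplecticGroup l F).1.mulVec (be (e j)) =
      (A : Matrix (Fin 2) (Fin 2) F) 0 j • be (e 0) + (A : Matrix (Fin 2) (Fin 2) F) 1 j • be (e 1) := by
  rw [iS_be]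
  ext p
  rcases p with k | k
  · simp only [Sum.elim_inl, Pi.add_apply, Pi.smul_apply, smul_eq_mul, be_l]
    by_cases hk : k ∈ Set.range e
    · obtain ⟨i, rfl⟩ := hk
      rw [emb_apply]
      fin_cases i
      · simp [he.eq_iff]
      · simp [he.eq_iff]
    · rw [emb_apply_left e he A hk, if_neg (fun h => hk ⟨j, h.symm⟩), if_neg (fun h => hk ⟨0, h.symm⟩),
        if_neg (fun h => hk ⟨1, h.symm⟩)]
      simp
  · simp [be_r]

theorem iS_emb_be_of (e : Fin 2 → l) (he : Function.Injective e) (A : Matrix.SpecialLinearGroup (Fin 2) F) {j : l}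
    (hj : j ∉ Set.range e) :
    (iS (emb e he A) : Matrix.symplecticGroup l F).1.mulVec (be j) = be j := by
  rw [iS_be]
  ext p
  rcases p with k | k
  · rw [Sum.elim_inl, emb_apply_right e he A hj, be_l]
  · simp [be_r]

end

section chain
variable {F : Type v} [Field F] {n : ℕ} {H : Subgroup (Matrix.symplecticGroup (Fin (n + 2)) F)}

theorem Ph.of_shift {g : Matrix.symplecticGroup (Fin (n + 2)) F} (hg : g ∈ H)
    (he : ∀ i : Fin (n + 1), g.1.mulVec (be i.castSucc) = be i.succ)
    (hf : ∀ i : Fin (n + 1), i ≠ 0 → g.1.mulVec (bf i.castSucc) = bf i.succ)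
    (h0 : be 0 ∈ Ph H) (h0' : bf 0 ∈ Ph H) (h1' : bf 1 ∈ Ph H) (h01 : be 0 + be 1 ∈ Ph H) : H = ⊤ := by
  have hE : ∀ i : Fin (n + 2), be i ∈ Ph H := by
    intro i
    induction i using Fin.induction with
    | zero => exact h0
    | succ i ih => rw [← he]; exact Ph.act ih hg
  have hF : ∀ i : Fin (n + 2), bf i ∈ Ph H := by
    intro i
    induction i using Fin.induction with
    | zero => exact h0'
    | succ i ih =>
      by_cases hi : i = 0
      · subst hi; exact h1'
      · rw [← hf i hi]; exact Ph.act ih hg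
  apply Ph.top
  apply Ph.chain
  intro i z hz
  refine Ph.planes (Fin.castSucc_lt_succ).ne (hE _) (hF _) (hE _) (hF _) ?_ hz
  clear hz
  induction i using Fin.induction with
  | zero => exact h01
  | succ j ih =>
    have := Ph.act ih hg
    rw [Matrix.mulVec_add, he, Fin.succ_castSucc, he] at this
    exact this

theorem rot_castSucc (i : Fin (n + 1)) : finRotate (n + 2) i.castSucc = i.succ := by
  rw [finRotate_apply, Fin.coeSucc_eq_succ]

theorem rot_last : finRotate (n + 2) (Fin.last (n + 1)) = 0 := finRotate_last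

end chain

section ge3
variable {F : Type v} [Field F] [Fintype F]

theorem gen_ge3 (n : ℕ) (hF : 3 ≤ Fintype.card F) :
    ∃ a b : Matrix.symplecticGroup (Fin (n + 2)) F, closure {a, b} = ⊤ := by
  classical
  obtain ⟨ζ, hζ⟩ := exists_isGen F
  obtain ⟨p, hpc⟩ := CharP.exists F
  have hp : p.Prime := CharP.char_is_prime F p
  have hζ1 : (ζ : F) ≠ 1 := by
    intro h
    have h1 : ζ = 1 := Units.ext h
    have h2 : Fintype.card Fˣ = 1 := by
      rw [Fintype.card_eq_one_iff]
      refine ⟨1, fun y => ?_⟩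
      obtain ⟨k, hk⟩ := hζ y
      rw [← hk, h1, one_pow]
    rw [Fintype.card_units] at h2
    omega
  have h01 : (0 : Fin (n + 2)) ≠ 1 := by simp
  set a1 : Matrix.symplecticGroup (Fin (n + 2)) F := tv (be 0) 1 with ha1
  set a2 : Matrix.symplecticGroup (Fin (n + 2)) F := iL 1 (hm ζ) with ha2
  set b : Matrix.symplecticGroup (Fin (n + 2)) F := tv (bf 0 + be 1) 1 * pS (finRotate (n + 2)) with hb
  refine ⟨a1 * a2, b, ?_⟩
  set H := closure {a1 * a2, b} with hH
  have hbH : b ∈ H := subset_closure (Set.mem_insert_of_mem _ (Set.mem_singleton _))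
  have habH : a1 * a2 ∈ H := subset_closure (Set.mem_insert _ _)
  obtain ⟨h1, h2⟩ : a1 ∈ H ∧ a2 ∈ H := by
    refine coprime_mem (n := p) (m := Fintype.card F - 1) (tv_comm_of (iL_be_of h01.symm _) 1) ?_ ?_ ?_ habH
    · rw [ha1, tv_pow, CharP.cast_eq_zero F p, zero_mul, tv_zero]
    · have h3 : ζ ^ (Fintype.card F - 1) = 1 := by
        rw [← Fintype.card_units]; exact pow_card_eq_one
      rw [ha2, ← map_pow, hm_pow, h3, hm_one, map_one]
    · obtain ⟨k, -, hk⟩ := FiniteField.card F p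
      rw [hk]
      have h4 : p ∣ p ^ (k : ℕ) := dvd_pow_self p k.ne_zero
      have h5 : 0 < p ^ (k : ℕ) := pow_pos hp.pos _
      rw [Nat.Prime.coprime_iff_not_dvd hp]
      intro h6
      have h7 : p ∣ p ^ (k : ℕ) - (p ^ (k : ℕ) - 1) := Nat.dvd_sub h4 h6
      have h8 : p ^ (k : ℕ) - (p ^ (k : ℕ) - 1) = 1 := by omega
      rw [h8] at h7
      exact hp.one_lt.ne' (Nat.dvd_one.1 h7)
  have gbe : ∀ k : Fin (n + 2), b.1.mulVec (be k) =
      be (finRotate (n + 2) k) + (if finRotate (n + 2) k = 0 then (1 : F) else 0) • (bf 0 + be 1) := by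
    intro k
    rw [hb]
    refine (mul_mulVec _ _ _).trans ?_
    rw [pS_be, tv_mulVec, sf_add_right, sf_bf, sf_be, be_l, be_r, neg_zero, add_zero, one_mul]
    simp only [eq_comm]
  have gbf : ∀ k : Fin (n + 2), b.1.mulVec (bf k) =
      bf (finRotate (n + 2) k) - (if finRotate (n + 2) k = 1 then (1 : F) else 0) • (bf 0 + be 1) := by
    intro k
    rw [hb]
    refine (mul_mulVec _ _ _).trans ?_
    rw [pS_bf, tv_mulVec, sf_add_right, sf_bf, sf_be, bf_l, bf_r, zero_add, one_mul, neg_smul, ← sub_eq_add_neg]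
    simp only [eq_comm]
  have he : ∀ i : Fin (n + 1), b.1.mulVec (be i.castSucc) = be i.succ := by
    intro i
    rw [gbe, rot_castSucc, if_neg (Fin.succ_ne_zero i), zero_smul, add_zero]
  have hf : ∀ i : Fin (n + 1), i ≠ 0 → b.1.mulVec (bf i.castSucc) = bf i.succ := by
    intro i hi
    rw [gbf, rot_castSucc, if_neg (by rw [← Fin.succ_zero_eq_one]; exact fun h => hi (Fin.succ_injective _ h)),
      zero_smul, sub_zero]
  have hb0 : b.1.mulVec (be 0) = be 1 := he 0
  have hb0' : b.1.mulVec (bf 0) = bf 1 - (bf 0 + be 1) := by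
    have h3 := gbf 0
    rw [show (0 : Fin (n + 2)) = (0 : Fin (n + 1)).castSucc from rfl, rot_castSucc, Fin.succ_zero_eq_one, if_pos rfl,
      one_smul] at h3
    exact h3
  have hbl : b.1.mulVec (be (Fin.last (n + 1))) = be 0 + (bf 0 + be 1) := by
    rw [gbe, rot_last, if_pos rfl, one_smul]
  -- the vectors
  have e1 : be 1 ∈ Ph H := by
    refine Ph.of_scal hζ h2 (iL_be 1 ζ) ?_
    rw [← hb0]
    have := tv_conj b (be 0) 1
    rw [← this]
    exact mul_mem (mul_mem hbH h1) (inv_mem hbH)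
  have e0 : be 0 ∈ Ph H := by
    apply Ph.act' hbH
    rw [hb0]
    exact e1
  have hE : ∀ i : Fin (n + 2), be i ∈ Ph H := by
    intro i
    induction i using Fin.induction with
    | zero => exact e0
    | succ i ih => rw [← he]; exact Ph.act ih hbH
  have s1 : be 0 + (bf 0 + be 1) ∈ Ph H := by
    rw [← hbl]; exact Ph.act (hE _) hbH
  have u0 : bf 0 + be 1 ∈ Ph H := by
    have := Ph.sub s1 e0 (by
      simp [sf_add_left, sf_be, be_l, be_r, bf_l, bf_r])
    rwa [add_sub_cancel_left] at this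
  have u1 : bf 0 + (ζ : F) • be 1 ∈ Ph H := by
    have := Ph.act u0 h2
    rw [Matrix.mulVec_add] at this
    rwa [show a2.1.mulVec (bf 0) = bf 0 from iL_bf_of h01.symm _,
      show a2.1.mulVec (be 1) = (ζ : F) • be 1 from iL_be 1 ζ] at this
  have hζi : (1 - (ζ : F)⁻¹) ≠ 0 := by
    intro h
    apply hζ1
    have h3 : (ζ : F)⁻¹ = 1 := by linear_combination -h
    rw [← inv_inv (ζ : F), h3, inv_one]
  have w' : be 0 + (1 - (ζ : F)⁻¹) • bf 0 ∈ Ph H := by
    have := Ph.comb s1 u1 (by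
      simp [sf_add_left, sf_add_right, sf_smul_right, sf_be, sf_bf, be_l, be_r, bf_l, bf_r]) 1 (-(ζ : F)⁻¹)
    have e : (1 : F) • (be (F := F) 0 + (bf 0 + be 1)) + (-(ζ : F)⁻¹) • (bf 0 + (ζ : F) • be (1 : Fin (n + 2))) =
        be 0 + (1 - (ζ : F)⁻¹) • bf 0 := by
      rw [smul_add (-(ζ : F)⁻¹), smul_smul, neg_mul, inv_mul_cancel₀ ζ.ne_zero]
      module
    rwa [e] at this
  have f0 : bf 0 ∈ Ph H := by
    have := Ph.comb e0 w' (by
      simp [sf_add_right, sf_smul_right, sf_be, sf_bf, be_l, be_r, hζi]) (-(1 - (ζ : F)⁻¹)⁻¹) ((1 - (ζ : F)⁻¹)⁻¹)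
    have e : (-(1 - (ζ : F)⁻¹)⁻¹) • be (F := F) (0 : Fin (n + 2)) + ((1 - (ζ : F)⁻¹)⁻¹) • (be 0 + (1 - (ζ : F)⁻¹) • bf 0) =
        bf 0 := by
      rw [smul_add ((1 - (ζ : F)⁻¹)⁻¹), smul_smul, inv_mul_cancel₀ hζi]
      module
    rwa [e] at this
  have g0 : bf 1 - (bf 0 + be 1) ∈ Ph H := by
    rw [← hb0']; exact Ph.act f0 hbH
  have g1 : bf 1 - bf 0 ∈ Ph H := by
    have := Ph.add g0 e1 (by simp [sf_sub_left, sf_add_left, sf_be, be_l, be_r, bf_l, bf_r, h01])
    have e : bf (F := F) 1 - (bf 0 + be (1 : Fin (n + 2))) + be 1 = bf 1 - bf 0 := by abel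
    rwa [e] at this
  have k1 : be 1 + be 0 ∈ Ph H := by
    have := Ph.move (H := H) (a := bf 0) (a' := be 0 + bf 0) (r := be 1) (by rwa [add_sub_cancel_right]) u0
      (by simp [sf_be, be_r]) (by simp [sf_add_right, sf_be, sf_bf, bf_l, bf_r])
    have h4 := Ph.sub this f0 (by simp [sf_add_left, sf_bf, be_l, bf_l])
    rw [add_sub_right_comm, add_sub_cancel_right] at h4
    rwa [add_comm (be (1 : Fin (n + 2)))]
  have k2 : be 0 + bf 1 ∈ Ph H := by
    have hd : be 0 - (- bf (F := F) (0 : Fin (n + 2))) ∈ Ph H := by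
      rw [sub_neg_eq_add]
      exact Ph.add e0 f0 (by simp [sf_bf, be_l])
    refine Ph.move hd (by rwa [neg_add_eq_sub]) ?_ ?_
    · simp [sf_add_right, sf_be, sf_bf, bf_l, bf_r, h01]
    · simp [sf_neg_left, sf_be, bf_r]
  have k3 : bf 1 - be 1 ∈ Ph H := by
    have := Ph.sub k2 k1 (by simp [sf_add_left, sf_add_right, sf_be, sf_bf, bf_l, bf_r, be_l, be_r, h01])
    have e : be (F := F) 0 + bf 1 - (be 1 + be (0 : Fin (n + 2))) = bf 1 - be 1 := by abel
    rwa [e] at this
  have f1 : bf 1 ∈ Ph H := by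
    have := Ph.add k3 e1 (by simp [sf_sub_left, sf_be, bf_r, be_r])
    rwa [sub_add_cancel] at this
  exact Ph.of_shift hbH he hf e0 f0 f1 (by rwa [add_comm (be (1 : Fin (n + 2)))] at k1)

end ge3

section two
variable {F : Type v} [Field F] [Fintype F]

theorem two_cases (hF : Fintype.card F = 2) (c : F) : c = 0 ∨ c = 1 := by
  classical
  by_contra h
  push Not at h
  have h1 : ({0, 1, c} : Finset F).card ≤ Fintype.card F := Finset.card_le_univ _
  rw [Finset.card_insert_of_notMem (by simp [h.1.symm]), Finset.card_pair (Ne.symm h.2), hF] at h1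
  omega

/-- an element of order three -/
def thr : Matrix.SpecialLinearGroup (Fin 2) F := ⟨!![0, -1; 1, -1], by simp [Matrix.det_fin_two_of]⟩

theorem thr_pow : (thr (F := F)) ^ 3 = 1 := by
  apply Subtype.ext
  rw [pow_succ, pow_two]
  simp only [Matrix.SpecialLinearGroup.coe_mul, Matrix.SpecialLinearGroup.coe_one]
  change !![(0 : F), -1; 1, -1] * !![0, -1; 1, -1] * !![0, -1; 1, -1] = 1
  ext i j
  fin_cases i <;> fin_cases j <;> simp [Matrix.mul_apply, Fin.sum_univ_two]

theorem gen_two (n : ℕ) (hF : Fintype.card F = 2) :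
    ∃ a b : Matrix.symplecticGroup (Fin (n + 3)) F, closure {a, b} = ⊤ := by
  classical
  have h2F : (2 : F) = 0 := by
    have := FiniteField.cast_card_eq_zero F
    rw [hF] at this
    exact_mod_cast this
  set j1 : Fin (n + 3) := 1 with hj1
  set j2 : Fin (n + 3) := ⟨2, by omega⟩ with hj2
  have h12 : j1 ≠ j2 := by
    intro h
    have := congrArg Fin.val h
    simp [hj1, hj2] at this
  have h01 : (0 : Fin (n + 3)) ≠ j1 := by simp [hj1]
  have h02 : (0 : Fin (n + 3)) ≠ j2 := by
    intro h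
    have := congrArg Fin.val h
    simp [hj2] at this
  set a1 : Matrix.symplecticGroup (Fin (n + 3)) F := tv (be 0) 1 with ha1
  set a2 : Matrix.symplecticGroup (Fin (n + 3)) F := iS (emb2 h12 thr) with ha2
  set b : Matrix.symplecticGroup (Fin (n + 3)) F := tv (bf 0) 1 * pS (finRotate (n + 3)) with hb
  refine ⟨a1 * a2, b, ?_⟩
  set H := closure {a1 * a2, b} with hH
  have hbH : b ∈ H := subset_closure (Set.mem_insert_of_mem _ (Set.mem_singleton _))
  have habH : a1 * a2 ∈ H := subset_closure (Set.mem_insert _ _)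
  have hr0 : (0 : Fin (n + 3)) ∉ Set.range ![j1, j2] := by
    rintro ⟨i, hi⟩
    fin_cases i
    · exact h01 hi.symm
    · exact h02 hi.symm
  obtain ⟨h1, h2⟩ : a1 ∈ H ∧ a2 ∈ H := by
    refine coprime_mem (n := 2) (m := 3) (tv_comm_of (iS_emb_be_of ![j1, j2] _ _ hr0) 1) ?_ ?_ (by norm_num) habH
    · rw [ha1, tv_pow]
      push_cast
      rw [h2F, zero_mul, tv_zero]
    · rw [ha2, ← map_pow, ← map_pow, thr_pow, map_one, map_one]
  have hPh : ∀ v : Fin (n + 3) ⊕ Fin (n + 3) → F, tv v 1 ∈ H → v ∈ Ph H := by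
    intro v hv c
    rcases two_cases hF c with rfl | rfl
    · rw [tv_zero]; exact one_mem _
    · exact hv
  have s1 : a2.1.mulVec (be j1) = be j2 := by
    refine (iS_emb_be ![j1, j2] _ thr 0).trans ?_
    change (0 : F) • be j1 + (1 : F) • be j2 = _
    rw [zero_smul, zero_add, one_smul]
  have s2 : a2.1.mulVec (be j2) = (-1 : F) • be j1 + (-1 : F) • be j2 := iS_emb_be ![j1, j2] _ thr 1
  have gbe : ∀ k : Fin (n + 3), b.1.mulVec (be k) =
      be (finRotate (n + 3) k) + (if finRotate (n + 3) k = 0 then (1 : F) else 0) • (bf 0) := by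
    intro k
    rw [hb]
    refine (mul_mulVec _ _ _).trans ?_
    rw [pS_be, tv_mulVec, sf_bf, be_l, one_mul]
    simp only [eq_comm]
  have gbf : ∀ k : Fin (n + 3), b.1.mulVec (bf k) = bf (finRotate (n + 3) k) := by
    intro k
    rw [hb]
    refine (mul_mulVec _ _ _).trans ?_
    rw [pS_bf, tv_mulVec, sf_bf, bf_l, mul_zero, zero_smul, add_zero]
  have he : ∀ i : Fin (n + 2), b.1.mulVec (be i.castSucc) = be i.succ := by
    intro i
    rw [gbe, rot_castSucc, if_neg (Fin.succ_ne_zero i), zero_smul, add_zero]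
  have hf : ∀ i : Fin (n + 2), b.1.mulVec (bf i.castSucc) = bf i.succ := by
    intro i
    rw [gbf, rot_castSucc]
  have hbl : b.1.mulVec (be (Fin.last (n + 2))) = be 0 + bf 0 := by
    rw [gbe, rot_last, if_pos rfl, one_smul]
  have e0 : be 0 ∈ Ph H := hPh _ h1
  have hE : ∀ i : Fin (n + 3), be i ∈ Ph H := by
    intro i
    induction i using Fin.induction with
    | zero => exact e0
    | succ i ih => rw [← he]; exact Ph.act ih hbH
  have s3 : be 0 + bf 0 ∈ Ph H := by
    rw [← hbl]; exact Ph.act (hE _) hbH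
  have f0 : bf 0 ∈ Ph H := by
    have := Ph.sub s3 e0 (by
      simp [sf_add_left, sf_be, be_r, bf_r])
    rwa [add_sub_cancel_left] at this
  have f1 : bf 1 ∈ Ph H := by
    have := Ph.act f0 hbH
    rwa [show b.1.mulVec (bf 0) = bf 1 from hf 0] at this
  have s4 : be j1 + be j2 ∈ Ph H := by
    have := Ph.smul (Ph.act (hE j2) h2) (-1)
    rw [s2] at this
    have e : (-1 : F) • ((-1 : F) • be (F := F) j1 + (-1 : F) • be j2) = be j1 + be j2 := by module
    rwa [e] at this
  refine Ph.of_shift hbH he (fun i _ => hf i) e0 f0 f1 ?_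
  apply Ph.act' hbH
  rw [Matrix.mulVec_add, show b.1.mulVec (be 0) = be 1 from he 0,
    show b.1.mulVec (be 1) = be j2 from he 1]
  exact s4

end two

/-- `Sp_{2m}(F)` is generated by two elements -/
theorem sp_two_gen {F : Type v} [Field F] [Fintype F] (m : ℕ) (hm : 2 ≤ m) (hF : m = 2 → 2 < Fintype.card F) :
    ∃ a b : Matrix.symplecticGroup (Fin m) F, closure {a, b} = ⊤ := by
  by_cases h3 : 3 ≤ Fintype.card F
  · obtain ⟨n, rfl⟩ : ∃ n, m = n + 2 := ⟨m - 2, by omega⟩
    exact gen_ge3 n h3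
  · have h2 : Fintype.card F = 2 := by
      have := Fintype.one_lt_card (α := F)
      omega
    have hm2 : m ≠ 2 := fun h => by
      have := hF h
      omega
    obtain ⟨n, rfl⟩ : ∃ n, m = n + 3 := ⟨m - 3, by omega⟩
    exact gen_two n h2

/-- `PSp_{2m}(F)` is generated by two elements -/
theorem psp_two_gen {F : Type v} [Field F] [Fintype F] (m : ℕ) (hm : 2 ≤ m) (hF : m = 2 → 2 < Fintype.card F) :
    ∃ a b : Cfsg.PSp m F, closure {a, b} = ⊤ := by
  obtain ⟨a, b, hab⟩ := sp_two_gen (F := F) m hm hF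
  refine ⟨QuotientGroup.mk a, QuotientGroup.mk b, ?_⟩
  have h1 := congrArg (Subgroup.map (QuotientGroup.mk' (center (Matrix.symplecticGroup (Fin m) F)))) hab
  rw [MonoidHom.map_closure, Set.image_pair, ← MonoidHom.range_eq_map,
    MonoidHom.range_eq_top.2 (QuotientGroup.mk'_surjective _)] at h1
  exact h1

end Cfsg.Agent.GK
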