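import Cfsg.Agent.GK.Om5
import Cfsg.Agent.GK.SpH

/-!
The finitely many relations of type `D_n`.
-/

set_option autoImplicit false
set_option linter.unusedSectionVars false
set_option linter.unusedVariables false

namespace Cfsg.Agent.GK.Om

open Subgroup
open scoped commutatorElement

universe v

section cop

/-- separating the two factors -/
theorem coprime_conj {G : Type*} [Group G] {g h h' s : G} {n m : ℕ} (c : Commute g h) (c' : Commute g h') (hg : g ^ n = 1)
    (hh : h ^ m = 1) (hh' : h' ^ m = 1) (hnm : n.Coprime m) (e : s * (g * h) * s⁻¹ = g * h') :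
    s * g * s⁻¹ = g ∧ s * h * s⁻¹ = h' := by
  obtain ⟨k, hk1, hk2⟩ := Nat.chineseRemainder hnm 1 0
  have g1 : g ^ k = g := by
    have : g ^ k = g ^ 1 := pow_eq_pow_of_modEq hk1 hg
    rwa [pow_one] at this
  have h1 : h ^ k = 1 := by
    have : h ^ k = h ^ 0 := pow_eq_pow_of_modEq hk2 hh
    rwa [pow_zero] at this
  have h1' : h' ^ k = 1 := by
    have : h' ^ k = h' ^ 0 := pow_eq_pow_of_modEq hk2 hh'
    rwa [pow_zero] at this
  have e1 := congrArg (fun x => x ^ k) e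
  simp only [conj_pow] at e1
  rw [c.mul_pow, c'.mul_pow, g1, h1, h1', mul_one] at e1
  refine ⟨e1, ?_⟩
  have e2 : s * (g * h) * s⁻¹ = (s * g * s⁻¹) * (s * h * s⁻¹) := by group
  rw [e2, e1] at e
  exact mul_left_cancel e

/-- coprime orders -/
def Cop {G H : Type*} [Group G] [Group H] (g : G) (h : H) : Prop := ∃ n m : ℕ, g ^ n = 1 ∧ h ^ m = 1 ∧ n.Coprime m

end cop

section fd
variable {F : Type v} [Field F] {m : ℕ} {Γ : Type*} [Group Γ]

theorem h01 : (0 : Fin (m + 4)) ≠ 1 := by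
  intro h; have := congrArg Fin.val h; simp at this
theorem h21 : (2 : Fin (m + 4)) ≠ 1 := by
  intro h; have := congrArg Fin.val h; simp [Nat.mod_eq_of_lt (show 2 < m + 4 by omega)] at this
theorem h23 : (2 : Fin (m + 4)) ≠ 3 := by
  intro h; have := congrArg Fin.val h; simp [Nat.mod_eq_of_lt (show 2 < m + 4 by omega), Nat.mod_eq_of_lt (show 3 < m + 4 by omega)] at this
theorem h02 : (0 : Fin (m + 4)) ≠ 2 := by
  intro h; have := congrArg Fin.val h; simp [Nat.mod_eq_of_lt (show 2 < m + 4 by omega)] at this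
theorem h03 : (0 : Fin (m + 4)) ≠ 3 := by
  intro h; have := congrArg Fin.val h; simp [Nat.mod_eq_of_lt (show 3 < m + 4 by omega)] at this
theorem h13 : (1 : Fin (m + 4)) ≠ 3 := by
  intro h; have := congrArg Fin.val h; simp [Nat.mod_eq_of_lt (show 3 < m + 4 by omega)] at this

/-- the last coordinates -/
def eA (i : Fin (m + 2)) : Fin (m + 4) := i.succ.succ

theorem eA_inj : Function.Injective (eA (m := m)) := (Fin.succ_injective _).comp (Fin.succ_injective _)

theorem eA_ne0 (i : Fin (m + 2)) : eA i ≠ 0 := Fin.succ_ne_zero _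
theorem eA_ne1 (i : Fin (m + 2)) : eA i ≠ 1 := by
  intro h
  have : Fin.succ i.succ = Fin.succ 0 := h
  exact Fin.succ_ne_zero _ (Fin.succ_injective _ this)

theorem eA_range {x : Fin (m + 4)} (hx : x ∉ Set.range (eA (m := m))) : x = 0 ∨ x = 1 := by
  refine Fin.cases (motive := fun x => x ∉ Set.range (eA (m := m)) → x = 0 ∨ x = 1) (fun _ => Or.inl rfl) (fun y => ?_) x hx
  refine Fin.cases (motive := fun y => Fin.succ y ∉ Set.range (eA (m := m)) → Fin.succ y = 0 ∨ Fin.succ y = 1) (fun _ => Or.inr rfl)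
    (fun z hz => ?_) y
  exact absurd ⟨z, rfl⟩ hz

/-- the exchange of the first and of the second pair -/
def P0 : alternatingGroup (Fin (m + 4)) :=
  ⟨Equiv.swap 0 1 * Equiv.swap 2 3, by
    rw [Equiv.Perm.mem_alternatingGroup, map_mul, Equiv.Perm.sign_swap h01, Equiv.Perm.sign_swap h23]; rfl⟩

theorem P0_0 : ((P0 : alternatingGroup (Fin (m + 4))) : Equiv.Perm (Fin (m + 4))) 0 = 1 := by
  change Equiv.swap 0 1 (Equiv.swap 2 3 0) = 1
  rw [Equiv.swap_apply_of_ne_of_ne h02 h03, Equiv.swap_apply_left]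

theorem P0_1 : ((P0 : alternatingGroup (Fin (m + 4))) : Equiv.Perm (Fin (m + 4))) 1 = 0 := by
  change Equiv.swap 0 1 (Equiv.swap 2 3 1) = 0
  rw [Equiv.swap_apply_of_ne_of_ne h21.symm h13, Equiv.swap_apply_right]

/-- the cycle `0 → 1 → 2 → 0` -/
def P1 : alternatingGroup (Fin (m + 4)) := gam ![0, 1, 2] (inj3 h01 h02 h21.symm)

theorem P1_0 : ((P1 : alternatingGroup (Fin (m + 4))) : Equiv.Perm (Fin (m + 4))) 0 = 1 := gam_0 ![0, 1, 2] _
theorem P1_1 : ((P1 : alternatingGroup (Fin (m + 4))) : Equiv.Perm (Fin (m + 4))) 1 = 2 := gam_1 ![0, 1, 2] _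
theorem P1_2 : ((P1 : alternatingGroup (Fin (m + 4))) : Equiv.Perm (Fin (m + 4))) 2 = 0 := gam_2 ![0, 1, 2] _

/-- the cycle `1 → 0 → 3 → 1` -/
def P2 : alternatingGroup (Fin (m + 4)) := gam ![1, 0, 3] (inj3 h01.symm h13 h03)

theorem P2_1 : ((P2 : alternatingGroup (Fin (m + 4))) : Equiv.Perm (Fin (m + 4))) 1 = 0 := gam_0 ![1, 0, 3] _
theorem P2_0 : ((P2 : alternatingGroup (Fin (m + 4))) : Equiv.Perm (Fin (m + 4))) 0 = 3 := gam_1 ![1, 0, 3] _

/-- the finitely many relations -/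
structure FD (gA : Fin 3 → Matrix.SpecialLinearGroup (Fin (m + 2)) F) (gB : Fin 3 → Matrix.SpecialLinearGroup (Fin 2) F)
    (ρ : Matrix.SpecialLinearGroup (Fin (m + 4)) F →* Γ) (s : Γ) : Prop where
  ab : ∀ i : Fin 3, s * (ρ (emb eA eA_inj (gA i)) * ρ (emb2 h01 (gB i))) * s⁻¹ =
    ρ (emb eA eA_inj (gA i)) * ρ (emb2 h01 (tm * gB i * tm⁻¹))
  c : s * ρ (PM P0) = ρ (PM P0) * s
  d : s * (ρ (PM P1) * s * (ρ (PM P1))⁻¹) = (ρ (PM P1))⁻¹ * s * ρ (PM P1)
  e : ρ (tvl h21 1) * (s * ρ (tvl h21 1) * s⁻¹) = s * ρ (tvl h21 1) * s⁻¹ * ρ (tvl h21 1)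

/-- the two further relations -/
structure FD' (ρ : Matrix.SpecialLinearGroup (Fin (m + 4)) F →* Γ) (s : Γ) : Prop where
  q : s * s = 1
  f : ρ (tvl h01 1) * ((ρ (PM P2) * s * (ρ (PM P2))⁻¹) * ρ (tvl h23 1) * (ρ (PM P2) * s * (ρ (PM P2))⁻¹)⁻¹) =
    (ρ (PM P2) * s * (ρ (PM P2))⁻¹) * ρ (tvl h23 1) * (ρ (PM P2) * s * (ρ (PM P2))⁻¹)⁻¹ * ρ (tvl h01 1)

variable {gA : Fin 3 → Matrix.SpecialLinearGroup (Fin (m + 2)) F} {gB : Fin 3 → Matrix.SpecialLinearGroup (Fin 2) F}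
  {ρ : Matrix.SpecialLinearGroup (Fin (m + 4)) F →* Γ} {s : Γ}

theorem emb_comm (A : Matrix.SpecialLinearGroup (Fin (m + 2)) F) (B : Matrix.SpecialLinearGroup (Fin 2) F) :
    Commute (emb eA eA_inj A : Matrix.SpecialLinearGroup (Fin (m + 4)) F) (emb2 h01 B) := by
  have h1 : (centralizer {(emb2 h01 B : Matrix.SpecialLinearGroup (Fin (m + 4)) F)}).comap (emb eA eA_inj) = ⊤ := by
    apply H40.sl_eq_top_of_transvections
    intro i j hij x
    rw [mem_comap, mem_centralizer_singleton_iff]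
    change emb eA eA_inj (tvl hij x) * emb2 h01 B = emb2 h01 B * emb eA eA_inj (tvl hij x)
    rw [emb_tv eA eA_inj hij (fun h => hij (eA_inj h))]
    have h2 : (centralizer {(tvl (fun h => hij (eA_inj h)) x : Matrix.SpecialLinearGroup (Fin (m + 4)) F)}).comap (emb2 h01) = ⊤ := by
      apply H40.sl_eq_top_of_transvections
      intro i' j' hij' x'
      rw [mem_comap, mem_centralizer_singleton_iff]
      fin_cases i' <;> fin_cases j'
      · exact absurd rfl hij'
      · change emb2 h01 (tvl hij' x') * _ = _ * emb2 h01 (tvl hij' x')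
        rw [show (tvl hij' x' : Matrix.SpecialLinearGroup (Fin 2) F) = xm x' from (xm_tvl x').symm, emb2_xm]
        exact (tv_comm h01 _ (eA_ne1 i).symm (eA_ne0 j).symm x' x).eq
      · change emb2 h01 (tvl hij' x') * _ = _ * emb2 h01 (tvl hij' x')
        rw [show (tvl hij' x' : Matrix.SpecialLinearGroup (Fin 2) F) = ym x' from (ym_tvl x').symm, emb2_ym]
        exact (tv_comm h01.symm _ (eA_ne0 i).symm (eA_ne1 j).symm x' x).eq
      · exact absurd rfl hij'
    have h3 : B ∈ (centralizer {(tvl (fun h => hij (eA_inj h)) x : Matrix.SpecialLinearGroup (Fin (m + 4)) F)}).comap (emb2 h01) := by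
      rw [h2]; exact mem_top _
    rw [mem_comap, mem_centralizer_singleton_iff] at h3
    exact h3.symm
  have h2 : A ∈ (centralizer {(emb2 h01 B : Matrix.SpecialLinearGroup (Fin (m + 4)) F)}).comap (emb eA eA_inj) := by
    rw [h1]; exact mem_top _
  rw [mem_comap, mem_centralizer_singleton_iff] at h2
  exact h2

/-- the first relations -/
theorem FD.rd0 (hA : closure (Set.range gA) = ⊤) (hB : closure (Set.range gB) = ⊤) (hc : ∀ i, Cop (gA i) (gB i))
    (H : FD gA gB ρ s) : RD0 ρ s (h01 (m := m)) := by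
  have key : ∀ i, s * ρ (emb eA eA_inj (gA i)) * s⁻¹ = ρ (emb eA eA_inj (gA i)) ∧
      s * ρ (emb2 h01 (gB i)) * s⁻¹ = ρ (emb2 h01 (tm * gB i * tm⁻¹)) := by
    intro i
    obtain ⟨n, k, h1, h2, h3⟩ := hc i
    refine coprime_conj (n := n) (m := k) ?_ ?_ ?_ ?_ ?_ h3 (H.ab i)
    · exact (emb_comm _ _).map ρ
    · exact (emb_comm _ _).map ρ
    · rw [← map_pow, ← map_pow, h1, map_one, map_one]
    · rw [← map_pow, ← map_pow, h2, map_one, map_one]
    · rw [← map_pow, ← map_pow, conj_pow, h2, mul_one, mul_inv_cancel, map_one, map_one]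
  have ra : ∀ M : Matrix.SpecialLinearGroup (Fin (m + 4)) F, Mo M 0 0 1 → Mo M 1 1 1 → Commute s (ρ M) := by
    intro M h0 h1
    refine comm_emb eA eA_inj ?_ hA ?_
    · intro x hx
      rcases eA_range hx with rfl | rfl
      · exact h0
      · exact h1
    · rintro _ ⟨i, rfl⟩
      exact mul_inv_eq_iff_eq_mul.1 (key i).1
  refine ⟨ra, ?_, ?_⟩
  · intro A
    have h1 : MonoidHom.eqLocus ((MulAut.conj s).toMonoidHom.comp (ρ.comp (emb2 (h01 (m := m)))))
        ((ρ.comp (emb2 (h01 (m := m)))).comp (MulAut.conj tm).toMonoidHom) = ⊤ := by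
      rw [eq_top_iff, ← hB, closure_le]
      rintro _ ⟨i, rfl⟩
      exact (key i).2
    have h2 : A ∈ MonoidHom.eqLocus ((MulAut.conj s).toMonoidHom.comp (ρ.comp (emb2 (h01 (m := m)))))
        ((ρ.comp (emb2 (h01 (m := m)))).comp (MulAut.conj tm).toMonoidHom) := by rw [h1]; exact mem_top _
    exact h2
  · intro g g0 g1
    have e : g = P0 * (P0⁻¹ * g) := by group
    rw [e, map_mul, map_mul]
    refine Commute.mul_right H.c (ra _ ?_ ?_)
    · have := Mo_PM (F := F) (P0⁻¹ * g) 0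
      have e1 : ((P0⁻¹ * g : alternatingGroup (Fin (m + 4))) : Equiv.Perm (Fin (m + 4))) 0 = 0 := by
        change ((P0 : alternatingGroup (Fin (m + 4))) : Equiv.Perm (Fin (m + 4)))⁻¹ ((g : Equiv.Perm (Fin (m + 4))) 0) = 0
        rw [g0, Equiv.Perm.inv_eq_iff_eq, P0_0]
      rwa [e1] at this
    · have := Mo_PM (F := F) (P0⁻¹ * g) 1
      have e1 : ((P0⁻¹ * g : alternatingGroup (Fin (m + 4))) : Equiv.Perm (Fin (m + 4))) 1 = 1 := by
        change ((P0 : alternatingGroup (Fin (m + 4))) : Equiv.Perm (Fin (m + 4)))⁻¹ ((g : Equiv.Perm (Fin (m + 4))) 1) = 1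
        rw [g1, Equiv.Perm.inv_eq_iff_eq, P0_1]
      rwa [e1] at this

theorem FD.rd (H0 : RD0 ρ s (h01 (m := m))) (H : FD gA gB ρ s) : s * SS ρ s 0 1 1 2 = SS ρ s 0 1 2 0 := by
  rw [H0.SS_eq P1 P1_0 P1_1, H0.SS_eq P1⁻¹ (i := 2) (j := 0)
    (by rw [alt_inv_apply, Equiv.Perm.inv_eq_iff_eq, P1_2]) (by rw [alt_inv_apply, Equiv.Perm.inv_eq_iff_eq, P1_0]),
    map_inv, map_inv, inv_inv]
  exact H.d

theorem card4 : 4 ≤ Fintype.card (Fin (m + 4)) := by rw [Fintype.card_fin]; omega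

/-- `n ≥ 5` -/
theorem FD.rd_five (hm : 1 ≤ m) (hA : closure (Set.range gA) = ⊤) (hB : closure (Set.range gB) = ⊤)
    (hc : ∀ i, Cop (gA i) (gB i)) (H : FD gA gB ρ s) : RD ρ s (h01 (m := m)) h21 h23 := by
  have H0 := H.rd0 hA hB hc
  have h5 : 5 ≤ Fintype.card (Fin (m + 4)) := by rw [Fintype.card_fin]; omega
  have hrd := H.rd H0
  have H1 : RD1 ρ s (h01 (m := m)) 2 := ⟨H0, hrd, r2_of_five h5 H0 h02 h21.symm hrd⟩
  exact ⟨H1, H.e, H1.rf_of_five h5 h02 h21 h23 h03 h13⟩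

/-- `n ≥ 4` -/
theorem FD.rd_four (hA : closure (Set.range gA) = ⊤) (hB : closure (Set.range gB) = ⊤)
    (hc : ∀ i, Cop (gA i) (gB i)) (H : FD gA gB ρ s) (H' : FD' ρ s) : RD ρ s (h01 (m := m)) h21 h23 := by
  have H0 := H.rd0 hA hB hc
  have hrd := H.rd H0
  refine ⟨⟨H0, hrd, H'.q⟩, H.e, ?_⟩
  rw [H0.SS_eq P2 P2_0 P2_1]
  exact H'.f

/-- the relations hold -/
theorem fd_of_rd (H : RD ρ s (h01 (m := m)) h21 h23) : FD gA gB ρ s ∧ FD' ρ s := by
  refine ⟨⟨?_, ?_, ?_, ?_⟩, ⟨H.r2, ?_⟩⟩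
  · intro i
    have h1 := H.rb (gB i)
    have h2 : Commute s (ρ (emb eA eA_inj (gA i))) := by
      apply H.ra
      · constructor
        · intro x
          exact (emb_apply_right eA eA_inj (gA i) (by rintro ⟨j, hj⟩; exact eA_ne0 j hj) x).trans (by simp)
        · intro x
          refine (emb_apply_left eA eA_inj (gA i) (by rintro ⟨j, hj⟩; exact eA_ne0 j hj) x).trans ?_
          simp only [eq_comm, Units.val_one]
      · constructor
        · intro x
          exact (emb_apply_right eA eA_inj (gA i) (by rintro ⟨j, hj⟩; exact eA_ne1 j hj) x).trans (by simp)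
        · intro x
          refine (emb_apply_left eA eA_inj (gA i) (by rintro ⟨j, hj⟩; exact eA_ne1 j hj) x).trans ?_
          simp only [eq_comm, Units.val_one]
    rw [← h1, ← mul_assoc s, h2.eq]; group
  · exact H.rc P0 P0_0 P0_1
  · have := H.rd
    rw [H.SS_eq P1 P1_0 P1_1, H.SS_eq P1⁻¹ (i := 2) (j := 0)
      (by rw [alt_inv_apply, Equiv.Perm.inv_eq_iff_eq, P1_2]) (by rw [alt_inv_apply, Equiv.Perm.inv_eq_iff_eq, P1_0]),
      map_inv, map_inv, inv_inv] at this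
    exact this
  · exact H.re
  · have := H.rf
    rw [H.SS_eq P2 P2_0 P2_1] at this
    exact this

end fd

end Cfsg.Agent.GK.Om
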