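import Cfsg.Agent.GK.Om6
import Cfsg.Agent.S2278

/-!
Presentations of `Ω⁺_{2n}(F)`.
-/

set_option autoImplicit false
set_option linter.unusedSectionVars false
set_option linter.unusedVariables false

namespace Cfsg.Agent.GK.Om

open Subgroup Cfsg.Agent.Orth Cfsg.Agent.ClassO
open scoped commutatorElement

attribute [local instance] Stb.sumNeg

universe v

section gens
variable {F : Type v} [Field F]

theorem thr_tm : (tm : Matrix.SpecialLinearGroup (Fin 2) F) = xm (-1) * thr⁻¹ := by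
  rw [eq_mul_inv_iff_mul_eq]
  apply slext
  rw [Matrix.SpecialLinearGroup.coe_mul, tm_coe, xm_coe]
  change !![0, 1; -1, 0] * !![0, -1; 1, -1] = !![1, -1; 0, 1]
  rw [Matrix.mul_fin_two]
  simp

theorem tm_pow4 : (tm : Matrix.SpecialLinearGroup (Fin 2) F) ^ 4 = 1 := by
  have : (tm : Matrix.SpecialLinearGroup (Fin 2) F) ^ 4 = (tm * tm) * (tm * tm) := by simp only [pow_succ, pow_zero, one_mul, mul_assoc]
  rw [this, tm_sq, ← hm_mul]
  simp [hm_one]

/-- both choices of three generators -/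
theorem top_of {ζ : Fˣ} (hζ : closure (Set.range (gSL ζ)) = ⊤) {g : Fin 3 → Matrix.SpecialLinearGroup (Fin 2) F}
    (h1 : xm 1 ∈ closure (Set.range g)) (h2 : hm ζ ∈ closure (Set.range g))
    (h3 : tm ∈ closure (Set.range g) ∨ thr ∈ closure (Set.range g)) : closure (Set.range g) = ⊤ := by
  have h4 : tm ∈ closure (Set.range g) := by
    rcases h3 with h | h
    · exact h
    · rw [thr_tm, ← xm_neg]
      exact mul_mem (inv_mem h1) (inv_mem h)
  rw [eq_top_iff, ← hζ, closure_le]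
  rintro _ ⟨i, rfl⟩
  fin_cases i
  · exact h1
  · exact h2
  · exact h4

variable [Fintype F]

/-- matrices with nilpotent `u - 1` -/
theorem pow_of_nilpotent {k p : ℕ} [hp : Fact p.Prime] [CharP F p] {u : Matrix.SpecialLinearGroup (Fin k) F}
    (h : IsNilpotent ((u : Matrix (Fin k) (Fin k) F) - 1)) : ∃ n, u ^ (p ^ n) = 1 := by
  obtain ⟨N, hN⟩ := h
  refine ⟨N, ?_⟩
  have hpN : N ≤ p ^ N := (Nat.lt_pow_self hp.out.one_lt).le
  apply Subtype.ext
  rw [Matrix.SpecialLinearGroup.coe_pow, Matrix.SpecialLinearGroup.coe_one]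
  by_cases hk : k = 0
  · subst hk
    exact Subsingleton.elim _ _
  · have : Nonempty (Fin k) := ⟨⟨0, Nat.pos_of_ne_zero hk⟩⟩
    have hc : CharP (Matrix (Fin k) (Fin k) F) p := inferInstance
    have e := sub_pow_char_pow_of_commute (R := Matrix (Fin k) (Fin k) F) (p := p) (n := N) (Commute.one_right (u : Matrix (Fin k) (Fin k) F))
    rw [one_pow] at e
    have e2 : ((u : Matrix (Fin k) (Fin k) F) - 1) ^ (p ^ N) = 0 := by
      obtain ⟨j, hj⟩ := Nat.exists_eq_add_of_le hpN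
      rw [hj, pow_add, hN, zero_mul]
    rw [e2] at e
    exact (sub_eq_zero.1 e.symm)

theorem hm_pow_card (a : Fˣ) : hm a ^ (Fintype.card F - 1) = 1 := by
  rw [hm_pow, ← hm_one]
  congr 1
  apply Units.ext
  rw [Units.val_pow_eq_pow_val, Units.val_one]
  exact FiniteField.pow_card_sub_one_eq_one _ a.ne_zero

theorem cop_card {p : ℕ} [hp : Fact p.Prime] [CharP F p] (k : ℕ) : (p ^ k).Coprime (Fintype.card F - 1) := by
  apply Nat.Coprime.pow_left
  rw [Nat.Prime.coprime_iff_not_dvd hp.out]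
  intro h
  have h1 : p ∣ Fintype.card F := (CharP.cast_eq_zero_iff F p _).1 (FiniteField.cast_card_eq_zero F)
  have h2 : 1 ≤ Fintype.card F := Fintype.card_pos
  have h3 : p ∣ 1 := by
    have := Nat.dvd_sub h1 h
    rwa [Nat.sub_sub_self h2] at this
  exact hp.out.one_lt.ne' (Nat.dvd_one.1 h3)

variable (F) in
/-- data for `n = 4` -/
theorem exists_gens_four : ∃ (gA : Fin 3 → Matrix.SpecialLinearGroup (Fin (0 + 2)) F) (gB : Fin 3 → Matrix.SpecialLinearGroup (Fin 2) F),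
    closure (Set.range gA) = ⊤ ∧ closure (Set.range gB) = ⊤ ∧ ∀ i, Cop (gA i) (gB i) := by
  obtain ⟨ζ, hζ⟩ := exists_isGen F
  obtain ⟨RB, hRB, PB⟩ := exists_sl2 F hζ
  obtain ⟨p, hpc⟩ := CharP.exists F
  have hp : Fact p.Prime := ⟨CharP.char_is_prime F p⟩
  have hx : (xm (1 : F)) ^ (p ^ 1) = 1 := by
    rw [xm_pow, pow_one, CharP.cast_eq_zero, zero_mul, xm_zero]
  refine ⟨gSL ζ, ![hm ζ, xm 1, thr], PB.closure, ?_, ?_⟩
  · refine top_of PB.closure (subset_closure ⟨1, rfl⟩) (subset_closure ⟨0, rfl⟩) (Or.inr (subset_closure ⟨2, rfl⟩))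
  · intro i
    fin_cases i
    · exact ⟨p ^ 1, _, hx, hm_pow_card ζ, cop_card 1⟩
    · exact ⟨_, p ^ 1, hm_pow_card ζ, hx, (cop_card 1).symm⟩
    · exact ⟨4, 3, tm_pow4, thr_pow, by norm_num⟩

variable (F) in
/-- data for `n ≥ 5` -/
theorem exists_gens_five {m : ℕ} (hm : 1 ≤ m) : ∃ (gA : Fin 3 → Matrix.SpecialLinearGroup (Fin (m + 2)) F)
    (gB : Fin 3 → Matrix.SpecialLinearGroup (Fin 2) F),
    closure (Set.range gA) = ⊤ ∧ closure (Set.range gB) = ⊤ ∧ ∀ i, Cop (gA i) (gB i) := by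
  obtain ⟨ζ, hζ⟩ := exists_isGen F
  obtain ⟨RB, hRB, PB⟩ := exists_sl2 F hζ
  obtain ⟨p, hpc⟩ := CharP.exists F
  have hp : Fact p.Prime := ⟨CharP.char_is_prime F p⟩
  -- two unipotent generators
  obtain ⟨u, w, ⟨a, ha⟩, ⟨b, hb⟩, hg⟩ : ∃ u w : Matrix.SpecialLinearGroup (Fin (m + 2)) F, (∃ n, u ^ (p ^ n) = 1) ∧
      (∃ n, w ^ (p ^ n) = 1) ∧ closure {u, w} = ⊤ := by
    by_cases h : m = 1
    · subst h
      obtain ⟨u, g, h1, -, h2⟩ := Cfsg.Agent.S2278.result (F := F)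
      obtain ⟨n, hn⟩ := pow_of_nilpotent (p := p) h1
      exact ⟨u, g * u * g⁻¹, ⟨n, hn⟩, ⟨n, by rw [conj_pow, hn, mul_one, mul_inv_cancel]⟩, h2⟩
    · obtain ⟨⟨u, w, h1, h2, h3⟩, -⟩ := Cfsg.Agent.S2279.result (F := F) (m + 2) (by omega)
      exact ⟨u, w, pow_of_nilpotent (p := p) h1.1, pow_of_nilpotent (p := p) h2.1, h3⟩
  -- the third element
  obtain ⟨t, k, ht, hk, htop⟩ : ∃ (t : Matrix.SpecialLinearGroup (Fin 2) F) (k : ℕ), t ^ k = 1 ∧ p.Coprime k ∧
      (t = tm ∨ t = thr) := by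
    by_cases h2 : p = 2
    · exact ⟨thr, 3, thr_pow, by rw [h2]; norm_num, Or.inr rfl⟩
    · refine ⟨tm, 4, tm_pow4, ?_, Or.inl rfl⟩
      have : p.Coprime 2 := (Nat.coprime_primes hp.out Nat.prime_two).2 h2
      exact Nat.Coprime.pow_right 2 this
  refine ⟨![u, w, 1], ![GK.hm ζ, t, xm 1], ?_, ?_, ?_⟩
  · rw [eq_top_iff, ← hg, closure_le]
    rintro x (rfl | rfl)
    · exact subset_closure ⟨0, rfl⟩
    · exact subset_closure ⟨1, rfl⟩
  · refine top_of PB.closure (subset_closure ⟨2, rfl⟩) (subset_closure ⟨0, rfl⟩) ?_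
    rcases htop with rfl | rfl
    · exact Or.inl (subset_closure ⟨1, rfl⟩)
    · exact Or.inr (subset_closure ⟨1, rfl⟩)
  · intro i
    fin_cases i
    · exact ⟨p ^ a, _, ha, hm_pow_card ζ, cop_card a⟩
    · exact ⟨p ^ b, k, hb, ht, Nat.Coprime.pow_left b hk⟩
    · exact ⟨1, p ^ 1, by simp, by simp [xm_pow, xm_zero], Nat.coprime_one_left _⟩

end gens

section conc
variable (F : Type v) [Field F] [Fintype F] (m : ℕ)

/-- the concrete data -/
theorem exists_conc : ∃ (σ : Matrix.SpecialLinearGroup (Fin (m + 4)) F →* commutator (OGrp (qfPlus (m + 4) F)))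
    (s : commutator (OGrp (qfPlus (m + 4) F))),
    RD σ s (h01 (m := m)) h21 h23 ∧ ∀ {Δ : Type} [Group Δ] (μ : Matrix.SpecialLinearGroup (Fin (m + 4)) F →* Δ) (t : Δ),
      RD μ t (h01 (m := m)) h21 h23 → μ.range ⊔ zpowers t = ⊤ →
      ∀ π : Δ →* commutator (OGrp (qfPlus (m + 4) F)), (∀ M, π (μ M) = σ M) → π t = s → Function.Bijective π := by
  have H := Stb.oqD (F := F) (m := m + 4) (by omega)
  have O := Stb.ofD (F := F)
  have R := Stb.orS H O
  have A := Stb.oaS H O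
  have hG := Stb.ogS H O
  set y := Stb.yS (Stb.QD (m + 4) F) (fun _ => (0 : F)) with hy
  have nl1 : ∀ {i j : Fin (m + 4)}, i ≠ j → (Sum.inl i : Fin (m + 4) ⊕ Fin (m + 4)) ≠ -(Sum.inr j) :=
    fun h e => h (Sum.inl_injective e)
  have sr : Mult.SR (fun i j a => y (Sum.inl i) (Sum.inr j) a) := by
    refine ⟨?_, ?_, ?_⟩
    · intro i j hij a b
      exact R.add Sum.inl_ne_inr (nl1 hij) a b
    · intro i j k hij hjk hik a b
      have := R.c1 (i := Sum.inl i) (j := Sum.inr j) (k := Sum.inr k) Sum.inl_ne_inr (nl1 hij)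
        (fun e => hjk (Sum.inr_injective e)) Sum.inr_ne_inl Sum.inl_ne_inr (nl1 hik) a b
      rw [commutatorElement_def, mul_inv_eq_iff_eq_mul, mul_inv_eq_iff_eq_mul] at this
      rw [mul_assoc] at this
      exact this
    · intro i j k l hij hkl hjk hil a b
      have := R.c4 (i := Sum.inl i) (j := Sum.inr j) (k := Sum.inl k) (l := Sum.inr l) Sum.inl_ne_inr (nl1 hij)
        Sum.inl_ne_inr (nl1 hkl) Sum.inl_ne_inr (fun e => hjk (Sum.inl_injective e).symm)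
        (fun e => hil (Sum.inr_injective e).symm) Sum.inr_ne_inl a b
      rwa [commutatorElement_eq_one_iff_mul_comm] at this
  obtain ⟨σ, hσ⟩ := Or.exists_sl_hom (by rw [Fintype.card_fin]; omega) sr
  have hQ' := qfPlus_nondegenerate (m + 4) F
  have hn : 7 ≤ Module.finrank F ((Fin (m + 4) ⊕ Fin (m + 4) → F) × PUnit.{v + 1}) := by
    rw [(Stb.eD (m + 4) F).finrank_eq, Module.finrank_fintype_fun_eq_card, Fintype.card_sum, Fintype.card_fin]; omega
  have : Nonempty (Fin (m + 4) ⊕ Fin (m + 4)) := ⟨Sum.inl 0⟩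
  let f := Stb.psi H O (Stb.eD (m + 4) F) Stb.heD
  have hf : ∀ x, f x = 1 ↔ (Stb.rS (Stb.QD (m + 4) F) (fun _ => (0 : F))) x = 1 := fun x => Stb.psi_one_iff H O _ Stb.heD x
  have hfs : Function.Surjective f := Stb.psi_surj H O _ Stb.heD hQ' hn
  have n1 : (Sum.inl (0 : Fin (m + 4)) : Fin (m + 4) ⊕ Fin (m + 4)) ≠ Sum.inl 1 := fun e => h01 (Sum.inl_injective e)
  have hk : ∀ g, (Stb.rS (Stb.QD (m + 4) F) (fun _ => (0 : F))) g = 1 → g = 1 ∨ g = Stb.cc y (Sum.inl 0) (Sum.inl 1) (-1) := by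
    intro g hg
    exact Stb.ker_D O R A n1 Sum.inl_ne_inr (by unfold Stb.OGen at hG; rw [hG]; exact mem_top _) hg
  refine ⟨f.comp σ, f (sh y 0 1), rd_conc O R A hσ hf card4 h01 h21 h23 h02 h03 h13, ?_⟩
  intro Δ _ μ t hrd hgen π hπ hπs
  refine bij O R A hG hσ hf card4 h02 h03 h13 hk hfs hrd hgen hπ hπs ?_ rfl rfl
  intro y' z' OR'
  obtain ⟨τ, hτ, -⟩ := Stb.exists_hom_D H O OR' n1 Sum.inl_ne_inr
  exact ⟨τ, hτ⟩

end conc

end Cfsg.Agent.GK.Om
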