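import Cfsg.Agent.GK.Om7

/-!
Presentations of `Ω⁺_{2n}(F)` and `PΩ⁺_{2n}(F)`.
-/

set_option autoImplicit false
set_option linter.unusedSectionVars false
set_option linter.unusedVariables false

namespace Cfsg.Agent.GK.Om

open Subgroup
open scoped commutatorElement

universe v

section free

theorem isPres_free (k : ℕ) : IsPres ((∅ : Finset (FreeGroup (Fin k))) : Set (FreeGroup (Fin k))) (FreeGroup.of : Fin k → FreeGroup (Fin k)) := by
  refine ⟨fun w => ?_, fun g => ⟨g, ?_⟩⟩
  · rw [Finset.coe_empty, normalClosure_empty, mem_bot]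
    have : FreeGroup.lift (FreeGroup.of : Fin k → FreeGroup (Fin k)) = MonoidHom.id _ := by ext i; simp
    rw [this]; rfl
  · have : FreeGroup.lift (FreeGroup.of : Fin k → FreeGroup (Fin k)) = MonoidHom.id _ := by ext i; simp
    rw [this]; rfl

theorem range_free_one {Γ : Type*} [Group Γ] (θ : FreeGroup (Fin 1) →* Γ) : θ.range ≤ zpowers (θ (FreeGroup.of 0)) := by
  have e : θ = FreeGroup.lift (fun i => θ (FreeGroup.of i)) := by ext i; simp
  have h : θ.range = closure (Set.range (fun i => θ (FreeGroup.of i))) := by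
    conv_lhs => rw [e]
    exact FreeGroup.range_lift_eq_closure
  rw [h, closure_le]
  rintro _ ⟨i, rfl⟩
  have : i = 0 := Subsingleton.elim _ _
  rw [this]
  exact mem_zpowers _

end free

section rel
variable {F : Type v} [Field F] {m : ℕ}

/-- the relators -/
noncomputable def EE5 (gA : Fin 3 → Matrix.SpecialLinearGroup (Fin (m + 2)) F) (gB : Fin 3 → Matrix.SpecialLinearGroup (Fin 2) F) :
    Fin 3 ⊕ Fin 3 → Monoid.Coprod (Matrix.SpecialLinearGroup (Fin (m + 4)) F) (FreeGroup (Fin 1)) :=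
  let P := Monoid.Coprod (Matrix.SpecialLinearGroup (Fin (m + 4)) F) (FreeGroup (Fin 1))
  let il : Matrix.SpecialLinearGroup (Fin (m + 4)) F →* P := Monoid.Coprod.inl
  let S : P := Monoid.Coprod.inr (FreeGroup.of 0)
  Sum.elim
    (fun i => S * (il (emb eA eA_inj (gA i)) * il (emb2 h01 (gB i))) * S⁻¹ *
      (il (emb eA eA_inj (gA i)) * il (emb2 h01 (tm * gB i * tm⁻¹)))⁻¹)
    ![S * il (PM P0) * (il (PM P0) * S)⁻¹,
      S * (il (PM P1) * S * (il (PM P1))⁻¹) * ((il (PM P1))⁻¹ * S * il (PM P1))⁻¹,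
      il (tvl h21 1) * (S * il (tvl h21 1) * S⁻¹) * (S * il (tvl h21 1) * S⁻¹ * il (tvl h21 1))⁻¹]

/-- the further relators -/
noncomputable def EE4 : Fin 2 → Monoid.Coprod (Matrix.SpecialLinearGroup (Fin (m + 4)) F) (FreeGroup (Fin 1)) :=
  let P := Monoid.Coprod (Matrix.SpecialLinearGroup (Fin (m + 4)) F) (FreeGroup (Fin 1))
  let il : Matrix.SpecialLinearGroup (Fin (m + 4)) F →* P := Monoid.Coprod.inl
  let S : P := Monoid.Coprod.inr (FreeGroup.of 0)
  ![S * S,
    il (tvl h01 1) * ((il (PM P2) * S * (il (PM P2))⁻¹) * il (tvl h23 1) * (il (PM P2) * S * (il (PM P2))⁻¹)⁻¹) *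
    ((il (PM P2) * S * (il (PM P2))⁻¹) * il (tvl h23 1) * (il (PM P2) * S * (il (PM P2))⁻¹)⁻¹ * il (tvl h01 1))⁻¹]

variable {gA : Fin 3 → Matrix.SpecialLinearGroup (Fin (m + 2)) F} {gB : Fin 3 → Matrix.SpecialLinearGroup (Fin 2) F}
  {Γ : Type*} [Group Γ] {ρ : Matrix.SpecialLinearGroup (Fin (m + 4)) F →* Γ} {θ : FreeGroup (Fin 1) →* Γ}

theorem EE5_iff : (∀ k, Monoid.Coprod.lift ρ θ (EE5 gA gB k) = 1) ↔ FD gA gB ρ (θ (FreeGroup.of 0)) := by
  constructor
  · intro h
    have c := h (Sum.inr 0)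
    have d := h (Sum.inr 1)
    have e := h (Sum.inr 2)
    refine ⟨?_, ?_, ?_, ?_⟩
    · intro i
      have := h (Sum.inl i)
      simp only [EE5, Sum.elim_inl, map_mul, map_inv, Monoid.Coprod.lift_apply_inl,
        Monoid.Coprod.lift_apply_inr, mul_inv_eq_one] at this
      simpa only [map_mul, map_inv] using this
    · simpa only [EE5, Sum.elim_inr, Matrix.cons_val_zero, map_mul, map_inv, Monoid.Coprod.lift_apply_inl,
        Monoid.Coprod.lift_apply_inr, mul_inv_eq_one] using c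
    · simpa only [EE5, Sum.elim_inr, Matrix.cons_val, map_mul, map_inv, Monoid.Coprod.lift_apply_inl,
        Monoid.Coprod.lift_apply_inr, mul_inv_eq_one] using d
    · simpa only [EE5, Sum.elim_inr, Matrix.cons_val, map_mul, map_inv, Monoid.Coprod.lift_apply_inl,
        Monoid.Coprod.lift_apply_inr, mul_inv_eq_one] using e
  · intro h k
    rcases k with k | k
    · simp only [EE5, Sum.elim_inl, map_mul, map_inv, Monoid.Coprod.lift_apply_inl,
        Monoid.Coprod.lift_apply_inr, mul_inv_eq_one]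
      simpa only [map_mul, map_inv] using h.ab k
    · fin_cases k
      · simpa only [EE5, Sum.elim_inr, Fin.zero_eta, Matrix.cons_val_zero, map_mul, map_inv, Monoid.Coprod.lift_apply_inl,
          Monoid.Coprod.lift_apply_inr, mul_inv_eq_one] using h.c
      · simpa only [EE5, Sum.elim_inr, Fin.mk_one, Matrix.cons_val, map_mul, map_inv, Monoid.Coprod.lift_apply_inl,
          Monoid.Coprod.lift_apply_inr, mul_inv_eq_one] using h.d
      · simpa only [EE5, Sum.elim_inr, Fin.reduceFinMk, Matrix.cons_val, map_mul, map_inv, Monoid.Coprod.lift_apply_inl,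
          Monoid.Coprod.lift_apply_inr, mul_inv_eq_one] using h.e

theorem EE4_iff : (∀ k, Monoid.Coprod.lift ρ θ (EE4 k) = 1) ↔ FD' ρ (θ (FreeGroup.of 0)) := by
  constructor
  · intro h
    have c := h 0
    have d := h 1
    refine ⟨?_, ?_⟩
    · simpa only [EE4, Matrix.cons_val_zero, map_mul, map_inv, Monoid.Coprod.lift_apply_inl,
        Monoid.Coprod.lift_apply_inr, mul_inv_eq_one] using c
    · simpa only [EE4, Matrix.cons_val, map_mul, map_inv, Monoid.Coprod.lift_apply_inl,
        Monoid.Coprod.lift_apply_inr, mul_inv_eq_one] using d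
  · intro h k
    fin_cases k
    · simpa only [EE4, Fin.zero_eta, Matrix.cons_val_zero, map_mul, map_inv, Monoid.Coprod.lift_apply_inl,
        Monoid.Coprod.lift_apply_inr, mul_inv_eq_one] using h.q
    · simpa only [EE4, Fin.mk_one, Matrix.cons_val, map_mul, map_inv, Monoid.Coprod.lift_apply_inl,
        Monoid.Coprod.lift_apply_inr, mul_inv_eq_one] using h.f

end rel

section final
open Cfsg.Agent.Orth Cfsg.Agent.ClassO
variable (F : Type v) [Field F] [Fintype F]

/-- `n ≥ 5` -/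
theorem glue_five {m k : ℕ} (hm : 1 ≤ m) {RA : Finset (FreeGroup (Fin k))} {xA : Fin k → Matrix.SpecialLinearGroup (Fin (m + 4)) F}
    (PA : IsPres (RA : Set (FreeGroup (Fin k))) xA) :
    ∃ (R : Finset (FreeGroup (Fin (k + 1)))) (x : Fin (k + 1) → commutator (OGrp (qfPlus (m + 4) F))),
      R.card ≤ RA.card + 6 ∧ IsPres (R : Set (FreeGroup (Fin (k + 1)))) x := by
  obtain ⟨gA, gB, hA, hB, hc⟩ := exists_gens_five F hm
  obtain ⟨σ, s, H, hbij⟩ := exists_conc F m
  obtain ⟨R, x, hR, P⟩ := glue_pres' PA (isPres_free 1) σ (FreeGroup.lift (fun _ => s)) (EE5 gA gB)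
    (EE5_iff.2 (by rw [FreeGroup.lift_apply_of]; exact (fd_of_rd H).1)) (by
      intro Γ _ ρ θ h hg π h1 h2
      refine hbij ρ (θ (FreeGroup.of 0)) ((EE5_iff.1 h).rd_five hm hA hB hc) ?_ π h1 ?_
      · rw [eq_top_iff, ← hg]
        exact sup_le_sup_left (range_free_one θ) _
      · rw [h2, FreeGroup.lift_apply_of])
  refine ⟨R, x, ?_, P⟩
  rw [Finset.card_empty, Fintype.card_sum, Fintype.card_fin] at hR
  omega

/-- `n = 4` -/
theorem glue_four {k : ℕ} {RA : Finset (FreeGroup (Fin k))} {xA : Fin k → Matrix.SpecialLinearGroup (Fin (0 + 4)) F}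
    (PA : IsPres (RA : Set (FreeGroup (Fin k))) xA) :
    ∃ (R : Finset (FreeGroup (Fin (k + 1)))) (x : Fin (k + 1) → commutator (OGrp (qfPlus (0 + 4) F))),
      R.card ≤ RA.card + 8 ∧ IsPres (R : Set (FreeGroup (Fin (k + 1)))) x := by
  obtain ⟨gA, gB, hA, hB, hc⟩ := exists_gens_four F
  obtain ⟨σ, s, H, hbij⟩ := exists_conc F 0
  have hfd := fd_of_rd (gA := gA) (gB := gB) H
  obtain ⟨R, x, hR, P⟩ := glue_pres' PA (isPres_free 1) σ (FreeGroup.lift (fun _ => s)) (Sum.elim (EE5 gA gB) EE4)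
    (by
      intro i
      rcases i with i | i
      · exact EE5_iff.2 (by rw [FreeGroup.lift_apply_of]; exact hfd.1) i
      · exact EE4_iff.2 (by rw [FreeGroup.lift_apply_of]; exact hfd.2) i) (by
      intro Γ _ ρ θ h hg π h1 h2
      have e5 := (EE5_iff (gA := gA) (gB := gB)).1 (fun i => h (Sum.inl i))
      have e4 := EE4_iff.1 (fun i => h (Sum.inr i))
      refine hbij ρ (θ (FreeGroup.of 0)) (e5.rd_four hA hB hc e4) ?_ π h1 ?_
      · rw [eq_top_iff, ← hg]
        exact sup_le_sup_left (range_free_one θ) _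
      · rw [h2, FreeGroup.lift_apply_of])
  refine ⟨R, x, ?_, P⟩
  rw [Finset.card_empty, Fintype.card_sum, Fintype.card_sum, Fintype.card_fin, Fintype.card_fin] at hR
  omega

/-- small degree -/
theorem small {n : ℕ} (hn : 4 ≤ n) (h5 : n ≤ 5) : ∃ (R : Finset (FreeGroup (Fin 8))) (x : Fin 8 → commutator (OGrp (qfPlus n F))),
    R.card ≤ 29 ∧ IsPres (R : Set (FreeGroup (Fin 8))) x := by
  have h : n = 4 ∨ n = 5 := by omega
  rcases h with rfl | rfl
  · obtain ⟨RA, xA, hRA, PA⟩ := sl4_six F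
    obtain ⟨R, x, hR, P⟩ := glue_four F (k := 6) PA
    obtain ⟨R', y, hR', P'⟩ := P.add_gen (by norm_num)
    exact ⟨R', y, by omega, P'⟩
  · obtain ⟨RA, xA, hRA, PA⟩ := sl5_six F
    obtain ⟨R, x, hR, P⟩ := glue_five F (m := 1) (k := 6) le_rfl PA
    obtain ⟨R', y, hR', P'⟩ := P.add_gen (by norm_num)
    exact ⟨R', y, by omega, P'⟩

/-- all degrees -/
theorem all {n : ℕ} (hn : 4 ≤ n) : ∃ (R : Finset (FreeGroup (Fin 8))) (x : Fin 8 → commutator (OGrp (qfPlus n F))),
    R.card ≤ 31 ∧ IsPres (R : Set (FreeGroup (Fin 8))) x := by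
  by_cases h4 : n = 4
  · obtain ⟨R, x, hR, P⟩ := small F hn (by omega)
    exact ⟨R, x, by omega, P⟩
  · obtain ⟨RA, xA, hRA, PA⟩ := sln_seven F n hn
    obtain ⟨m, rfl⟩ : ∃ m, n = m + 4 := ⟨n - 4, by omega⟩
    obtain ⟨R, x, hR, P⟩ := glue_five F (m := m) (k := 7) (by omega) PA
    exact ⟨R, x, by omega, P⟩

/-- the centre is the normal closure of one element -/
theorem center_gen {n : ℕ} (hn : 4 ≤ n) : ∃ z : commutator (OGrp (qfPlus n F)),
    center (commutator (OGrp (qfPlus n F))) = normalClosure {z} := by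
  have hQ' := qfPlus_nondegenerate n F
  have hH := hyp_plus F n (Fin.castLE (show 3 ≤ n by omega)) (Fin.castLE_injective _)
  have hR' := Cfsg.Agent.ClassO.RGrp_plus (F := F) (m := n) (show n ≠ 2 by omega)
  have hE := commutator_eq_EGrp hQ' hR' hH
  by_cases h : ∃ z ∈ center (commutator (OGrp (qfPlus n F))), z ≠ 1
  · obtain ⟨z, hz, hz1⟩ := h
    refine ⟨z, le_antisymm ?_ ?_⟩
    · intro w hw
      rcases Cfsg.Agent.ClassO.center_cases hQ' hR' hH _ hE hw with h1 | h1
      · have : w = 1 := h1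
        rw [this]; exact one_mem _
      · rcases Cfsg.Agent.ClassO.center_cases hQ' hR' hH _ hE hz with h2 | h2
        · exact absurd h2 hz1
        · have : w = z := by
            apply Subtype.ext
            refine OGrp_ext fun x => ?_
            rw [h1, h2]
          rw [this]; exact subset_normalClosure (Set.mem_singleton _)
    · apply normalClosure_le_normal
      rw [Set.singleton_subset_iff]; exact hz
  · push Not at h
    refine ⟨1, le_antisymm ?_ ?_⟩
    · intro w hw
      rw [h w hw]; exact one_mem _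
    · apply normalClosure_le_normal
      rw [Set.singleton_subset_iff]; exact one_mem _

/-- presentations of the central quotient -/
theorem pom_of {n k : ℕ} (hn : 4 ≤ n) {R : Finset (FreeGroup (Fin k))} {x : Fin k → commutator (OGrp (qfPlus n F))}
    (h : IsPres (R : Set (FreeGroup (Fin k))) x) :
    ∃ (R' : Finset (FreeGroup (Fin k))), R'.card ≤ R.card + 1 ∧
      Nonempty (PresentedGroup (R' : Set (FreeGroup (Fin k))) ≃* Cfsg.POmega F (Cfsg.quadFormPlus n F)) := by
  classical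
  obtain ⟨z, hz⟩ := center_gen F hn
  obtain ⟨w, hw⟩ := h.surj z
  have P' := h.quot w (center (commutator (OGrp (qfPlus n F)))) (by rw [hw, hz])
  rw [← Finset.coe_insert] at P'
  obtain ⟨e, -⟩ := (P'.map (pomE (qfPlus n F)).symm).exists_equiv
  exact ⟨insert w R, Finset.card_insert_le _ _, ⟨e⟩⟩

theorem om_of {n k : ℕ} {R : Finset (FreeGroup (Fin k))} {x : Fin k → commutator (OGrp (qfPlus n F))}
    (h : IsPres (R : Set (FreeGroup (Fin k))) x) :
    Nonempty (PresentedGroup (R : Set (FreeGroup (Fin k))) ≃* ↥(Cfsg.Omega F (Cfsg.quadFormPlus n F))) := by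
  obtain ⟨e, -⟩ := (h.map (omE (qfPlus n F)).symm).exists_equiv
  exact ⟨e⟩

end final

end Cfsg.Agent.GK.Om
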