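import Cfsg.Agent.GK.SpP
import Cfsg.Agent.GK.SL3E
import Cfsg.Agent.ClassSp.Simple
import Cfsg.Agent.H42.CycGen10
import Cfsg.Agent.S2279

/-!
The presentations of `Sp_{2n}(F)` and `PSp_{2n}(F)`.
-/

set_option autoImplicit false

namespace Cfsg.Agent.GK

open Subgroup

universe v

section
variable (F : Type v) [Field F]

theorem center_gen_sp (l : Type*) [Fintype l] [DecidableEq l] :
    center (Matrix.symplecticGroup l F) = normalClosure {ClassSp.scalarSp (l := l) (-1 : F) (by ring)} := by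
  apply le_antisymm
  · intro z hz
    obtain ⟨a, ha, h⟩ := ClassSp.mem_center_iff.1 hz
    rcases mul_self_eq_one_iff.1 ((sq a).symm.trans ha) with rfl | rfl
    · have : z = 1 := ClassSp.ext_vec fun v => by rw [h, ClassSp.one_mulVec', one_smul]
      rw [this]
      exact one_mem _
    · have : z = ClassSp.scalarSp (l := l) (-1 : F) (by ring) := ClassSp.ext_vec fun v => by
        rw [h, ClassSp.scalarSp_mulVec]
      rw [this]
      exact subset_normalClosure (Set.mem_singleton _)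
  · apply normalClosure_le_normal
    rw [Set.singleton_subset_iff]
    exact ClassSp.mem_center_iff.2 ⟨-1, by ring, fun v => ClassSp.scalarSp_mulVec _ _ v⟩

/-- the projective group -/
theorem psp_of_sp {n k : ℕ} {R : Finset (FreeGroup (Fin k))} {x : Fin k → Matrix.symplecticGroup (Fin n) F}
    (h : IsPres (R : Set (FreeGroup (Fin k))) x) :
    ∃ (R' : Finset (FreeGroup (Fin k))) (y : Fin k → Cfsg.PSp n F),
      R'.card ≤ R.card + 1 ∧ IsPres (R' : Set (FreeGroup (Fin k))) y := by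
  classical
  obtain ⟨w, hw⟩ := h.surj (ClassSp.scalarSp (l := Fin n) (-1 : F) (by ring))
  have P' := h.quot w (center (Matrix.symplecticGroup (Fin n) F)) (by rw [hw, center_gen_sp])
  rw [← Finset.coe_insert] at P'
  exact ⟨insert w R, _, Finset.card_insert_le _ _, P'⟩

end

section fin
variable (F : Type v) [Field F] [Fintype F]

theorem sp4_six : ∃ (R : Finset (FreeGroup (Fin 6))) (x : Fin 6 → Matrix.symplecticGroup (Fin 2) F),
    R.card ≤ 34 ∧ IsPres (R : Set (FreeGroup (Fin 6))) x := by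
  obtain ⟨ζ, hζ⟩ := exists_isGen F
  obtain ⟨RA, hRA, PA⟩ := exists_sl2 F hζ
  obtain ⟨R, x, hR, P⟩ := sp_glue (n := 1) (r := 0) le_rfl PA (fun i => i.elim0) (by
    rw [eq_top_iff]
    intro g _
    have : g = 1 := by
      apply Subtype.ext
      ext i j
      have h1 := g.2
      rw [Matrix.det_fin_one] at h1
      fin_cases i; fin_cases j
      simpa using h1
    rw [this]
    exact one_mem _)
  exact ⟨R, x, by omega, P⟩

theorem gen_pair {G : Type*} [Group G] {u v : G} (h : closure {u, v} = ⊤) :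
    closure (Set.range ![u, v]) = ⊤ := by
  rw [← h]
  congr 1
  ext x
  simp [eq_comm, or_comm]

theorem sp6_seven : ∃ (R : Finset (FreeGroup (Fin 7))) (x : Fin 7 → Matrix.symplecticGroup (Fin 3) F),
    R.card ≤ 49 ∧ IsPres (R : Set (FreeGroup (Fin 7))) x := by
  obtain ⟨ζ, hζ⟩ := exists_isGen F
  obtain ⟨RA, hRA, PA⟩ := sl3_pres hζ
  obtain ⟨RB, hRB, PB⟩ := exists_sl2 F hζ
  obtain ⟨R, x, hR, P⟩ := sp_glue (n := 2) (by norm_num) PA (gSL ζ) PB.closure
  exact ⟨R, x, by omega, P⟩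

theorem sp8_nine : ∃ (R : Finset (FreeGroup (Fin 9))) (x : Fin 9 → Matrix.symplecticGroup (Fin 4) F),
    R.card ≤ 52 ∧ IsPres (R : Set (FreeGroup (Fin 9))) x := by
  obtain ⟨RA, xA, hRA, PA⟩ := sl4_six F
  obtain ⟨u, g, hu, hg⟩ := Cfsg.Agent.H42.CycGen.pair_three (F := F)
  obtain ⟨R, x, hR, P⟩ := sp_glue (n := 3) (by norm_num) PA ![u, g * u * g⁻¹] (gen_pair hg)
  exact ⟨R, x, by omega, P⟩

theorem sp10_nine : ∃ (R : Finset (FreeGroup (Fin 9))) (x : Fin 9 → Matrix.symplecticGroup (Fin 5) F),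
    R.card ≤ 54 ∧ IsPres (R : Set (FreeGroup (Fin 9))) x := by
  obtain ⟨RA, xA, hRA, PA⟩ := sl5_six F
  obtain ⟨⟨u, v, -, -, hg⟩, -⟩ := Cfsg.Agent.S2279.result (F := F) 4 le_rfl
  obtain ⟨R, x, hR, P⟩ := sp_glue (n := 4) (by norm_num) PA ![u, v] (gen_pair hg)
  exact ⟨R, x, by omega, P⟩

theorem spn_ten (n : ℕ) (hn : 4 ≤ n) :
    ∃ (R : Finset (FreeGroup (Fin 10))) (x : Fin 10 → Matrix.symplecticGroup (Fin n) F),
    R.card ≤ 57 ∧ IsPres (R : Set (FreeGroup (Fin 10))) x := by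
  by_cases h4 : n = 4
  · subst h4
    obtain ⟨R, x, hR, P⟩ := sp8_nine F
    obtain ⟨R', y, hR', P'⟩ := P.add_gen (by norm_num)
    exact ⟨R', y, by omega, P'⟩
  · obtain ⟨RA, xA, hRA, PA⟩ := sln_seven F n hn
    obtain ⟨m, rfl⟩ : ∃ m, n = m + 1 := ⟨n - 1, by omega⟩
    obtain ⟨⟨u, v, -, -, hg⟩, -⟩ := Cfsg.Agent.S2279.result (F := F) m (by omega)
    obtain ⟨R, x, hR, P⟩ := sp_glue (n := m) (by omega) PA ![u, v] (gen_pair hg)
    exact ⟨R, x, by omega, P⟩

end fin

end Cfsg.Agent.GK
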