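import Cfsg.Agent.GK.SpD
import Cfsg.Agent.GK.SpF

/-!
Two generators of `Sp_{2m}(F)`.
-/

set_option autoImplicit false
set_option linter.unusedSectionVars false
set_option linter.unusedVariables false
set_option linter.unusedSimpArgs false

namespace Cfsg.Agent.GK

open Subgroup
open Cfsg.Agent.ClassSp (sf tv tv_mulVec tv_conj tv_smul tv_add tv_zero ext_vec mul_mulVec one_mulVec' mulVec_inv_mulVec inv_mulVec_mulVec ofLin
  ofLin_mulVec sf_mulVec sf_add_left sf_add_right sf_smul_left sf_smul_right sf_self sf_sub_left sf_sub_right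
  sf_neg_left sf_neg_right sf_swap)

universe v

/-- the two factors of a product of commuting elements of coprime orders -/
theorem coprime_mem {G : Type*} [Group G] {H : Subgroup G} {a b : G} {n m : ℕ} (hab : Commute a b) (ha : a ^ n = 1)
    (hb : b ^ m = 1) (hnm : n.Coprime m) (h : a * b ∈ H) : a ∈ H ∧ b ∈ H := by
  have h1 : a ^ m ∈ H := by
    have := H.pow_mem h m
    rwa [hab.mul_pow, hb, mul_one] at this
  have h2 : a ∈ H := by
    obtain ⟨u, v, huv⟩ := Int.isCoprime_iff_gcd_eq_one.2 (by exact_mod_cast hnm : Int.gcd (n : ℤ) (m : ℤ) = 1)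
    have e : a = (a ^ m) ^ v := by
      rw [← zpow_natCast, ← zpow_mul]
      have e1 : a ^ ((m : ℤ) * v) = a ^ (u * n + v * m) := by
        rw [zpow_add, mul_comm u, zpow_mul a (n : ℤ) u, zpow_natCast, ha, one_zpow, one_mul, mul_comm]
      rw [e1, huv, zpow_one]
    rw [e]
    exact H.zpow_mem h1 _
  exact ⟨h2, (H.mul_mem_cancel_left h2).1 h⟩

section phi
variable {F : Type v} [Field F] {l : Type*} [Fintype l] [DecidableEq l]

/-- basis vectors -/
noncomputable def be (i : l) : l ⊕ l → F := Pi.single (Sum.inl i) 1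
/-- basis vectors -/
noncomputable def bf (i : l) : l ⊕ l → F := Pi.single (Sum.inr i) 1

theorem be_l (i j : l) : be (F := F) i (Sum.inl j) = if j = i then 1 else 0 := by
  simp [be, Pi.single_apply]
theorem be_r (i j : l) : be (F := F) i (Sum.inr j) = 0 := by
  simp [be]
theorem bf_l (i j : l) : bf (F := F) i (Sum.inl j) = 0 := by
  simp [bf]
theorem bf_r (i j : l) : bf (F := F) i (Sum.inr j) = if j = i then 1 else 0 := by
  simp [bf, Pi.single_apply]

theorem sf_be (v : l ⊕ l → F) (i : l) : sf v (be i) = - v (Sum.inr i) := by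
  rw [sf_swap, be, ClassSp.sf_single_inl_left]
theorem sf_bf (v : l ⊕ l → F) (i : l) : sf v (bf i) = v (Sum.inl i) := by
  rw [sf_swap, bf, ClassSp.sf_single_inr_left, neg_neg]

/-- vectors all of whose transvections are in `H` -/
def Ph (H : Subgroup (Matrix.symplecticGroup l F)) : Set (l ⊕ l → F) := {v | ∀ c, tv v c ∈ H}

variable {H : Subgroup (Matrix.symplecticGroup l F)}

theorem Ph.smul {u : l ⊕ l → F} (hu : u ∈ Ph H) (a : F) : a • u ∈ Ph H := by
  intro c
  rw [tv_smul]
  exact hu _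

theorem Ph.act {u : l ⊕ l → F} (hu : u ∈ Ph H) {g : Matrix.symplecticGroup l F} (hg : g ∈ H) :
    (g : Matrix (l ⊕ l) (l ⊕ l) F).mulVec u ∈ Ph H := by
  intro c
  rw [← tv_conj]
  exact mul_mem (mul_mem hg (hu c)) (inv_mem hg)

theorem Ph.act' {u : l ⊕ l → F} {g : Matrix.symplecticGroup l F} (hg : g ∈ H)
    (hu : (g : Matrix (l ⊕ l) (l ⊕ l) F).mulVec u ∈ Ph H) : u ∈ Ph H := by
  have := Ph.act hu (inv_mem hg)
  rwa [inv_mulVec_mulVec] at this

theorem Ph.tr {u v : l ⊕ l → F} (hu : u ∈ Ph H) (hv : v ∈ Ph H) (c : F) : v + (c * sf v u) • u ∈ Ph H := by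
  have := Ph.act hv (hu c)
  rwa [tv_mulVec] at this

theorem Ph.comb {u v : l ⊕ l → F} (hu : u ∈ Ph H) (hv : v ∈ Ph H) (h : sf u v ≠ 0) (a b : F) :
    a • u + b • v ∈ Ph H := by
  by_cases hb : b = 0
  · rw [hb, zero_smul, add_zero]
    exact Ph.smul hu a
  · have h1 : sf v u ≠ 0 := by rw [sf_swap]; exact neg_ne_zero.2 h
    have := Ph.tr hu (Ph.smul hv b) (a / (b * sf v u))
    rwa [sf_smul_left, div_mul_cancel₀ _ (mul_ne_zero hb h1), add_comm] at this

theorem Ph.add {u v : l ⊕ l → F} (hu : u ∈ Ph H) (hv : v ∈ Ph H) (h : sf u v ≠ 0) : u + v ∈ Ph H := by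
  have := Ph.comb hu hv h 1 1
  rwa [one_smul, one_smul] at this

theorem Ph.sub {u v : l ⊕ l → F} (hu : u ∈ Ph H) (hv : v ∈ Ph H) (h : sf u v ≠ 0) : u - v ∈ Ph H := by
  have := Ph.comb hu hv h 1 (-1)
  rwa [one_smul, neg_smul, one_smul, ← sub_eq_add_neg] at this

theorem Ph.move {a a' r : l ⊕ l → F} (hd : a' - a ∈ Ph H) (ha : a + r ∈ Ph H) (hr : sf r (a' - a) = 0)
    (h : sf a a' ≠ 0) : a' + r ∈ Ph H := by
  have := Ph.tr hd ha (sf a a')⁻¹
  rw [sf_add_left, hr, sf_sub_right, sf_self, sub_zero, add_zero, inv_mul_cancel₀ h, one_smul] at this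
  have e : a + r + (a' - a) = a' + r := by abel
  rwa [e] at this

theorem Ph.of_scal [Fintype F] {ζ : Fˣ} (hζ : IsGen ζ) {g : Matrix.symplecticGroup l F} (hg : g ∈ H) {u : l ⊕ l → F}
    (hgu : (g : Matrix (l ⊕ l) (l ⊕ l) F).mulVec u = (ζ : F) • u) (h1 : tv u 1 ∈ H) : u ∈ Ph H := by
  intro c
  refine sq_ind hζ (P := fun c => tv u c ∈ H) ?_ ?_ h1 ?_ c
  · show tv u 0 ∈ H
    rw [tv_zero]; exact one_mem _
  · intro a b ha hb
    show tv u (a + b) ∈ H
    rw [tv_add]; exact mul_mem ha hb
  · intro a ha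
    show tv u ((ζ : F) ^ 2 * a) ∈ H
    rw [← tv_smul, ← hgu, ← tv_conj]
    exact mul_mem (mul_mem hg ha) (inv_mem hg)

/-- the vector has support in the planes `i`, `j` -/
def Sup (i j : l) (z : l ⊕ l → F) : Prop := ∀ k, k ≠ i → k ≠ j → z (Sum.inl k) = 0 ∧ z (Sum.inr k) = 0

theorem Sup.eq {i j : l} (hij : i ≠ j) {z : l ⊕ l → F} (h : Sup i j z) :
    z = (z (Sum.inl i) • be i + z (Sum.inr i) • bf i) + (z (Sum.inl j) • be j + z (Sum.inr j) • bf j) := by
  ext p
  rcases p with k | k
  · simp only [Pi.add_apply, Pi.smul_apply, smul_eq_mul, be_l, bf_l]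
    by_cases h1 : k = i
    · subst h1; simp [hij]
    · by_cases h2 : k = j
      · subst h2; simp [h1]
      · simp [h1, h2, (h k h1 h2).1]
  · simp only [Pi.add_apply, Pi.smul_apply, smul_eq_mul, be_r, bf_r]
    by_cases h1 : k = i
    · subst h1; simp [hij]
    · by_cases h2 : k = j
      · subst h2; simp [h1]
      · simp [h1, h2, (h k h1 h2).2]

/-- one plane acts transitively -/
theorem Ph.plane {i : l} (he : be (F := F) i ∈ Ph H) (hf : bf (F := F) i ∈ Ph H) {r : l ⊕ l → F}
    (hr : r (Sum.inl i) = 0) (hr' : r (Sum.inr i) = 0) (h : be i + r ∈ Ph H) (a b : F) (hab : a ≠ 0 ∨ b ≠ 0) :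
    (a • be i + b • bf i) + r ∈ Ph H := by
  have hP : ∀ a b : F, a • be (F := F) i + b • bf i ∈ Ph H := Ph.comb he hf (by
    rw [sf_bf, be_l, if_pos rfl]; exact one_ne_zero)
  have hs : ∀ a b : F, sf r (a • be (F := F) i + b • bf i) = 0 := by
    intro a b
    rw [sf_add_right, sf_smul_right, sf_smul_right, sf_be, sf_bf, hr, hr']; ring
  have step : ∀ a b a' b' : F, (a • be (F := F) i + b • bf i) + r ∈ Ph H → a * b' - b * a' ≠ 0 →
      (a' • be (F := F) i + b' • bf i) + r ∈ Ph H := by
    intro a b a' b' h1 h2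
    have e : (a' • be (F := F) i + b' • bf i) - (a • be i + b • bf i) = (a' - a) • be i + (b' - b) • bf i := by
      module
    refine Ph.move (a := a • be (F := F) i + b • bf i) ?_ h1 ?_ ?_
    · rw [e]; exact hP _ _
    · rw [e]; exact hs _ _
    · rw [sf_add_right, sf_smul_right, sf_smul_right, sf_be, sf_bf]
      simp only [Pi.add_apply, Pi.smul_apply, smul_eq_mul, be_l, bf_l, be_r, bf_r, if_true]
      intro h3
      apply h2
      linear_combination h3
  have h0 : ((1 : F) • be (F := F) i + (0 : F) • bf i) + r ∈ Ph H := by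
    rw [one_smul, zero_smul, add_zero]; exact h
  by_cases hb : b = 0
  · subst hb
    have ha : a ≠ 0 := by
      rcases hab with h | h
      · exact h
      · exact absurd rfl h
    refine step 0 1 a 0 (step 1 0 0 1 h0 (by simp)) ?_
    simpa using ha
  · exact step 1 0 a b h0 (by simpa using hb)

/-- the sum of two planes -/
theorem Ph.planes {i j : l} (hij : i ≠ j) (hei : be (F := F) i ∈ Ph H) (hfi : bf (F := F) i ∈ Ph H)
    (hej : be (F := F) j ∈ Ph H) (hfj : bf (F := F) j ∈ Ph H) (h : be (F := F) i + be j ∈ Ph H)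
    {z : l ⊕ l → F} (hz : Sup i j z) : z ∈ Ph H := by
  rw [hz.eq hij]
  have hPi : ∀ a b : F, a • be (F := F) i + b • bf i ∈ Ph H := Ph.comb hei hfi (by
    rw [sf_bf, be_l, if_pos rfl]; exact one_ne_zero)
  have hPj : ∀ a b : F, a • be (F := F) j + b • bf j ∈ Ph H := Ph.comb hej hfj (by
    rw [sf_bf, be_l, if_pos rfl]; exact one_ne_zero)
  by_cases h1 : z (Sum.inl i) = 0 ∧ z (Sum.inr i) = 0
  · rw [h1.1, h1.2, zero_smul, zero_smul, add_zero, zero_add]
    exact hPj _ _
  · by_cases h2 : z (Sum.inl j) = 0 ∧ z (Sum.inr j) = 0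
    · rw [h2.1, h2.2, zero_smul, zero_smul, add_zero, add_zero]
      exact hPi _ _
    · have h3 := Ph.plane hei hfi (r := be j) (by rw [be_l, if_neg hij]) (be_r _ _) h (z (Sum.inl i)) (z (Sum.inr i))
        (by rw [← not_and_or]; exact h1)
      rw [add_comm] at h3 ⊢
      refine Ph.plane hej hfj ?_ ?_ h3 _ _ (by rw [← not_and_or]; exact h2)
      · simp [be_l, bf_l, hij.symm]
      · simp [be_r, bf_r, hij.symm]

end phi

section chain
variable {F : Type v} [Field F] {n : ℕ} {H : Subgroup (Matrix.symplecticGroup (Fin (n + 2)) F)}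

theorem sup_exists {l : Type*} [Fintype l] [DecidableEq l] {v : l ⊕ l → F} {k : l} (h : v (Sum.inl k) ≠ 0 ∨ v (Sum.inr k) ≠ 0) :
    ∃ a b : F, sf v (a • be k + b • bf k) = 1 := by
  by_cases h1 : v (Sum.inl k) = 0
  · have h2 : v (Sum.inr k) ≠ 0 := h.resolve_left (fun h3 => h3 h1)
    refine ⟨-(v (Sum.inr k))⁻¹, 0, ?_⟩
    rw [zero_smul, add_zero, sf_smul_right, sf_be]
    field_simp
  · refine ⟨0, (v (Sum.inl k))⁻¹, ?_⟩
    rw [zero_smul, zero_add, sf_smul_right, sf_bf, inv_mul_cancel₀ h1]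

theorem Ph.chain (h : ∀ i : Fin (n + 1), ∀ z : Fin (n + 2) ⊕ Fin (n + 2) → F, Sup i.castSucc i.succ z → z ∈ Ph H)
    (v : Fin (n + 2) ⊕ Fin (n + 2) → F) : v ∈ Ph H := by
  have key : ∀ k : Fin (n + 2), ∀ v : Fin (n + 2) ⊕ Fin (n + 2) → F,
      (∀ j, k < j → v (Sum.inl j) = 0 ∧ v (Sum.inr j) = 0) → v ∈ Ph H := by
    intro k
    induction k using Fin.induction with
    | zero =>
      intro v hv
      refine h 0 v ?_
      intro j h1 h2
      exact hv j (Fin.pos_of_ne_zero h1)
    | succ k ih =>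
      have caseB : ∀ v : Fin (n + 2) ⊕ Fin (n + 2) → F, (∀ j, k.succ < j → v (Sum.inl j) = 0 ∧ v (Sum.inr j) = 0) →
          (v (Sum.inl k.castSucc) ≠ 0 ∨ v (Sum.inr k.castSucc) ≠ 0) → v ∈ Ph H := by
        intro v hv hk
        obtain ⟨a, b, hab⟩ := sup_exists hk
        set w : Fin (n + 2) ⊕ Fin (n + 2) → F := v (Sum.inl k.succ) • be k.succ + v (Sum.inr k.succ) • bf k.succ with hw
        set y : Fin (n + 2) ⊕ Fin (n + 2) → F := a • be k.castSucc + b • bf k.castSucc with hy
        have hne : k.castSucc ≠ k.succ := (Fin.castSucc_lt_succ).ne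
        have hz : y + w ∈ Ph H := by
          refine h k _ ?_
          intro j h1 h2
          simp [hw, hy, be_l, be_r, bf_l, bf_r, h1, h2]
        have hvw : sf v w = 0 := by
          rw [hw, sf_add_right, sf_smul_right, sf_smul_right, sf_be, sf_bf]; ring
        have hvz : sf v (y + w) = 1 := by rw [sf_add_right, hab, hvw, add_zero]
        have h3 : v - (y + w) ∈ Ph H := by
          apply ih
          intro j hj
          by_cases hj' : j = k.succ
          · subst hj'
            constructor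
            · simp [hw, hy, be_l, bf_l, hne.symm]
            · simp [hw, hy, be_r, bf_r, hne.symm]
          · have h4 : k.succ < j := lt_of_le_of_ne (Fin.castSucc_lt_iff_succ_le.1 hj) (Ne.symm hj')
            have h5 := hv j h4
            constructor
            · simp [hw, hy, be_l, bf_l, hj', hj.ne', h5.1]
            · simp [hw, hy, be_r, bf_r, hj', hj.ne', h5.2]
        have h6 := Ph.add h3 hz (by rw [sf_sub_left, hvz, sf_self, sub_zero]; exact one_ne_zero)
        rwa [sub_add_cancel] at h6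
      intro v hv
      by_cases hk : v (Sum.inl k.castSucc) ≠ 0 ∨ v (Sum.inr k.castSucc) ≠ 0
      · exact caseB v hv hk
      · push Not at hk
        by_cases hk' : v (Sum.inl k.succ) ≠ 0 ∨ v (Sum.inr k.succ) ≠ 0
        · obtain ⟨a, b, hab⟩ := sup_exists hk'
          have hne : k.castSucc ≠ k.succ := (Fin.castSucc_lt_succ).ne
          set y : Fin (n + 2) ⊕ Fin (n + 2) → F := a • be k.succ + b • bf k.succ with hy
          have hz : be k.castSucc + y ∈ Ph H := by
            refine h k _ ?_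
            intro j h1 h2
            simp [hy, be_l, be_r, bf_l, bf_r, h1, h2]
          have hvz : sf v (be k.castSucc + y) = 1 := by rw [sf_add_right, hab, sf_be, hk.2]; ring
          have h3 : v - (be k.castSucc + y) ∈ Ph H := by
            apply caseB
            · intro j hj
              have h4 : k.castSucc < j := lt_trans Fin.castSucc_lt_succ hj
              have h5 := hv j hj
              constructor
              · simp [hy, be_l, bf_l, hj.ne', h4.ne', h5.1]
              · simp [hy, be_r, bf_r, hj.ne', h4.ne', h5.2]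
            · left
              simp [hy, be_l, bf_l, hne, hk.1]
          have h6 := Ph.add h3 hz (by rw [sf_sub_left, hvz, sf_self, sub_zero]; exact one_ne_zero)
          rwa [sub_add_cancel] at h6
        · push Not at hk'
          apply ih
          intro j hj
          by_cases hj' : j = k.succ
          · subst hj'; exact hk'
          · exact hv j (lt_of_le_of_ne (Fin.castSucc_lt_iff_succ_le.1 hj) (Ne.symm hj'))
  exact key (Fin.last _) v (fun j hj => absurd hj (not_lt.2 (Fin.le_last j)))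

theorem Ph.top {l : Type*} [Fintype l] [DecidableEq l] {H : Subgroup (Matrix.symplecticGroup l F)}
    (h : ∀ v : l ⊕ l → F, v ∈ Ph H) : H = ⊤ := by
  rw [eq_top_iff, ← ClassSp.tvGroup_eq_top, ClassSp.tvGroup, closure_le]
  rintro _ ⟨w, c, rfl⟩
  exact h w c

end chain

section elts
variable {F : Type v} [Field F] {l : Type*} [Fintype l] [DecidableEq l]

/-- permutation of the planes -/
noncomputable def pS (σ : Equiv.Perm l) : Matrix.symplecticGroup l F :=
  ofLin (LinearMap.funLeft F F (Sum.map σ.symm σ.symm)) (by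
    intro u v
    unfold sf
    simp only [LinearMap.funLeft_apply, Sum.map_inl, Sum.map_inr]
    exact Fintype.sum_equiv σ.symm _ _ (fun _ => rfl))

theorem pS_be (σ : Equiv.Perm l) (i : l) :
    (pS σ : Matrix.symplecticGroup l F).1.mulVec (be i) = be (σ i) := by
  rw [pS]
  refine (ofLin_mulVec _ _ _).trans ?_
  ext p
  rw [LinearMap.funLeft_apply]
  rcases p with k | k
  · rw [Sum.map_inl, be_l, be_l]
    simp only [Equiv.symm_apply_eq]
  · rw [Sum.map_inr, be_r, be_r]

theorem pS_bf (σ : Equiv.Perm l) (i : l) :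
    (pS σ : Matrix.symplecticGroup l F).1.mulVec (bf i) = bf (σ i) := by
  rw [pS]
  refine (ofLin_mulVec _ _ _).trans ?_
  ext p
  rw [LinearMap.funLeft_apply]
  rcases p with k | k
  · rw [Sum.map_inl, bf_l, bf_l]
  · rw [Sum.map_inr, bf_r, bf_r]
    simp only [Equiv.symm_apply_eq]

end elts

end Cfsg.Agent.GK
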