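import Cfsg.Agent.GK.Or2
import Cfsg.Agent.GK.SpG
import Cfsg.Agent.S2290

/-!
Two generators of `Ω(Q)`: the abstract criterion.
-/

set_option autoImplicit false
set_option linter.unusedSectionVars false
set_option linter.unusedVariables false
set_option linter.unusedSimpArgs false

namespace Cfsg.Agent.GK.Or

open Subgroup QuadraticMap Cfsg.Agent.Orth Cfsg.Agent.ClassO
open scoped commutatorElement

universe v

section abs
variable {F : Type v} [Field F]

theorem emb2_diag (n : ℕ) (k : Fˣ) (h01 : (0 : Fin (n + 3)) ≠ 1) :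
    ((emb2 h01 (hm k) : Matrix.SpecialLinearGroup (Fin (n + 3)) F) : Matrix (Fin (n + 3)) (Fin (n + 3)) F) =
      Matrix.diagonal (fun i => if i.val = 0 then (k : F) else if i.val = 1 then ((k⁻¹ : Fˣ) : F) else 1) := by
  have hv : ∀ i : Fin (n + 3), i ∉ Set.range ![(0 : Fin (n + 3)), 1] → i.val ≠ 0 ∧ i.val ≠ 1 := by
    intro i hi
    constructor
    · intro h; exact hi ⟨0, Fin.ext h.symm⟩
    · intro h; exact hi ⟨1, Fin.ext (by simpa using h.symm)⟩
  ext i j
  rw [Matrix.diagonal_apply]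
  by_cases hi : i ∈ Set.range ![(0 : Fin (n + 3)), 1]
  · by_cases hj : j ∈ Set.range ![(0 : Fin (n + 3)), 1]
    · obtain ⟨i', rfl⟩ := hi
      obtain ⟨j', rfl⟩ := hj
      rw [emb2, emb_apply]
      fin_cases i' <;> fin_cases j'
      · simp [hm]
      · simp [hm]
      · simp [hm]
      · simp [hm]
    · rw [emb2, emb_apply_right (F := F) ![(0 : Fin (n + 3)), 1] (inj2 h01) _ hj]
      by_cases hij : i = j
      · subst hij; exact absurd hi hj
      · rw [if_neg hij, if_neg hij]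
  · rw [emb2, emb_apply_left (F := F) ![(0 : Fin (n + 3)), 1] (inj2 h01) _ hi]
    obtain ⟨h1, h2⟩ := hv i hi
    rw [if_neg h1, if_neg h2]

theorem comm_mem_of_center {G : Type*} [Group G] {K : Subgroup G} (hK : K ⊔ center G = ⊤) (a b : G) : ⁅a, b⁆ ∈ K := by
  have key : ∀ x : G, ∃ y ∈ K, ∃ z ∈ center G, y * z = x := by
    intro x
    have hx : x ∈ K ⊔ center G := by rw [hK]; exact mem_top _
    exact Subgroup.mem_sup_of_normal_right.1 hx
  obtain ⟨y1, hy1, z1, hz1, rfl⟩ := key a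
  obtain ⟨y2, hy2, z2, hz2, rfl⟩ := key b
  have hc1 : ∀ g, g * z1 = z1 * g := fun g => mem_center_iff.1 hz1 g
  have hc2 : ∀ g, g * z2 = z2 * g := fun g => mem_center_iff.1 hz2 g
  have e2 : ⁅y1 * z1, y2 * z2⁆ = ⁅y1, y2⁆ := by
    rw [commutatorElement_def, commutatorElement_def, mul_inv_eq_iff_eq_mul, mul_inv_eq_iff_eq_mul]
    calc y1 * z1 * (y2 * z2) = y1 * (z1 * y2) * z2 := by group
      _ = y1 * (y2 * z1) * z2 := by rw [hc1]
      _ = y1 * y2 * (z1 * z2) := by group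
      _ = y1 * y2 * (z2 * z1) := by rw [hc2]
      _ = y1 * (y2 * z2) * z1 := by group
      _ = y1 * y2 * y1⁻¹ * y2⁻¹ * (y2 * (y1 * z2)) * z1 := by group
      _ = y1 * y2 * y1⁻¹ * y2⁻¹ * (y2 * (z2 * y1)) * z1 := by rw [hc2 y1]
      _ = y1 * y2 * y1⁻¹ * y2⁻¹ * (y2 * z2) * (y1 * z1) := by group
  rw [e2, commutatorElement_def]
  exact mul_mem (mul_mem (mul_mem hy1 hy2) (inv_mem hy1)) (inv_mem hy2)

theorem all_tv_of_center {l : Type*} [Fintype l] [DecidableEq l] {K : Subgroup (Matrix.SpecialLinearGroup l F)}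
    (hK : K ⊔ center (Matrix.SpecialLinearGroup l F) = ⊤) {i j k : l} (hij : i ≠ j) (hjk : j ≠ k) (hik : i ≠ k)
    (c : F) : tvl hik c ∈ K := by
  have e1 := tvl_com hij hjk hik c 1
  rw [mul_one] at e1
  rw [← e1]
  exact comm_mem_of_center hK _ _

end abs

section crit
variable {F : Type v} {V : Type*} [Field F] [Fintype F] [AddCommGroup V] [Module F V] {Q : QuadraticForm F V} {n : ℕ}
  {e f : Fin (n + 3) → V}

/-- the hypotheses on the extra element -/
structure ZD (h : Hyp Q e f) (z : OGrp Q) (N : ℕ) : Prop where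
  pow : z ^ N = 1
  cop : 3 < Fintype.card F → N.Coprime (Fintype.card F - 1)
  cop' : Fintype.card F ≤ 3 → N.Coprime (Fintype.card F)
  ze0 : (z : V ≃ₗ[F] V) (e 0) = e 0
  ze1 : (z : V ≃ₗ[F] V) (e 1) = e 1
  zf0 : (z : V ≃ₗ[F] V) (f 0) = f 0
  zf1 : (z : V ≃ₗ[F] V) (f 1) = f 1
  A : ∃ j k, j ≠ 0 ∧ k ≠ 0 ∧ polar Q ((z : V ≃ₗ[F] V) (f j)) (f k) ≠ 0
  A' : ∃ j k, j ≠ 0 ∧ k ≠ 0 ∧ polar Q ((z : V ≃ₗ[F] V) (e j)) (e k) ≠ 0
  B : ∀ H : Subgroup (OGrp Q), Lv H h → z ∈ H → (∀ (j : Fin (n + 3)) (c : F), c • e j ∈ Mg H (h.e0 0)) →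
    ∀ v, (∀ i, polar Q v (e i) = 0 ∧ polar Q v (f i) = 0) → v ∈ Mg H (h.e0 0)
  B' : ∀ H : Subgroup (OGrp Q), Lv H h → z ∈ H → (∀ (j : Fin (n + 3)) (c : F), c • f j ∈ Mg H (h.f0 0)) →
    ∀ v, (∀ i, polar Q v (e i) = 0 ∧ polar Q v (f i) = 0) → v ∈ Mg H (h.f0 0)

variable {h : Hyp Q e f} {z : OGrp Q} {N : ℕ}

theorem ZD.le (Z : ZD h z N) (hQ : (polarBilin Q).Nondegenerate) {H : Subgroup (OGrp Q)} (L : Lv H h) (hz : z ∈ H) :
    EGrp Q ≤ H := by
  obtain ⟨j, k, hj, hk, hjk⟩ := Z.A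
  obtain ⟨j', k', hj', hk', hjk'⟩ := Z.A'
  have h1 : (z : V ≃ₗ[F] V) (f j) ∈ Mg H (h.e0 0) := by
    have := L 0 j hj.symm 1
    rw [one_smul] at this
    exact Mg_act1 this hz Z.ze0
  have h2 : (z : V ≃ₗ[F] V) (e j') ∈ Mg H (h.f0 0) := by
    have := L.symm 0 j' hj'.symm 1
    rw [one_smul] at this
    exact Mg_act1 this hz Z.zf0
  exact L.fill hQ h1 hk hjk h2 hk' hjk' (Z.B H L hz) (Z.B' H L hz)

theorem z_comm (Z : ZD h z N) {i j : Fin (n + 3)} (hij : i ≠ j) (hi : i = 0 ∨ i = 1) (hj : j = 0 ∨ j = 1) (c : F) :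
    Commute (xr h hij c) z := by
  have h1 : (z : V ≃ₗ[F] V) (e i) = e i := by
    rcases hi with rfl | rfl
    · exact Z.ze0
    · exact Z.ze1
  have h2 : (z : V ≃ₗ[F] V) (f j) = f j := by
    rcases hj with rfl | rfl
    · exact Z.zf0
    · exact Z.zf1
  have h3 : z * xr h hij c * z⁻¹ = xr h hij c := by
    rw [xr, eich_conj]
    exact eich_congr h1 (by rw [map_smul, h2])
  exact (mul_inv_eq_iff_eq_mul.1 h3).symm

/-- **The criterion.** -/
theorem ZD.two_gen (Z : ZD h z N) (hQ : (polarBilin Q).Nondegenerate) {W : Subgroup (OGrp Q)} (hEW : EGrp Q ≤ W)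
    (hzW : z ∈ W) : ∃ a ∈ W, ∃ b ∈ W, EGrp Q ≤ closure {a, b} := by
  obtain ⟨ρ, hρ⟩ := exists_rho h
  have h01 : (0 : Fin (n + 3)) ≠ 1 := by simp
  have hρW : ∀ g, ρ g ∈ W := by
    intro g
    have h1 : W.comap ρ = ⊤ := by
      apply H40.sl_eq_top_of_transvections
      intro i j hij c
      rw [mem_comap]
      have : ρ (Matrix.SpecialLinearGroup.transvection hij c) = xr h hij c := hρ i j hij c
      rw [this]
      apply hEW
      exact eich_mem_EGrp _ _ (by rw [qsmul, h.f0, mul_zero])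
    have h2 : g ∈ W.comap ρ := by rw [h1]; exact mem_top _
    exact h2
  set X : Matrix.SpecialLinearGroup (Fin (n + 3)) F := tvl h01 1 with hX
  set Wm : Matrix.SpecialLinearGroup (Fin (n + 3)) F := ⟨_, Cfsg.Agent.S2290.det_w (n + 2)⟩ with hWm
  -- from the Levi root elements to the conclusion
  have fin : ∀ H : Subgroup (OGrp Q), z ∈ H → (∀ (i j : Fin (n + 3)) (hij : i ≠ j) (c : F), ρ (tvl hij c) ∈ H) → EGrp Q ≤ H := by
    intro H hz hH
    refine Z.le hQ (H := H) ?_ hz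
    intro i j hij c
    refine ⟨by rw [psr, h.ef, if_neg hij, mul_zero], ?_⟩
    have := hH i j hij c
    rw [hρ] at this
    exact this
  have third : ∀ i k : Fin (n + 3), i ≠ k → ∃ j, i ≠ j ∧ j ≠ k := by
    intro i k hik
    by_contra hcon
    push Not at hcon
    have h2 : (Finset.univ : Finset (Fin (n + 3))) ⊆ {i, k} := by
      intro j _
      by_cases hij : i = j
      · simp [hij]
      · simp [hcon j hij]
    have h3 := Finset.card_le_card h2
    rw [Finset.card_univ, Fintype.card_fin] at h3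
    have h4 : ({i, k} : Finset (Fin (n + 3))).card ≤ 2 := Finset.card_le_two
    omega
  obtain ⟨p, hpc⟩ := CharP.exists F
  by_cases hq : 3 < Fintype.card F
  · obtain ⟨k, hk⟩ := IsCyclic.exists_generator (α := Fˣ)
    set D : Matrix.SpecialLinearGroup (Fin (n + 3)) F := emb2 h01 (hm k) with hD
    refine ⟨ρ D * z, mul_mem (hρW _) hzW, ρ (X * Wm), hρW _, ?_⟩
    set H := closure {ρ D * z, ρ (X * Wm)} with hH
    have hcomm : Commute (ρ D) z := by
      rw [hD, rho_hm hρ, dr, wr, wr]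
      have c1 := z_comm Z h01 (Or.inl rfl) (Or.inr rfl)
      have c2 := z_comm Z h01.symm (Or.inr rfl) (Or.inl rfl)
      exact (((c1 _).mul_left (c2 _)).mul_left (c1 _)).mul_left (((c1 _).mul_left (c2 _)).mul_left (c1 _))
    have hb : ρ (X * Wm) ∈ H := Subgroup.subset_closure (Set.mem_insert_of_mem _ (Set.mem_singleton _))
    obtain ⟨h1, h2⟩ : ρ D ∈ H ∧ z ∈ H := by
      refine coprime_mem (n := Fintype.card F - 1) (m := N) hcomm ?_ Z.pow (Z.cop hq).symm
        (Subgroup.subset_closure (Set.mem_insert _ _))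
      classical
      have h3 : k ^ (Fintype.card F - 1) = 1 := by
        rw [← Fintype.card_units]; exact pow_card_eq_one
      rw [← map_pow, hD, ← map_pow, hm_pow, h3, hm_one, map_one, map_one]
    refine fin H h2 ?_
    have h4 := Cfsg.Agent.S2402.result hq (n + 2) (by omega) k hk D X Wm (emb2_diag n k h01) rfl rfl
    have h5 : closure ({D, X * Wm} : Set (Matrix.SpecialLinearGroup (Fin (n + 3)) F)) ≤ H.comap ρ := by
      rw [closure_le]
      rintro x (rfl | rfl)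
      · exact h1
      · exact hb
    intro i k hik c
    obtain ⟨j, hij, hjk⟩ := third i k hik
    exact h5 (all_tv_of_center h4 hij hjk hik c)
  · refine ⟨ρ X * z, mul_mem (hρW _) hzW, ρ Wm, hρW _, ?_⟩
    set H := closure {ρ X * z, ρ Wm} with hH
    have hb : ρ Wm ∈ H := Subgroup.subset_closure (Set.mem_insert_of_mem _ (Set.mem_singleton _))
    obtain ⟨h1, h2⟩ : ρ X ∈ H ∧ z ∈ H := by
      refine coprime_mem (n := Fintype.card F) (m := N) ?_ ?_ Z.pow (Z.cop' (by omega)).symm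
        (Subgroup.subset_closure (Set.mem_insert _ _))
      · rw [hX, hρ]
        exact z_comm Z h01 (Or.inl rfl) (Or.inr rfl) _
      · rw [← map_pow]
        have h3 : ∀ m : ℕ, X ^ m = tvl h01 (m : F) := by
          intro m
          induction m with
          | zero => rw [pow_zero, Nat.cast_zero, tvl_zero]
          | succ m ih => rw [pow_succ, ih, hX, ← tvl_add, Nat.cast_succ]
        rw [h3, FiniteField.cast_card_eq_zero, tvl_zero, map_one]
    refine fin H h2 ?_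
    have h4 := Cfsg.Agent.S2403.result (by omega) (n + 2) (by omega) X Wm rfl rfl
    have h5 : closure ({X, Wm} : Set (Matrix.SpecialLinearGroup (Fin (n + 3)) F)) ≤ H.comap ρ := by
      rw [closure_le]
      rintro x (rfl | rfl)
      · exact h1
      · exact hb
    intro i k hik c
    obtain ⟨j, hij, hjk⟩ := third i k hik
    exact h5 (all_tv_of_center h4 hij hjk hik c)

end crit

end Cfsg.Agent.GK.Or
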