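import Cfsg.Agent.GK.Or3

/-!
Two generators of `Ω(Q)`: the extra elements.
-/

set_option autoImplicit false
set_option linter.unusedSectionVars false
set_option linter.unusedVariables false
set_option linter.unusedSimpArgs false

namespace Cfsg.Agent.GK.Or

open Subgroup QuadraticMap Cfsg.Agent.Orth Cfsg.Agent.ClassO
open scoped commutatorElement

universe v

section gen
variable {F : Type v} {V : Type*} [Field F] [AddCommGroup V] [Module F V] {Q : QuadraticForm F V}

theorem eich_pow {a b : V} (ha : Q a = 0) (hab : polar Q a b = 0) (m : ℕ) :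
    (eich Q a b ha hab) ^ m = eich Q a ((m : F) • b) ha (by rw [psr, hab, mul_zero]) := by
  induction m with
  | zero => rw [pow_zero, eich_congr rfl (by rw [Nat.cast_zero, zero_smul] : ((0 : ℕ) : F) • b = 0), eich_zero]
  | succ m ih =>
    rw [pow_succ, ih, eich_mul]
    exact eich_congr rfl (by rw [Nat.cast_succ, add_smul, one_smul])

theorem refl_comm_mem [FiniteDimensional F V] (hQ : (polarBilin Q).Nondegenerate) {x y : V} (hx : Q x ≠ 0) (hy : Q y ≠ 0)
    (hxy : Q x = Q y) : refl Q x hx * refl Q y hy ∈ commutator (OGrp Q) := by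
  have hx0 : x ≠ 0 := by rintro rfl; exact hx (QuadraticMap.map_zero Q)
  have hy0 : y ≠ 0 := by rintro rfl; exact hy (QuadraticMap.map_zero Q)
  obtain ⟨g, hg⟩ := exists_isom_of_q_eq hQ hx0 hy0 hxy
  have h1 : refl Q y hy = g * refl Q x hx * g⁻¹ := by
    rw [refl_conj]
    refine OGrp_ext fun w => ?_
    rw [refl_apply, refl_apply, hg]
  have h2 : refl Q x hx * refl Q y hy = ⁅refl Q x hx, g⁆ := by
    rw [commutatorElement_def, h1, refl_inv]
    group
  rw [h2]
  exact commutator_mem_commutator (mem_top _) (mem_top _)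

theorem refl_congr' {x x' : V} (h : x = x') (hx : Q x ≠ 0) : refl Q x hx = refl Q x' (h ▸ hx) := by
  subst h; rfl

theorem refl_two {x y : V} (hx : Q x ≠ 0) (hy : Q y ≠ 0) (hxy : polar Q x y = 0) :
    (refl Q x hx * refl Q y hy) ^ 2 = 1 := by
  have h1 : refl Q x hx * refl Q y hy * (refl Q x hx)⁻¹ = refl Q y hy := by
    rw [refl_conj]
    exact refl_congr' (refl_apply_of_ortho hx (by rw [pc, hxy])) _
  rw [mul_inv_eq_iff_eq_mul] at h1
  rw [pow_two]
  calc refl Q x hx * refl Q y hy * (refl Q x hx * refl Q y hy)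
      = (refl Q x hx * refl Q y hy) * refl Q x hx * refl Q y hy := by group
    _ = refl Q y hy * (refl Q x hx * refl Q x hx) * refl Q y hy := by rw [h1]; group
    _ = 1 := by rw [refl_mul_self, mul_one, refl_mul_self]

theorem refl_three {x y : V} (hx : Q x ≠ 0) (hy : Q y ≠ 0) (hx1 : Q x = 1) (hy1 : Q y = 1) (hxy : polar Q x y = 1) :
    (refl Q x hx * refl Q y hy) ^ 3 = 1 := by
  have h1 : refl Q x hx * refl Q y hy * (refl Q x hx)⁻¹ = refl Q y hy * refl Q x hx * (refl Q y hy)⁻¹ := by
    rw [refl_conj, refl_conj]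
    have e1 : (refl Q x hx : V ≃ₗ[F] V) y = y - x := by
      rw [refl_apply, hx1, pc, hxy, inv_one, one_mul, one_smul]
    have e2 : (refl Q y hy : V ≃ₗ[F] V) x = (-1 : F) • (y - x) := by
      rw [refl_apply, hy1, hxy, inv_one, one_mul, one_smul]; module
    have h3 : Q (y - x) ≠ 0 := by rw [← e1, OGrp_q]; exact hy
    have h4 : Q ((-1 : F) • (y - x)) ≠ 0 := by rw [← e2, OGrp_q]; exact hx
    rw [refl_congr' e1, refl_congr' e2, refl_smul h3 (neg_ne_zero.2 one_ne_zero) h4]
  rw [refl_inv, refl_inv] at h1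
  have e1 : (refl Q x hx * refl Q y hy) ^ 3 = (refl Q x hx * refl Q y hy * refl Q x hx) *
      (refl Q y hy * refl Q x hx * refl Q y hy) := by
    rw [pow_succ, pow_two]; group
  rw [e1, ← h1]
  calc refl Q x hx * refl Q y hy * refl Q x hx * (refl Q x hx * refl Q y hy * refl Q x hx)
      = refl Q x hx * refl Q y hy * (refl Q x hx * refl Q x hx) * refl Q y hy * refl Q x hx := by group
    _ = refl Q x hx * (refl Q y hy * refl Q y hy) * refl Q x hx := by rw [refl_mul_self]; group
    _ = 1 := by rw [refl_mul_self, mul_one, refl_mul_self]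

theorem char_cop [Fintype F] {p : ℕ} [CharP F p] : p.Coprime (Fintype.card F - 1) := by
  have hp : p.Prime := CharP.char_is_prime F p
  obtain ⟨k, -, hk⟩ := FiniteField.card F p
  rw [hk]
  have h4 : p ∣ p ^ (k : ℕ) := dvd_pow_self p k.ne_zero
  have h5 : 0 < p ^ (k : ℕ) := pow_pos hp.pos _
  rw [Nat.Prime.coprime_iff_not_dvd hp]
  intro h6
  have h7 : p ∣ p ^ (k : ℕ) - (p ^ (k : ℕ) - 1) := Nat.dvd_sub h4 h6
  have h8 : p ^ (k : ℕ) - (p ^ (k : ℕ) - 1) = 1 := by omega
  rw [h8] at h7
  exact hp.one_lt.ne' (Nat.dvd_one.1 h7)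

end gen

section plus
variable {F : Type v} {V : Type*} [Field F] [Fintype F] [AddCommGroup V] [Module F V] [FiniteDimensional F V]
  {Q : QuadraticForm F V} {n : ℕ} {e f : Fin (n + 3) → V}

theorem two_eq_zero_of_card (hF : Fintype.card F = 2) : (2 : F) = 0 := by
  have := FiniteField.cast_card_eq_zero F
  rw [hF] at this
  exact_mod_cast this

theorem three_eq_zero_of_card (hF : Fintype.card F = 3) : (3 : F) = 0 := by
  have := FiniteField.cast_card_eq_zero F
  rw [hF] at this
  exact_mod_cast this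

/-- plus type -/
theorem exists_zd_plus (h : Hyp Q e f) (hQ : (polarBilin Q).Nondegenerate) {W : Subgroup (OGrp Q)}
    (hW : commutator (OGrp Q) ≤ W) (hE : ∀ (a b : V) (ha : Q a = 0) (hab : polar Q a b = 0), eich Q a b ha hab ∈ W)
    {i j : Fin (n + 3)} (hij : i ≠ j) (hi0 : i ≠ 0) (hi1 : i ≠ 1) (hj0 : j ≠ 0) (hj1 : j ≠ 1)
    (hV : ∀ v, (∀ i, polar Q v (e i) = 0 ∧ polar Q v (f i) = 0) → v = 0) :
    ∃ (z : OGrp Q) (N : ℕ), z ∈ W ∧ ZD h z N := by
  have hB : ∀ v, (∀ i, polar Q v (e i) = 0 ∧ polar Q v (f i) = 0) → ∀ M : AddSubgroup V, v ∈ M := by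
    intro v hv M
    rw [hV v hv]; exact zero_mem _
  by_cases hq : 3 < Fintype.card F
  · obtain ⟨p, hpc⟩ := CharP.exists F
    have ha : Q (e i + f j) = 0 := by
      rw [qadd, h.e0, h.f0, h.ef, if_neg hij]; ring
    have hb : Q (e j - f i) = 0 := by
      rw [qsub, h.e0, h.f0, h.ef, if_neg hij.symm]; ring
    have hab : polar Q (e i + f j) (e j - f i) = 0 := by
      simp only [pal, pdr, h.ee, h.ef, h.fe, h.ff, if_true]; ring
    have key : ∀ x, (eich Q _ _ ha hab : V ≃ₗ[F] V) x =
        x + (polar Q x (e j) - polar Q x (f i)) • (e i + f j) - (polar Q x (e i) + polar Q x (f j)) • (e j - f i) := by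
      intro x
      rw [eich_apply, hb, pdr, par]
      module
    refine ⟨eich Q _ _ ha hab, p, hE _ _ _ _, ⟨?_, fun _ => char_cop, fun h1 => absurd h1 (not_le.2 hq), ?_, ?_, ?_, ?_,
      ⟨i, j, hi0, hj0, ?_⟩, ⟨i, j, hi0, hj0, ?_⟩, fun H _ _ _ v hv => hB v hv _, fun H _ _ _ v hv => hB v hv _⟩⟩
    · rw [eich_pow, eich_congr rfl (by rw [CharP.cast_eq_zero F p, zero_smul] : ((p : ℕ) : F) • (e j - f i) = 0), eich_zero]
    · rw [key]; simp only [h.ee, h.ef, if_neg hi0.symm, if_neg hj0.symm]; module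
    · rw [key]; simp only [h.ee, h.ef, if_neg hi1.symm, if_neg hj1.symm]; module
    · rw [key]; simp only [h.ff, h.fe, if_neg hi0.symm, if_neg hj0.symm]; module
    · rw [key]; simp only [h.ff, h.fe, if_neg hi1.symm, if_neg hj1.symm]; module
    · rw [key]
      simp only [pdl, pal, psl, h.ff, h.fe, h.ef, h.ee, if_neg hij, if_neg hij.symm, if_true]
      ring_nf
      exact neg_ne_zero.2 one_ne_zero
    · rw [key]
      simp only [pdl, pal, psl, h.ff, h.fe, h.ef, h.ee, if_neg hij, if_neg hij.symm, if_true]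
      ring_nf
      exact neg_ne_zero.2 one_ne_zero
  · have hx : Q (e i + f i) = 1 := by
      rw [qadd, h.e0, h.f0, h.ef, if_pos rfl]; ring
    have hx' : Q (e i + f i) ≠ 0 := by rw [hx]; exact one_ne_zero
    by_cases hq2 : Fintype.card F = 2
    · have hy : Q (e i + e j + f j) = 1 := by
        simp only [qadd, pal, h.e0, h.f0, h.ee, h.ef, if_neg hij, if_true]; ring
      have hy' : Q (e i + e j + f j) ≠ 0 := by rw [hy]; exact one_ne_zero
      have hxy : polar Q (e i + f i) (e i + e j + f j) = 1 := by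
        simp only [pal, par, h.ee, h.ef, h.fe, h.ff, if_neg hij, if_true]; ring
      have hyx := hxy
      rw [pc] at hyx
      have key : ∀ x, ((refl Q _ hx' * refl Q _ hy' : OGrp Q) : V ≃ₗ[F] V) x =
          x - (polar Q x (e i) + polar Q x (e j) + polar Q x (f j)) • (e i + e j + f j) -
            (polar Q x (f i) - polar Q x (e j) - polar Q x (f j)) • (e i + f i) := by
        intro x
        rw [coe_mul_apply, refl_apply, refl_apply, hx, hy]
        simp only [pdl, psl, hyx]
        simp only [par]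
        module
      refine ⟨_, 3, hW (refl_comm_mem hQ hx' hy' (by rw [hx, hy])), ⟨refl_three hx' hy' hx hy hxy, fun h1 => absurd h1 hq,
        fun _ => by rw [hq2]; norm_num, ?_, ?_, ?_, ?_, ⟨i, i, hi0, hi0, ?_⟩, ⟨i, i, hi0, hi0, ?_⟩,
        fun H _ _ _ v hv => hB v hv _, fun H _ _ _ v hv => hB v hv _⟩⟩
      · rw [key]; simp only [h.ee, h.ef, if_neg hi0.symm, if_neg hj0.symm]; module
      · rw [key]; simp only [h.ee, h.ef, if_neg hi1.symm, if_neg hj1.symm]; module
      · rw [key]; simp only [h.ff, h.fe, if_neg hi0.symm, if_neg hj0.symm]; module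
      · rw [key]; simp only [h.ff, h.fe, if_neg hi1.symm, if_neg hj1.symm]; module
      · rw [key]
        simp only [pdl, pal, psl, h.ff, h.fe, h.ef, h.ee, if_neg hij, if_neg hij.symm, if_true]
        ring_nf
        exact neg_ne_zero.2 one_ne_zero
      · rw [key]
        simp only [pdl, pal, psl, h.ff, h.fe, h.ef, h.ee, if_neg hij, if_neg hij.symm, if_true]
        ring_nf
        exact neg_ne_zero.2 one_ne_zero
    · have hq3 : Fintype.card F = 3 := by
        have := Fintype.one_lt_card (α := F)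
        omega
      have hy : Q (e j + f j) = 1 := by
        rw [qadd, h.e0, h.f0, h.ef, if_pos rfl]; ring
      have hy' : Q (e j + f j) ≠ 0 := by rw [hy]; exact one_ne_zero
      have hxy : polar Q (e i + f i) (e j + f j) = 0 := by
        simp only [pal, par, h.ee, h.ef, h.fe, h.ff, if_neg hij]; ring
      have hyx := hxy
      rw [pc] at hyx
      have key : ∀ x, ((refl Q _ hx' * refl Q _ hy' : OGrp Q) : V ≃ₗ[F] V) x =
          x - (polar Q x (e j) + polar Q x (f j)) • (e j + f j) - (polar Q x (e i) + polar Q x (f i)) • (e i + f i) := by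
        intro x
        rw [coe_mul_apply, refl_apply, refl_apply, hx, hy]
        simp only [pdl, psl, hyx]
        simp only [par]
        module
      refine ⟨_, 2, hW (refl_comm_mem hQ hx' hy' (by rw [hx, hy])), ⟨refl_two hx' hy' hxy, fun h1 => absurd h1 hq,
        fun _ => by rw [hq3]; norm_num, ?_, ?_, ?_, ?_, ⟨i, i, hi0, hi0, ?_⟩, ⟨i, i, hi0, hi0, ?_⟩,
        fun H _ _ _ v hv => hB v hv _, fun H _ _ _ v hv => hB v hv _⟩⟩
      · rw [key]; simp only [h.ee, h.ef, if_neg hi0.symm, if_neg hj0.symm]; module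
      · rw [key]; simp only [h.ee, h.ef, if_neg hi1.symm, if_neg hj1.symm]; module
      · rw [key]; simp only [h.ff, h.fe, if_neg hi0.symm, if_neg hj0.symm]; module
      · rw [key]; simp only [h.ff, h.fe, if_neg hi1.symm, if_neg hj1.symm]; module
      · rw [key]
        simp only [pdl, pal, psl, h.ff, h.fe, h.ef, h.ee, if_neg hij, if_neg hij.symm, if_true]
        ring_nf
        exact neg_ne_zero.2 one_ne_zero
      · rw [key]
        simp only [pdl, pal, psl, h.ff, h.fe, h.ef, h.ee, if_neg hij, if_neg hij.symm, if_true]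
        ring_nf
        exact neg_ne_zero.2 one_ne_zero

end plus

end Cfsg.Agent.GK.Or
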