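import Cfsg.Agent.GK.Or4

/-!
Two generators of `PΩ(Q)`.
-/

set_option autoImplicit false
set_option linter.unusedSectionVars false
set_option linter.unusedVariables false
set_option linter.unusedSimpArgs false

namespace Cfsg.Agent.GK.Or

open Subgroup QuadraticMap Cfsg.Agent.Orth Cfsg.Agent.ClassO
open scoped commutatorElement

universe v

theorem closure_subtype {G : Type*} [Group G] {W : Subgroup G} {a b : G} (ha : a ∈ W) (hb : b ∈ W)
    (h : W ≤ closure {a, b}) : closure ({⟨a, ha⟩, ⟨b, hb⟩} : Set W) = ⊤ := by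
  apply Subgroup.map_injective W.subtype_injective
  rw [MonoidHom.map_closure, Set.image_pair, ← MonoidHom.range_eq_map, Subgroup.range_subtype]
  apply le_antisymm
  · rw [closure_le]
    rintro x (rfl | rfl)
    · exact ha
    · exact hb
  · exact h

theorem Hyp_comp {F V : Type*} [Field F] [AddCommGroup V] [Module F V] {Q : QuadraticForm F V} {k l : ℕ}
    {e f : Fin k → V} (h : Hyp Q e f) (φ : Fin l → Fin k) (hφ : Function.Injective φ) :
    Hyp Q (e ∘ φ) (f ∘ φ) where
  e0 i := h.e0 _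
  f0 i := h.f0 _
  ee i j := h.ee _ _
  ff i j := h.ff _ _
  ef i j := by
    simp only [Function.comp_apply, h.ef, hφ.eq_iff]

section main
variable {F : Type v} [Field F] [Fintype F] {ι : Type} [Fintype ι] [DecidableEq ι]
  {Q : QuadraticForm F (ι → F)} {n : ℕ} {e f : Fin (n + 3) → ι → F}

theorem two_gen_POmega (hQ : (polarBilin Q).Nondegenerate) (hR : RGrp Q = ⊤) (h : Hyp Q e f)
    (hz : (∀ (a b : ι → F) (ha : Q a = 0) (hab : polar Q a b = 0), eich Q a b ha hab ∈ commutator (OGrp Q)) →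
      ∃ (z : OGrp Q) (N : ℕ), z ∈ commutator (OGrp Q) ∧ ZD h z N) :
    ∃ a b : Cfsg.POmega F ⇑Q, closure ({a, b} : Set (Cfsg.POmega F ⇑Q)) = ⊤ := by
  have h3 : Hyp Q (e ∘ Fin.castLE (by omega : 3 ≤ n + 3)) (f ∘ Fin.castLE (by omega : 3 ≤ n + 3)) :=
    Hyp_comp h _ (Fin.castLE_injective _)
  have hC := commutator_eq_EGrp hQ hR h3
  obtain ⟨z, N, hzW, Z⟩ := hz (fun a b ha hab => by rw [hC]; exact eich_mem hQ h3 ha hab)
  obtain ⟨a, ha, b, hb, hab⟩ := Z.two_gen hQ (W := commutator (OGrp Q)) (by rw [hC]) hzW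
  rw [← hC] at hab
  have h4 := closure_subtype ha hb hab
  let π : ↥(commutator (OGrp Q)) →* ↥(commutator (OGrp Q)) ⧸ Subgroup.center ↥(commutator (OGrp Q)) := QuotientGroup.mk' _
  let τ : ↥(commutator (OGrp Q)) →* Cfsg.POmega F ⇑Q := (pomE Q).symm.toMonoidHom.comp π
  have hτ : Function.Surjective τ := by
    intro y
    obtain ⟨x, hx⟩ := QuotientGroup.mk'_surjective _ (pomE Q y)
    exact ⟨x, by
      change (pomE Q).symm (π x) = y
      rw [MulEquiv.symm_apply_eq]; exact hx⟩
  refine ⟨τ ⟨a, ha⟩, τ ⟨b, hb⟩, ?_⟩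
  have h5 := congrArg (Subgroup.map τ) h4
  rw [MonoidHom.map_closure, Set.image_pair, Subgroup.map_top_of_surjective _ hτ] at h5
  exact h5

end main

end Cfsg.Agent.GK.Or

namespace Cfsg.Agent.GK.Or

open Subgroup QuadraticMap Cfsg.Agent.Orth Cfsg.Agent.ClassO

section std
variable (F : Type*) [Field F]

theorem hyp_plus' (m : ℕ) :
    Hyp (qfPlus m F) (fun i => Pi.single (Sum.inl i) 1) (fun i => Pi.single (Sum.inr i) 1) where
  e0 i := by simp [qfPlus_apply, Pi.single_apply]
  f0 i := by simp [qfPlus_apply, Pi.single_apply]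
  ee i j := by simp [polar_qfPlus, Pi.single_apply]
  ff i j := by simp [polar_qfPlus, Pi.single_apply]
  ef i j := by
    rw [polar_qfPlus]
    simp [Pi.single_apply, eq_comm]

theorem hyp_odd' (m : ℕ) :
    Hyp (qfOdd m F) (fun i => Pi.single (Sum.inr (Sum.inl i)) 1)
      (fun i => Pi.single (Sum.inr (Sum.inr i)) 1) where
  e0 i := by simp [qfOdd_apply, Pi.single_apply]
  f0 i := by simp [qfOdd_apply, Pi.single_apply]
  ee i j := by simp [polar_qfOdd, Pi.single_apply]
  ff i j := by simp [polar_qfOdd, Pi.single_apply]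
  ef i j := by
    rw [polar_qfOdd]
    simp [Pi.single_apply, eq_comm]

theorem hyp_minus' (m : ℕ) (a b : F) :
    Hyp (qfMinus m F a b) (fun i => Pi.single (Sum.inl (Sum.inl i)) 1)
      (fun i => Pi.single (Sum.inl (Sum.inr i)) 1) where
  e0 i := by simp [qfMinus_apply, Pi.single_apply]
  f0 i := by simp [qfMinus_apply, Pi.single_apply]
  ee i j := by simp [polar_qfMinus, Pi.single_apply]
  ff i j := by simp [polar_qfMinus, Pi.single_apply]
  ef i j := by
    rw [polar_qfMinus]
    simp [Pi.single_apply, eq_comm]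

end std

theorem psl_plus {F : Type*} [Field F] [Fintype F] (m : ℕ) (hm : 4 ≤ m) :
    ∃ a b : Cfsg.POmega F (Cfsg.quadFormPlus m F),
      Subgroup.closure ({a, b} : Set (Cfsg.POmega F (Cfsg.quadFormPlus m F))) = ⊤ := by
  obtain ⟨n, rfl⟩ : ∃ n, m = n + 1 + 3 := ⟨m - 4, by omega⟩
  refine two_gen_POmega (Q := qfPlus (n + 1 + 3) F) (qfPlus_nondegenerate _ F) (RGrp_plus (by omega)) (hyp_plus' F (n + 1 + 3)) ?_
  intro hE
  have hne : ∀ {a b : ℕ} (ha : a < n + 1 + 3) (hb : b < n + 1 + 3), a ≠ b → (⟨a, ha⟩ : Fin (n + 1 + 3)) ≠ ⟨b, hb⟩ := by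
    intro a b ha hb hab h
    exact hab (congrArg Fin.val h)
  refine exists_zd_plus (hyp_plus' F (n + 1 + 3)) (qfPlus_nondegenerate _ F) le_rfl hE
    (i := ⟨2, by omega⟩) (j := ⟨3, by omega⟩) (hne _ _ (by norm_num)) ?_ ?_ ?_ ?_ ?_
  · exact hne _ _ (by norm_num)
  · intro h; have := congrArg Fin.val h; simp at this
  · exact hne _ _ (by norm_num)
  · intro h; have := congrArg Fin.val h; simp at this
  · intro v hv
    ext p
    rcases p with i | i
    · have := (hv i).2
      rw [polar_qfPlus] at this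
      simpa [Pi.single_apply] using this
    · have := (hv i).1
      rw [polar_qfPlus] at this
      simpa [Pi.single_apply] using this

end Cfsg.Agent.GK.Or
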