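import Cfsg.Agent.GK.Or5

/-!
Two generators of `Ω(Q)`: the extra elements when there is an anisotropic part.
-/

set_option autoImplicit false
set_option linter.unusedSectionVars false
set_option linter.unusedVariables false
set_option linter.unusedSimpArgs false

namespace Cfsg.Agent.GK.Or

open Subgroup QuadraticMap Cfsg.Agent.Orth Cfsg.Agent.ClassO
open scoped commutatorElement

universe v

section an
variable {F : Type v} {V : Type*} [Field F] [Fintype F] [AddCommGroup V] [Module F V] [FiniteDimensional F V]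
  {Q : QuadraticForm F V} {n : ℕ} {e f : Fin (n + 3) → V}

/-- the vector is orthogonal to all hyperbolic pairs -/
def V0 (Q : QuadraticForm F V) {k : ℕ} (e f : Fin k → V) (v : V) : Prop :=
  ∀ i, polar Q v (e i) = 0 ∧ polar Q v (f i) = 0

/-- the two additive groups `Mg H (e₀)` and `Mg H (f₀)` share the following properties -/
structure MM (z : OGrp Q) (i : Fin (n + 3)) (e f : Fin (n + 3) → V) (M : AddSubgroup V) : Prop where
  he : ∀ c : F, c • e i ∈ M
  hf : ∀ c : F, c • f i ∈ M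
  hs : ∀ w, w ∈ M → V0 Q e f w → ∀ c : F, c • w ∈ M
  hz : ∀ w, w ∈ M → (z : V ≃ₗ[F] V) w ∈ M

theorem MM_e {h : Hyp Q e f} {z : OGrp Q} {H : Subgroup (OGrp Q)} (L : Lv H h) (hz : z ∈ H)
    (hE : ∀ (j : Fin (n + 3)) (c : F), c • e j ∈ Mg H (h.e0 0)) (hz0 : (z : V ≃ₗ[F] V) (e 0) = e 0) {i : Fin (n + 3)} (hi : i ≠ 0) :
    MM z i e f (Mg H (h.e0 0)) where
  he := hE i
  hf := L 0 i hi.symm
  hs w hw h0 c := L.scal hw (h0 0).1 (h0 0).2 (h0 1).1 (h0 1).2 c
  hz w hw := Mg_act1 hw hz hz0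

theorem MM_f {h : Hyp Q e f} {z : OGrp Q} {H : Subgroup (OGrp Q)} (L : Lv H h) (hz : z ∈ H)
    (hE : ∀ (j : Fin (n + 3)) (c : F), c • f j ∈ Mg H (h.f0 0)) (hz0 : (z : V ≃ₗ[F] V) (f 0) = f 0) {i : Fin (n + 3)} (hi : i ≠ 0) :
    MM z i e f (Mg H (h.f0 0)) where
  he := L.symm 0 i hi.symm
  hf := hE i
  hs w hw h0 c := L.symm.scal hw (h0 0).2 (h0 0).1 (h0 1).2 (h0 1).1 c
  hz w hw := Mg_act1 hw hz hz0

/-- a convenient constructor -/
theorem ZD.mk' {h : Hyp Q e f} {z : OGrp Q} {N : ℕ} {i : Fin (n + 3)} (h20 : i ≠ 0) (h21 : i ≠ 1) (pow : z ^ N = 1)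
    (cop : 3 < Fintype.card F → N.Coprime (Fintype.card F - 1))
    (cop' : Fintype.card F ≤ 3 → N.Coprime (Fintype.card F))
    (fix : ∀ w, polar Q w (e i) = 0 → polar Q w (f i) = 0 →
      (∀ v, V0 Q e f v → polar Q w v = 0) → (z : V ≃ₗ[F] V) w = w)
    (A : polar Q ((z : V ≃ₗ[F] V) (f i)) (f i) ≠ 0)
    (A' : polar Q ((z : V ≃ₗ[F] V) (e i)) (e i) ≠ 0)
    (B : ∀ M, MM z i e f M → ∀ v, V0 Q e f v → v ∈ M) : ZD h z N := by
  have z0 : (z : V ≃ₗ[F] V) (e 0) = e 0 := fix _ (h.ee _ _) (by rw [h.ef, if_neg h20.symm]) (fun v hv => by rw [pc, (hv 0).1])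
  have z1 : (z : V ≃ₗ[F] V) (f 0) = f 0 := fix _ (by rw [h.fe, if_neg h20.symm]) (h.ff _ _) (fun v hv => by rw [pc, (hv 0).2])
  refine ⟨pow, cop, cop', z0, ?_, z1, ?_, ⟨_, _, h20, h20, A⟩, ⟨_, _, h20, h20, A'⟩, ?_, ?_⟩
  · exact fix _ (h.ee _ _) (by rw [h.ef, if_neg h21.symm]) (fun v hv => by rw [pc, (hv 1).1])
  · exact fix _ (by rw [h.fe, if_neg h21.symm]) (h.ff _ _) (fun v hv => by rw [pc, (hv 1).2])
  · intro H L hz hE v hv
    exact B _ (MM_e L hz hE z0 h20) v hv
  · intro H L hz hE v hv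
    exact B _ (MM_f L hz hE z1 h20) v hv

/-- large fields -/
theorem exists_zd_an4 (h : Hyp Q e f) {W : Subgroup (OGrp Q)}
    (hE : ∀ (a b : V) (ha : Q a = 0) (hab : polar Q a b = 0), eich Q a b ha hab ∈ W)
    (hq : 3 < Fintype.card F) {v' b0 : V} (hv' : V0 Q e f v') (hb0 : V0 Q e f b0) (hs : polar Q b0 v' ≠ 0)
    (hQv : Q v' ≠ 0) (hQb : Q b0 ≠ 0) (hspan : ∀ v, V0 Q e f v → ∃ α β : F, v = α • v' + β • b0) :
    ∃ (z : OGrp Q) (N : ℕ), z ∈ W ∧ ZD h z N := by
  obtain ⟨p, hpc⟩ := CharP.exists F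
  obtain ⟨i, hi0, hi1⟩ : ∃ i : Fin (n + 3), i ≠ 0 ∧ i ≠ 1 :=
    ⟨⟨2, by omega⟩, fun h => by have := congrArg Fin.val h; simp at this, fun h => by have := congrArg Fin.val h; simp at this⟩
  set s := polar Q b0 v' with hsd
  obtain ⟨hve, hvf⟩ := hv' i
  obtain ⟨hbe, hbf⟩ := hb0 i
  have hve' : polar Q (e i) v' = 0 := by rw [pc, hve]
  have hvf' : polar Q (f i) v' = 0 := by rw [pc, hvf]
  have hbe' : polar Q (e i) b0 = 0 := by rw [pc, hbe]
  have hbf' : polar Q (f i) b0 = 0 := by rw [pc, hbf]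
  have hef : polar Q (e i) (f i) = 1 := by rw [h.ef, if_pos rfl]
  have hfe : polar Q (f i) (e i) = 1 := by rw [h.fe, if_pos rfl]
  have hee : polar Q (e i) (e i) = 0 := h.ee _ _
  have hff : polar Q (f i) (f i) = 0 := h.ff _ _
  have hvb : polar Q v' b0 = s := by rw [pc]
  have ha : Q (e i + v' - Q v' • f i) = 0 := by
    simp only [qsub, qadd, qsmul, pal, psr, h.e0, h.f0, hef, hvf, hve']; ring
  have hb : Q (b0 - s • f i) = Q b0 := by
    simp only [qsub, qsmul, psr, h.f0, hbf]; ring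
  have hab : polar Q (e i + v' - Q v' • f i) (b0 - s • f i) = 0 := by
    simp only [pal, pdl, pdr, psl, psr, hef, hff, hbe', hbf', hvb, hvf]; ring
  have key : ∀ x, (eich Q _ _ ha hab : V ≃ₗ[F] V) x =
      x + (polar Q x b0 - s * polar Q x (f i)) • (e i + v' - Q v' • f i) -
        (polar Q x (e i) + polar Q x v' - Q v' * polar Q x (f i)) • (b0 - s • f i) -
        (Q b0 * (polar Q x (e i) + polar Q x v' - Q v' * polar Q x (f i))) • (e i + v' - Q v' • f i) := by
    intro x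
    rw [eich_apply, hb, pdr, pdr, par, psr, psr]
  have kf : (eich Q _ _ ha hab : V ≃ₗ[F] V) (f i) = f i - (b0 - s • f i) - Q b0 • (e i + v' - Q v' • f i) := by
    rw [key, hbf', hff, hfe, hvf']
    module
  have ke : (eich Q _ _ ha hab : V ≃ₗ[F] V) (e i) = e i - s • (e i + v' - Q v' • f i) + Q v' • (b0 - s • f i) +
      (Q b0 * Q v') • (e i + v' - Q v' • f i) := by
    rw [key, hbe', hef, hee, hve']
    module
  refine ⟨eich Q _ _ ha hab, p, hE _ _ _ _, ZD.mk' hi0 hi1 ?_ (fun _ => char_cop) (fun h1 => absurd h1 (not_le.2 hq)) ?_ ?_ ?_ ?_⟩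
  · rw [eich_pow, eich_congr rfl (by rw [CharP.cast_eq_zero F p, zero_smul] : ((p : ℕ) : F) • (b0 - s • f i) = 0), eich_zero]
  · intro w h1 h2 h3
    rw [key, h1, h2, h3 _ hv', h3 _ hb0]
    module
  · rw [kf]
    simp only [pdl, pal, psl, hff, hbf, hef, hvf]
    ring_nf
    exact neg_ne_zero.2 hQb
  · rw [ke]
    simp only [pdl, pal, psl, hff, hbe, hef, hve, hee, hfe]
    have : Q v' ^ 2 * Q b0 ≠ 0 := mul_ne_zero (pow_ne_zero 2 hQv) hQb
    intro h4
    apply this
    linear_combination -h4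
  · intro M hM v hv
    have m1 : b0 + Q b0 • v' ∈ M := by
      have h1 := hM.hz (f i) (by have := hM.hf 1; rwa [one_smul] at this)
      rw [kf] at h1
      have h2 := neg_mem (sub_mem (sub_mem h1 (hM.hf (1 + s + Q b0 * Q v'))) (hM.he (-Q b0)))
      have e1 : -(f i - (b0 - s • f i) - Q b0 • (e i + v' - Q v' • f i) - (1 + s + Q b0 * Q v') • f i - (-Q b0) • e i) =
        b0 + Q b0 • v' := by module
      rwa [e1] at h2
    have m2 : (-s + Q b0 * Q v') • v' + Q v' • b0 ∈ M := by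
      have h1 := hM.hz (e i) (by have := hM.he 1; rwa [one_smul] at this)
      rw [ke] at h1
      have h2 := sub_mem (sub_mem h1 (hM.hf (-(Q v' * (Q b0 * Q v'))))) (hM.he (1 - s + Q b0 * Q v'))
      have e1 : (e i - s • (e i + v' - Q v' • f i) + Q v' • (b0 - s • f i) + (Q b0 * Q v') • (e i + v' - Q v' • f i)) -
          (-(Q v' * (Q b0 * Q v'))) • f i - (1 - s + Q b0 * Q v') • e i = (-s + Q b0 * Q v') • v' + Q v' • b0 := by
        module
      rwa [e1] at h2
    have V1 : V0 Q e f (b0 + Q b0 • v') := by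
      intro j
      rw [pal, pal, psl, psl, (hb0 j).1, (hb0 j).2, (hv' j).1, (hv' j).2]
      constructor <;> ring
    have m3 : v' ∈ M := by
      have h1 := sub_mem m2 (hM.hs _ m1 V1 (Q v'))
      have e1 : (-s + Q b0 * Q v') • v' + Q v' • b0 - Q v' • (b0 + Q b0 • v') = (-s) • v' := by module
      rw [e1] at h1
      have V2 : V0 Q e f ((-s) • v') := by
        intro j
        rw [psl, psl, (hv' j).1, (hv' j).2]
        constructor <;> ring
      have h2 := hM.hs _ h1 V2 (-s)⁻¹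
      rwa [smul_smul, inv_mul_cancel₀ (neg_ne_zero.2 hs), one_smul] at h2
    have m4 : b0 ∈ M := by
      have h1 := sub_mem m1 (hM.hs _ m3 hv' (Q b0))
      rwa [add_sub_cancel_right] at h1
    obtain ⟨α, β, rfl⟩ := hspan v hv
    exact add_mem (hM.hs _ m3 hv' α) (hM.hs _ m4 hb0 β)

/-- one-dimensional anisotropic part, three elements -/
theorem exists_zd_odd3 (h : Hyp Q e f) (hQ : (polarBilin Q).Nondegenerate) {W : Subgroup (OGrp Q)}
    (hW : commutator (OGrp Q) ≤ W) (hq : Fintype.card F = 3) {u : V} (hu : V0 Q e f u)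
    (hQu : Q u = 1) (hspan : ∀ v, V0 Q e f v → ∃ α : F, v = α • u) :
    ∃ (z : OGrp Q) (N : ℕ), z ∈ W ∧ ZD h z N := by
  have h3 := three_eq_zero_of_card hq
  obtain ⟨i, hi0, hi1⟩ : ∃ i : Fin (n + 3), i ≠ 0 ∧ i ≠ 1 :=
    ⟨⟨2, by omega⟩, fun h => by have := congrArg Fin.val h; simp at this, fun h => by have := congrArg Fin.val h; simp at this⟩
  obtain ⟨hue, huf⟩ := hu i
  have hue' : polar Q (e i) u = 0 := by rw [pc, hue]
  have huf' : polar Q (f i) u = 0 := by rw [pc, huf]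
  have hef : polar Q (e i) (f i) = 1 := by rw [h.ef, if_pos rfl]
  have hfe : polar Q (f i) (e i) = 1 := by rw [h.fe, if_pos rfl]
  have hee : polar Q (e i) (e i) = 0 := h.ee _ _
  have hff : polar Q (f i) (f i) = 0 := h.ff _ _
  have hx : Q (e i + f i + u) = -1 := by
    simp only [qadd, pal, h.e0, h.f0, hef, hue', huf', hQu]
    linear_combination h3
  have hy : Q (e i - f i) = -1 := by
    simp only [qsub, h.e0, h.f0, hef]; ring
  have hx' : Q (e i + f i + u) ≠ 0 := by rw [hx]; exact neg_ne_zero.2 one_ne_zero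
  have hy' : Q (e i - f i) ≠ 0 := by rw [hy]; exact neg_ne_zero.2 one_ne_zero
  have hxy : polar Q (e i + f i + u) (e i - f i) = 0 := by
    simp only [pal, pdr, hee, hff, hef, hfe, hue, huf]; ring
  have hyx := hxy
  rw [pc] at hyx
  have key : ∀ x, ((refl Q _ hx' * refl Q _ hy' : OGrp Q) : V ≃ₗ[F] V) x =
      x + (polar Q x (e i) - polar Q x (f i)) • (e i - f i) +
        (polar Q x (e i) + polar Q x (f i) + polar Q x u) • (e i + f i + u) := by
    intro x
    rw [coe_mul_apply, refl_apply, refl_apply, hx, hy]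
    simp only [pdl, psl, hyx]
    simp only [par, pdr]
    have e1 : (-1 : F)⁻¹ = -1 := by rw [inv_neg, inv_one]
    rw [e1]
    module
  have h2 : (2 : F) ≠ 0 := by
    intro h2
    apply one_ne_zero (α := F)
    linear_combination h3 - h2
  refine ⟨_, 2, hW (refl_comm_mem hQ hx' hy' (by rw [hx, hy])), ZD.mk' hi0 hi1 (refl_two hx' hy' hxy) (fun h1 => absurd h1 (by omega))
    (fun _ => by rw [hq]; norm_num) ?_ ?_ ?_ ?_⟩
  · intro w h1 h2 h3
    rw [key, h1, h2, h3 _ hu]
    module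
  · rw [key]
    simp only [pdl, pal, psl, hff, hfe, hef, huf, huf', hee, hue]
    ring_nf
    exact h2
  · rw [key]
    simp only [pdl, pal, psl, hff, hfe, hef, huf, huf', hee, hue, hue']
    ring_nf
    exact h2
  · intro M hM v hv
    have m1 : u ∈ M := by
      have h1 := hM.hz (f i) (by have := hM.hf 1; rwa [one_smul] at this)
      rw [key, hfe, hff, huf'] at h1
      have h2 := sub_mem (sub_mem h1 (hM.hf 1)) (hM.he 2)
      have e1 : f i + (1 - 0 : F) • (e i - f i) + (1 + 0 + 0 : F) • (e i + f i + u) - (1 : F) • f i - (2 : F) • e i = u := by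
        module
      rwa [e1] at h2
    obtain ⟨α, rfl⟩ := hspan v hv
    exact hM.hs _ m1 hu α

/-- two-dimensional anisotropic part, three elements -/
theorem exists_zd_minus3 (h : Hyp Q e f) (hQ : (polarBilin Q).Nondegenerate) {W : Subgroup (OGrp Q)}
    (hW : commutator (OGrp Q) ≤ W) (hq : Fintype.card F = 3) {u w : V} (hu : V0 Q e f u) (hw : V0 Q e f w)
    (hQu : Q u = 1) (hQw : Q w = 1) (huw : polar Q u w = 0)
    (hspan : ∀ v, V0 Q e f v → ∃ α β : F, v = α • u + β • w) :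
    ∃ (z : OGrp Q) (N : ℕ), z ∈ W ∧ ZD h z N := by
  have h3 := three_eq_zero_of_card hq
  obtain ⟨i, hi0, hi1⟩ : ∃ i : Fin (n + 3), i ≠ 0 ∧ i ≠ 1 :=
    ⟨⟨2, by omega⟩, fun h => by have := congrArg Fin.val h; simp at this, fun h => by have := congrArg Fin.val h; simp at this⟩
  obtain ⟨hue, huf⟩ := hu i
  obtain ⟨hwe, hwf⟩ := hw i
  have hue' : polar Q (e i) u = 0 := by rw [pc, hue]
  have huf' : polar Q (f i) u = 0 := by rw [pc, huf]
  have hwe' : polar Q (e i) w = 0 := by rw [pc, hwe]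
  have hwf' : polar Q (f i) w = 0 := by rw [pc, hwf]
  have hef : polar Q (e i) (f i) = 1 := by rw [h.ef, if_pos rfl]
  have hfe : polar Q (f i) (e i) = 1 := by rw [h.fe, if_pos rfl]
  have hee : polar Q (e i) (e i) = 0 := h.ee _ _
  have hff : polar Q (f i) (f i) = 0 := h.ff _ _
  have huu : polar Q u u = 2 := by rw [pself, hQu, mul_one]
  have hx : Q (e i + f i + u) = -1 := by
    simp only [qadd, pal, h.e0, h.f0, hef, hue', huf', hQu]
    linear_combination h3
  have hy : Q (e i + u + w) = -1 := by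
    simp only [qadd, pal, h.e0, hue', hwe', hQu, hQw, huw]
    linear_combination h3
  have hx' : Q (e i + f i + u) ≠ 0 := by rw [hx]; exact neg_ne_zero.2 one_ne_zero
  have hy' : Q (e i + u + w) ≠ 0 := by rw [hy]; exact neg_ne_zero.2 one_ne_zero
  have hxy : polar Q (e i + f i + u) (e i + u + w) = 0 := by
    simp only [pal, par, hee, hff, hef, hfe, hue, huf, hue', huf', hwe', hwf', huu, huw]
    linear_combination h3
  have hyx := hxy
  rw [pc] at hyx
  have key : ∀ x, ((refl Q _ hx' * refl Q _ hy' : OGrp Q) : V ≃ₗ[F] V) x =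
      x + (polar Q x (e i) + polar Q x u + polar Q x w) • (e i + u + w) +
        (polar Q x (e i) + polar Q x (f i) + polar Q x u) • (e i + f i + u) := by
    intro x
    rw [coe_mul_apply, refl_apply, refl_apply, hx, hy]
    simp only [pdl, psl, hyx]
    simp only [par, pdr]
    have e1 : (-1 : F)⁻¹ = -1 := by rw [inv_neg, inv_one]
    rw [e1]
    module
  have h2 : (2 : F) ≠ 0 := by
    intro h2
    apply one_ne_zero (α := F)
    linear_combination h3 - h2
  refine ⟨_, 2, hW (refl_comm_mem hQ hx' hy' (by rw [hx, hy])), ZD.mk' hi0 hi1 (refl_two hx' hy' hxy) (fun h1 => absurd h1 (by omega))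
    (fun _ => by rw [hq]; norm_num) ?_ ?_ ?_ ?_⟩
  · intro x h1 h2 h3
    rw [key, h1, h2, h3 _ hu, h3 _ hw]
    module
  · rw [key]
    simp only [pdl, pal, psl, hff, hfe, hef, huf, huf', hee, hue, hwf, hwf']
    ring_nf
    exact h2
  · rw [key]
    simp only [pdl, pal, psl, hff, hfe, hef, huf, huf', hee, hue, hue', hwe, hwe']
    ring_nf
    exact one_ne_zero
  · intro M hM v hv
    have m1 : u ∈ M := by
      have h1 := hM.hz (e i) (by have := hM.he 1; rwa [one_smul] at this)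
      rw [key, hee, hef, hue', hwe'] at h1
      have h2 := sub_mem (sub_mem h1 (hM.hf 1)) (hM.he 2)
      have e1 : e i + (0 + 0 + 0 : F) • (e i + u + w) + (0 + 1 + 0 : F) • (e i + f i + u) - (1 : F) • f i - (2 : F) • e i = u := by
        module
      rwa [e1] at h2
    have m2 : w ∈ M := by
      have h1 := hM.hz (f i) (by have := hM.hf 1; rwa [one_smul] at this)
      rw [key, hff, hfe, huf', hwf'] at h1
      have h2 := sub_mem (sub_mem (sub_mem h1 (hM.hf 2)) (hM.he 2)) (hM.hs _ m1 hu 2)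
      have e1 : f i + (1 + 0 + 0 : F) • (e i + u + w) + (1 + 0 + 0 : F) • (e i + f i + u) - (2 : F) • f i - (2 : F) • e i -
          (2 : F) • u = w := by
        module
      rwa [e1] at h2
    obtain ⟨α, β, rfl⟩ := hspan v hv
    exact add_mem (hM.hs _ m1 hu α) (hM.hs _ m2 hw β)

end an

end Cfsg.Agent.GK.Or
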