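import Cfsg.Agent.GK.Or6

/-!
Two generators of `Ω⁻(Q)` over the field with two elements; conclusion.
-/

set_option autoImplicit false
set_option linter.unusedSectionVars false
set_option linter.unusedVariables false
set_option linter.unusedSimpArgs false

namespace Cfsg.Agent.GK.Or

open Subgroup QuadraticMap Cfsg.Agent.Orth Cfsg.Agent.ClassO
open scoped commutatorElement

universe v

section an
variable {F : Type v} {V : Type*} [Field F] [Fintype F] [AddCommGroup V] [Module F V] [FiniteDimensional F V]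
  {Q : QuadraticForm F V} {n : ℕ} {e f : Fin (n + 3) → V}

/-- two-dimensional anisotropic part, two elements -/
theorem exists_zd_minus2 (h : Hyp Q e f) (hQ : (polarBilin Q).Nondegenerate) {W : Subgroup (OGrp Q)}
    (hW : commutator (OGrp Q) ≤ W) (hq : Fintype.card F = 2) {u w : V} (hu : V0 Q e f u) (hw : V0 Q e f w)
    (hQu : Q u = 1) (hQw : Q w = 1) (huw : polar Q u w = 1)
    (hspan : ∀ v, V0 Q e f v → ∃ α β : F, v = α • u + β • w) :
    ∃ (z : OGrp Q) (N : ℕ), z ∈ W ∧ ZD h z N := by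
  have h2 := two_eq_zero_of_card hq
  obtain ⟨i, hi0, hi1⟩ : ∃ i : Fin (n + 3), i ≠ 0 ∧ i ≠ 1 :=
    ⟨⟨2, by omega⟩, fun h => by have := congrArg Fin.val h; simp at this, fun h => by have := congrArg Fin.val h; simp at this⟩
  obtain ⟨hue, huf⟩ := hu i
  obtain ⟨hwe, hwf⟩ := hw i
  have hue' : polar Q (e i) u = 0 := by rw [pc, hue]
  have huf' : polar Q (f i) u = 0 := by rw [pc, huf]
  have hwe' : polar Q (e i) w = 0 := by rw [pc, hwe]
  have hwf' : polar Q (f i) w = 0 := by rw [pc, hwf]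
  have hef : polar Q (e i) (f i) = 1 := by rw [h.ef, if_pos rfl]
  have hfe : polar Q (f i) (e i) = 1 := by rw [h.fe, if_pos rfl]
  have hee : polar Q (e i) (e i) = 0 := h.ee _ _
  have hff : polar Q (f i) (f i) = 0 := h.ff _ _
  have huu : polar Q u u = 0 := by rw [pself, h2, zero_mul]
  have hww : polar Q w w = 0 := by rw [pself, h2, zero_mul]
  have hwu : polar Q w u = 1 := by rw [pc, huw]
  have hneg : ∀ x : V, -x = x := by
    intro x
    have h4 : (2 : F) • x = 0 := by rw [h2, zero_smul]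
    rw [two_smul] at h4
    exact (eq_neg_of_add_eq_zero_left h4).symm
  have hxx : ∀ x : V, x + x = 0 := by
    intro x
    have h4 : (2 : F) • x = 0 := by rw [h2, zero_smul]
    rwa [two_smul] at h4
  have q1 : Q (e i + f i) = 1 := by rw [qadd, h.e0, h.f0, hef]; ring
  have q2 : Q (e i + w) = 1 := by rw [qadd, h.e0, hQw, hwe']; ring
  have q1' : Q (e i + f i) ≠ 0 := by rw [q1]; exact one_ne_zero
  have q2' : Q (e i + w) ≠ 0 := by rw [q2]; exact one_ne_zero
  have q3' : Q u ≠ 0 := by rw [hQu]; exact one_ne_zero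
  have q4' : Q w ≠ 0 := by rw [hQw]; exact one_ne_zero
  have rf : ∀ (x : V) (hx : Q x ≠ 0) (h1 : Q x = 1) (y : V), (refl Q x hx : V ≃ₗ[F] V) y = y + polar Q y x • x := by
    intro x hx h1 y
    rw [refl_apply, h1, inv_one, one_mul, sub_eq_add_neg, hneg]
  obtain ⟨z, hz⟩ : ∃ z : OGrp Q, z = (refl Q _ q1' * refl Q _ q2') * (refl Q _ q3' * refl Q _ q4') := ⟨_, rfl⟩
  have zap : ∀ y, (z : V ≃ₗ[F] V) y = (refl Q _ q1' : V ≃ₗ[F] V) ((refl Q _ q2' : V ≃ₗ[F] V)
      ((refl Q _ q3' : V ≃ₗ[F] V) ((refl Q _ q4' : V ≃ₗ[F] V) y))) := by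
    intro y; rw [hz]; rfl
  have ze : (z : V ≃ₗ[F] V) (e i) = f i := by
    rw [zap, rf _ q4' hQw, hwe', zero_smul, add_zero, rf _ q3' hQu, hue', zero_smul, add_zero, rf _ q2' q2, par, hee, hwe',
      add_zero, zero_smul, add_zero, rf _ q1' q1, par, hee, hef, zero_add, one_smul, ← add_assoc, hxx, zero_add]
  have zf : (z : V ≃ₗ[F] V) (f i) = e i + f i + w := by
    rw [zap, rf _ q4' hQw, hwf', zero_smul, add_zero, rf _ q3' hQu, huf', zero_smul, add_zero, rf _ q2' q2, par, hfe, hwf',
      add_zero, one_smul, rf _ q1' q1]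
    have : polar Q (f i + (e i + w)) (e i + f i) = 0 := by
      simp only [pal, par, hee, hef, hfe, hff, hwe, hwf]
      linear_combination h2
    rw [this]
    module
  have zw : (z : V ≃ₗ[F] V) w = f i + u := by
    rw [zap, rf _ q4' hQw, hww, zero_smul, add_zero, rf _ q3' hQu, hwu, one_smul, rf _ q2' q2]
    have h5 : polar Q (w + u) (e i + w) = 1 := by
      simp only [pal, par, hwe, hww, hue, huw]; ring
    rw [h5, one_smul, rf _ q1' q1]
    have h6 : polar Q (w + u + (e i + w)) (e i + f i) = 1 := by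
      simp only [pal, par, hee, hef, hwe, hwf, hue, huf]; ring
    rw [h6, one_smul]
    have e1 : w + u + (e i + w) + (e i + f i) = (w + w) + (e i + e i) + (f i + u) := by abel
    rw [e1, hxx, hxx, zero_add, zero_add]
  have zu : (z : V ≃ₗ[F] V) u = w := by
    rw [zap, rf _ q4' hQw, huw, one_smul, rf _ q3' hQu]
    have h5 : polar Q (u + w) u = 1 := by rw [pal, huu, hwu, zero_add]
    rw [h5, one_smul]
    have e1 : u + w + u = (u + u) + w := by abel
    rw [e1, hxx, zero_add, rf _ q2' q2, par, hwe, hww, add_zero, zero_smul, add_zero, rf _ q1' q1, par, hwe, hwf, add_zero,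
      zero_smul, add_zero]
  have zfix : ∀ x, polar Q x (e i) = 0 → polar Q x (f i) = 0 → polar Q x u = 0 → polar Q x w = 0 → (z : V ≃ₗ[F] V) x = x := by
    intro x h1 h3 h4 h5
    rw [zap, rf _ q4' hQw, h5, zero_smul, add_zero, rf _ q3' hQu, h4, zero_smul, add_zero, rf _ q2' q2, par, h1, h5,
      add_zero, zero_smul, add_zero, rf _ q1' q1, par, h1, h3, add_zero, zero_smul, add_zero]
  have p5 : ∀ x, ((z ^ 5 : OGrp Q) : V ≃ₗ[F] V) x = (z : V ≃ₗ[F] V) ((z : V ≃ₗ[F] V) ((z : V ≃ₗ[F] V) ((z : V ≃ₗ[F] V)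
      ((z : V ≃ₗ[F] V) x)))) := by
    intro x
    have : z ^ 5 = z * (z * (z * (z * z))) := by
      simp only [pow_succ, pow_zero, one_mul, mul_assoc]
    rw [this]; rfl
  have pe : ((z ^ 5 : OGrp Q) : V ≃ₗ[F] V) (e i) = e i := by
    have a1 : (z : V ≃ₗ[F] V) (e i + f i + w) = e i + f i + w + u := by
      rw [map_add, map_add, ze, zf, zw]
      have e1 : f i + (e i + f i + w) + (f i + u) = (f i + f i) + (e i + f i + w + u) := by abel
      rw [e1, hxx, zero_add]
    have a2 : (z : V ≃ₗ[F] V) (e i + f i + w + u) = e i + f i + u := by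
      rw [map_add, a1, zu]
      have e1 : e i + f i + w + u + w = (w + w) + (e i + f i + u) := by abel
      rw [e1, hxx, zero_add]
    have a3 : (z : V ≃ₗ[F] V) (e i + f i + u) = e i := by
      rw [map_add, map_add, ze, zf, zu]
      have e1 : f i + (e i + f i + w) + w = (f i + f i) + (w + w) + e i := by abel
      rw [e1, hxx, hxx, zero_add, zero_add]
    rw [p5, ze, zf, a1, a2, a3]
  have pz : ∀ x, ((z ^ 5 : OGrp Q) : V ≃ₗ[F] V) x = x → ((z ^ 5 : OGrp Q) : V ≃ₗ[F] V) ((z : V ≃ₗ[F] V) x) = (z : V ≃ₗ[F] V) x := by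
    intro x hx
    rw [p5] at hx ⊢
    rw [hx]
  have pf : ((z ^ 5 : OGrp Q) : V ≃ₗ[F] V) (f i) = f i := by
    have := pz _ pe
    rwa [ze] at this
  have pw : ((z ^ 5 : OGrp Q) : V ≃ₗ[F] V) w = w := by
    have := pz _ pf
    rw [zf, map_add, map_add, pe, pf] at this
    exact add_left_cancel this
  have pu : ((z ^ 5 : OGrp Q) : V ≃ₗ[F] V) u = u := by
    have := pz _ pw
    rw [zw, map_add, pf] at this
    exact add_left_cancel this
  have pow5 : z ^ 5 = 1 := by
    refine OGrp_ext fun x => ?_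
    rw [coe_one_apply]
    set x' := x - polar Q x (f i) • e i - polar Q x (e i) • f i - polar Q x w • u - polar Q x u • w with hx'
    have f1 : (z : V ≃ₗ[F] V) x' = x' := by
      apply zfix
      · rw [hx']; simp only [pdl, psl, hee, hfe, hue, hwe]; ring
      · rw [hx']; simp only [pdl, psl, hff, hef, huf, hwf]; ring
      · rw [hx']; simp only [pdl, psl, hue', huf', huu, hwu]; ring
      · rw [hx']; simp only [pdl, psl, hwe', hwf', huw, hww]; ring
    have f2 : ((z ^ 5 : OGrp Q) : V ≃ₗ[F] V) x' = x' := by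
      rw [p5, f1, f1, f1, f1, f1]
    have e1 : x = x' + polar Q x (f i) • e i + polar Q x (e i) • f i + polar Q x w • u + polar Q x u • w := by
      rw [hx']; module
    have f3 : ((z ^ 5 : OGrp Q) : V ≃ₗ[F] V) (x' + polar Q x (f i) • e i + polar Q x (e i) • f i + polar Q x w • u +
        polar Q x u • w) = x' + polar Q x (f i) • e i + polar Q x (e i) • f i + polar Q x w • u + polar Q x u • w := by
      rw [map_add, map_add, map_add, map_add, map_smul, map_smul, map_smul, map_smul, f2, pe, pf, pu, pw]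
    rwa [← e1] at f3
  refine ⟨z, 5, ?_, ZD.mk' hi0 hi1 pow5 (fun h1 => absurd h1 (by omega)) (fun _ => by rw [hq]; norm_num) ?_ ?_ ?_ ?_⟩
  · rw [hz]
    exact mul_mem (hW (refl_comm_mem hQ q1' q2' (by rw [q1, q2]))) (hW (refl_comm_mem hQ q3' q4' (by rw [hQu, hQw])))
  · intro x h1 h3 h4
    exact zfix x h1 h3 (h4 _ hu) (h4 _ hw)
  · rw [zf, pal, pal, hef, hff, hwf, add_zero, add_zero]; exact one_ne_zero
  · rw [ze, hfe]; exact one_ne_zero
  · intro M hM v hv
    have me : e i ∈ M := by have := hM.he 1; rwa [one_smul] at this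
    have mf : f i ∈ M := by have := hM.hf 1; rwa [one_smul] at this
    have mw : w ∈ M := by
      have h1 := hM.hz _ mf
      rw [zf] at h1
      have h3 := sub_mem h1 (add_mem me mf)
      rwa [add_sub_cancel_left] at h3
    have mu : u ∈ M := by
      have h1 := hM.hz _ mw
      rw [zw] at h1
      have h3 := sub_mem h1 mf
      rwa [add_sub_cancel_left] at h3
    obtain ⟨α, β, rfl⟩ := hspan v hv
    exact add_mem (hM.hs _ mu hu α) (hM.hs _ mw hw β)

end an

end Cfsg.Agent.GK.Or
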