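import Cfsg.Agent.GK.Or7
import Cfsg.Agent.GK.SpH

/-!
Two generators of `PΩ(Q)`: odd dimension and minus type.
-/

set_option autoImplicit false
set_option linter.unusedSectionVars false
set_option linter.unusedVariables false
set_option linter.unusedSimpArgs false

namespace Cfsg.Agent.GK.Or

open Subgroup QuadraticMap Cfsg.Agent.Orth Cfsg.Agent.ClassO

theorem RGrp_odd' {F : Type*} [Field F] [Fintype F] {m : ℕ} (h2 : (2 : F) ≠ 0) :
    RGrp (qfOdd m F) = ⊤ := by
  apply RGrp_top_of_card (qfOdd_nondegenerate m F h2)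
  left
  intro h
  exact h2 (two_eq_zero_of_card h)

theorem three_cases {F : Type*} [Field F] [Fintype F] (hF : Fintype.card F = 3) (c : F) : c = 0 ∨ c = 1 ∨ c = -1 := by
  classical
  by_contra h
  push Not at h
  obtain ⟨h0, h1, h2⟩ := h
  have h3 := three_eq_zero_of_card hF
  have hne : (1 : F) ≠ -1 := by
    intro h4
    apply one_ne_zero (α := F)
    linear_combination h3 - h4
  have h4 : ({0, 1, -1, c} : Finset F).card ≤ Fintype.card F := Finset.card_le_univ _
  rw [Finset.card_insert_of_notMem (by simp [h0.symm]), Finset.card_insert_of_notMem (by simp [hne, h1.symm]),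
    Finset.card_pair (Ne.symm h2), hF] at h4
  omega

theorem two_gen_odd {F : Type*} [Field F] [Fintype F] (hodd : Odd (Fintype.card F)) (m : ℕ) (hm : 3 ≤ m) :
    ∃ a b : Cfsg.POmega F (Cfsg.quadFormOdd m F),
      Subgroup.closure ({a, b} : Set (Cfsg.POmega F (Cfsg.quadFormOdd m F))) = ⊤ := by
  have h2 := two_ne_zero_of_odd hodd
  obtain ⟨n, rfl⟩ : ∃ n, m = n + 3 := ⟨m - 3, by omega⟩
  have hQ := qfOdd_nondegenerate (n + 3) F h2
  refine two_gen_POmega (Q := qfOdd (n + 3) F) hQ (RGrp_odd' h2) (hyp_odd' F (n + 3)) ?_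
  intro hE
  set u : Unit ⊕ (Fin (n + 3) ⊕ Fin (n + 3)) → F := Pi.single (Sum.inl ()) 1 with hu
  have hu0 : V0 (qfOdd (n + 3) F) (fun i : Fin (n + 3) => Pi.single (Sum.inr (Sum.inl i)) (1 : F))
      (fun i => Pi.single (Sum.inr (Sum.inr i)) 1) u := by
    intro i
    rw [polar_qfOdd, polar_qfOdd]
    constructor <;> simp [hu, Pi.single_apply]
  have hQu : qfOdd (n + 3) F u = 1 := by
    rw [qfOdd_apply]; simp [hu, Pi.single_apply]
  have hspan : ∀ v, V0 (qfOdd (n + 3) F) (fun i : Fin (n + 3) => Pi.single (Sum.inr (Sum.inl i)) (1 : F))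
      (fun i => Pi.single (Sum.inr (Sum.inr i)) 1) v → ∃ α : F, v = α • u := by
    intro v hv
    refine ⟨v (Sum.inl ()), ?_⟩
    ext p
    rcases p with ⟨⟩ | i | i
    · simp [hu]
    · have := (hv i).2
      rw [polar_qfOdd] at this
      simpa [hu, Pi.single_apply] using this
    · have := (hv i).1
      rw [polar_qfOdd] at this
      simpa [hu, Pi.single_apply] using this
  by_cases hq : 3 < Fintype.card F
  · refine exists_zd_an4 (hyp_odd' F (n + 3)) hE hq hu0 hu0 ?_ (by rw [hQu]; exact one_ne_zero) (by rw [hQu]; exact one_ne_zero) ?_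
    · rw [pself, hQu, mul_one]; exact h2
    · intro v hv
      obtain ⟨α, hα⟩ := hspan v hv
      exact ⟨α, 0, by rw [hα, zero_smul, add_zero]⟩
  · have hq3 : Fintype.card F = 3 := by
      have h4 := Fintype.one_lt_card (α := F)
      obtain ⟨k, hk⟩ := hodd
      omega
    exact exists_zd_odd3 (hyp_odd' F (n + 3)) hQ le_rfl hq3 hu0 hQu hspan

theorem two_gen_minus {F : Type*} [Field F] [Fintype F] (m : ℕ) (hm : 3 ≤ m) (a b : F)
    (hab : ∀ z₁ z₂ : F, z₁ ^ 2 + a * z₁ * z₂ + b * z₂ ^ 2 = 0 → z₁ = 0 ∧ z₂ = 0) :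
    ∃ g h : Cfsg.POmega F (Cfsg.quadFormMinus m F a b),
      Subgroup.closure ({g, h} : Set (Cfsg.POmega F (Cfsg.quadFormMinus m F a b))) = ⊤ := by
  obtain ⟨n, rfl⟩ : ∃ n, m = n + 3 := ⟨m - 3, by omega⟩
  have hQ := qfMinus_nondegenerate (n + 3) F (disc_ne_zero_of_aniso hab)
  refine two_gen_POmega (Q := qfMinus (n + 3) F a b) hQ (RGrp_minus (by omega) hab) (hyp_minus' F (n + 3) a b) ?_
  intro hE
  have hne : ∀ z₁ z₂ : F, z₁ ≠ 0 ∨ z₂ ≠ 0 → z₁ ^ 2 + a * z₁ * z₂ + b * z₂ ^ 2 ≠ 0 := by
    intro z₁ z₂ hz h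
    obtain ⟨h1, h2⟩ := hab z₁ z₂ h
    rcases hz with hz | hz
    · exact hz h1
    · exact hz h2
  have hb : b ≠ 0 := by
    have := hne 0 1 (Or.inr one_ne_zero)
    intro h; apply this; rw [h]; ring
  have hV : ∀ α β : F, V0 (qfMinus (n + 3) F a b) (fun i : Fin (n + 3) => Pi.single (Sum.inl (Sum.inl i)) (1 : F))
      (fun i => Pi.single (Sum.inl (Sum.inr i)) 1) (α • Pi.single (Sum.inr 0) 1 + β • Pi.single (Sum.inr 1) 1) := by
    intro α β i
    rw [polar_qfMinus, polar_qfMinus]
    constructor <;> simp [Pi.single_apply]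
  have hQv : ∀ α β : F, qfMinus (n + 3) F a b (α • Pi.single (Sum.inr 0) 1 + β • Pi.single (Sum.inr 1) 1) =
      α ^ 2 + a * α * β + b * β ^ 2 := by
    intro α β
    rw [qfMinus_apply]; simp [Pi.single_apply]
  have hP : ∀ α β α' β' : F, polar (qfMinus (n + 3) F a b) (α • Pi.single (Sum.inr 0) 1 + β • Pi.single (Sum.inr 1) 1)
      (α' • Pi.single (Sum.inr 0) 1 + β' • Pi.single (Sum.inr 1) 1) =
      2 * α * α' + a * (α * β' + β * α') + 2 * b * β * β' := by
    intro α β α' β'
    rw [polar_qfMinus]; simp [Pi.single_apply]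
  have hspan : ∀ v, V0 (qfMinus (n + 3) F a b) (fun i : Fin (n + 3) => Pi.single (Sum.inl (Sum.inl i)) (1 : F))
      (fun i => Pi.single (Sum.inl (Sum.inr i)) 1) v →
      v = v (Sum.inr 0) • Pi.single (Sum.inr 0) 1 + v (Sum.inr 1) • Pi.single (Sum.inr 1) 1 := by
    intro v hv
    ext p
    rcases p with (i | i) | i
    · have := (hv i).2
      rw [polar_qfMinus] at this
      simpa [Pi.single_apply] using this
    · have := (hv i).1
      rw [polar_qfMinus] at this
      simpa [Pi.single_apply] using this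
    · fin_cases i
      · simp [Pi.single_apply]
      · simp [Pi.single_apply]
  by_cases hq : 3 < Fintype.card F
  · by_cases ha : a = 0
    · have h2 : (2 : F) ≠ 0 := by
        intro h2
        apply disc_ne_zero_of_aniso hab
        rw [ha]
        linear_combination -2 * b * h2
      refine exists_zd_an4 (hyp_minus' F (n + 3) a b) hE hq (hV 1 0) (hV 1 1) ?_ ?_ ?_ ?_
      · rw [hP]
        intro h
        apply h2
        rw [ha] at h
        linear_combination h
      · rw [hQv]; exact hne 1 0 (Or.inl one_ne_zero)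
      · rw [hQv]; exact hne 1 1 (Or.inl one_ne_zero)
      · intro v hv
        refine ⟨v (Sum.inr 0) - v (Sum.inr 1), v (Sum.inr 1), ?_⟩
        refine (hspan v hv).trans ?_
        module
    · refine exists_zd_an4 (hyp_minus' F (n + 3) a b) hE hq (hV 1 0) (hV 0 1) ?_ ?_ ?_ ?_
      · rw [hP]
        intro h
        apply ha
        linear_combination h
      · rw [hQv]; exact hne 1 0 (Or.inl one_ne_zero)
      · rw [hQv]; exact hne 0 1 (Or.inr one_ne_zero)
      · intro v hv
        refine ⟨v (Sum.inr 0), v (Sum.inr 1), ?_⟩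
        refine (hspan v hv).trans ?_
        module
  · by_cases hq2 : Fintype.card F = 2
    · have h2 := two_eq_zero_of_card hq2
      have hb1 : b = 1 := (two_cases hq2 b).resolve_left hb
      have ha1 : a = 1 := by
        refine (two_cases hq2 a).resolve_left ?_
        intro ha
        have := hne 1 1 (Or.inl one_ne_zero)
        apply this
        rw [ha, hb1]
        linear_combination h2
      refine exists_zd_minus2 (hyp_minus' F (n + 3) a b) hQ le_rfl hq2 (hV 1 0) (hV 0 1) ?_ ?_ ?_ ?_
      · rw [hQv]; ring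
      · rw [hQv, hb1]; ring
      · rw [hP, ha1]; ring
      · intro v hv
        refine ⟨v (Sum.inr 0), v (Sum.inr 1), ?_⟩
        refine (hspan v hv).trans ?_
        module
    · have hq3 : Fintype.card F = 3 := by
        have h4 := Fintype.one_lt_card (α := F)
        omega
      have h3 := three_eq_zero_of_card hq3
      have key : b + 2 * a ^ 2 = 1 := by
        have c1 := hne 1 1 (Or.inl one_ne_zero)
        have c2 := hne 1 (-1) (Or.inl one_ne_zero)
        rcases three_cases hq3 b with h | h | h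
        · exact absurd h hb
        · rcases three_cases hq3 a with h' | h' | h'
          · rw [h, h']; ring
          · exfalso; apply c1; rw [h, h']; linear_combination h3
          · exfalso; apply c2; rw [h, h']; linear_combination h3
        · rcases three_cases hq3 a with h' | h' | h'
          · exfalso; apply c1; rw [h, h']; ring
          · rw [h, h']; ring
          · rw [h, h']; ring
      refine exists_zd_minus3 (hyp_minus' F (n + 3) a b) hQ le_rfl hq3 (hV 1 0) (hV a 1) ?_ ?_ ?_ ?_
      · rw [hQv]; ring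
      · rw [hQv]; linear_combination key
      · rw [hP]; linear_combination a * h3
      · intro v hv
        refine ⟨v (Sum.inr 0) - a * v (Sum.inr 1), v (Sum.inr 1), ?_⟩
        refine (hspan v hv).trans ?_
        module

end Cfsg.Agent.GK.Or
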