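import Cfsg.Agent.GK.T3j
import Cfsg.Agent.GK.Un33

/-!
Presentations of the three-dimensional unitary groups.
-/

set_option autoImplicit false
set_option linter.unusedSectionVars false
set_option linter.unusedVariables false
set_option linter.unusedSimpArgs false

namespace Cfsg.Agent.GK.T3

open Subgroup Cfsg.Agent.ClBN Cfsg.Agent.Uni
open Cfsg.Agent.GK (IsPres IsGen glue_pres')

universe v w

section rel
variable {F : Type v} [Field F] [Fintype F] {q : ℕ} {hF : Fintype.card F = q ^ 2} {Γ G : Type*} [Group Γ] [Group G]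

local notation "SL3" => Matrix.SpecialLinearGroup (Fin 3) F

/-- the canonical relator -/
noncomputable def crw (ρ : Bor hF →* Γ) (s : Γ) {x : F} {y : Fˣ} (h : Pc (conjHom hF) x y) : Γ :=
  s * ρ (bu hF h) * s * (ρ (bu hF (Pc_a hF h) * bh hF (cu hF y)⁻¹) * s * ρ (bu hF (Pc_c hF h)))⁻¹

theorem crw_iff (ρ : Bor hF →* Γ) (s : Γ) {x : F} {y : Fˣ} (h : Pc (conjHom hF) x y) : crw ρ s h = 1 ↔ CR hF ρ s h := by
  rw [crw, mul_inv_eq_one]; rfl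

/-- the six relators with the reflection -/
noncomputable def srel (ρ : Bor hF →* Γ) (s : Γ) (ζ : Fˣ) {y1 y2 : Fˣ} {x0 : ℕ → F} (h1 : Pc (conjHom hF) 0 y1) (h2 : ∀ i : ℕ, Pc (conjHom hF) (x0 i) y2) : Fin 3 ⊕ Fin 3 → Γ :=
  Sum.elim ![s * s, s * ρ (bh hF ζ) * s * (ρ (bh hF (cu hF ζ)⁻¹))⁻¹, crw ρ s h1] (fun i => crw ρ s (h2 i))

theorem map_crw (π : Γ →* G) (ρ : Bor hF →* Γ) (s : Γ) {x : F} {y : Fˣ} (h : Pc (conjHom hF) x y) : π (crw ρ s h) = crw (π.comp ρ) (π s) h := by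
  unfold crw; simp only [map_mul, map_inv, MonoidHom.comp_apply]

theorem map_srel (π : Γ →* G) (ρ : Bor hF →* Γ) (s : Γ) (ζ : Fˣ) {y1 y2 : Fˣ} {x0 : ℕ → F} (h1 : Pc (conjHom hF) 0 y1) (h2 : ∀ i : ℕ, Pc (conjHom hF) (x0 i) y2) (i) :
    π (srel ρ s ζ h1 h2 i) = srel (π.comp ρ) (π s) ζ h1 h2 i := by
  rcases i with i | i
  · fin_cases i <;> simp only [srel, Sum.elim_inl, Fin.zero_eta, Fin.mk_one, Fin.reduceFinMk, Matrix.cons_val_zero, Matrix.cons_val_one, Matrix.cons_val, map_mul, map_inv,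
      map_crw, MonoidHom.comp_apply]
  · simp only [srel, Sum.elim_inr, map_crw]

theorem sh_all {ρ : Bor hF →* Γ} {s : Γ} (ss : s * s = 1) {ζ : Fˣ} (hζ : IsGen ζ) (h : s * ρ (bh hF ζ) * s = ρ (bh hF (cu hF ζ)⁻¹)) (a : Fˣ) :
    s * ρ (bh hF a) * s = ρ (bh hF (cu hF a)⁻¹) := by
  obtain ⟨n, rfl⟩ := hζ a
  have hs : s⁻¹ = s := inv_eq_of_mul_eq_one_right ss
  have e1 : s * ρ (bh hF (ζ ^ n)) * s = (s * ρ (bh hF ζ) * s) ^ n := by
    have : (s * ρ (bh hF ζ) * s⁻¹) ^ n = s * ρ (bh hF ζ) ^ n * s⁻¹ := conj_pow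
    rw [hs] at this
    rw [this, bh_pow, map_pow]
  have e2 : (cu hF (ζ ^ n))⁻¹ = (cu hF ζ)⁻¹ ^ n := by
    rw [inv_pow]; congr 1; exact map_pow (Units.map _) _ _
  rw [e1, h, e2, bh_pow, map_pow]

end rel

section main
variable {F : Type v} [Field F] [Fintype F] {q : ℕ} (hF : Fintype.card F = q ^ 2)

local notation "SL3" => Matrix.SpecialLinearGroup (Fin 3) F
local notation "σ" => conjHom hF

theorem exists_x0 {ν : F} (hν : σ ν = -ν) (ν0 : ν ≠ 0) {ζ : Fˣ} (hζ : IsGen ζ) :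
    ∃ x0 : F, ∀ i : ℕ, Pc σ (x0 * ((ζ ^ ((q - 1) * i) : Fˣ) : F)) (ν * ((ζ ^ q : Fˣ) : F)) := by
  have h2 := q2 hF
  have htr : ν * ((ζ ^ q : Fˣ) : F) + σ (ν * ((ζ ^ q : Fˣ) : F)) ≠ 0 := by
    apply tr_ne (hν := hν) hζ ν0
    intro h
    have h3 : q + 1 ∣ 1 := by
      have := (Nat.dvd_sub (dvd_refl (q + 1)) h)
      rwa [Nat.add_sub_cancel_left] at this
    have := Nat.le_of_dvd one_pos h3
    omega
  obtain ⟨d, hd⟩ := Un.normU hF (-(ν * ((ζ ^ q : Fˣ) : F) + σ (ν * ((ζ ^ q : Fˣ) : F)))) (by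
    rw [map_neg, map_add, tt]; ring) (neg_ne_zero.2 htr)
  rw [Un.nn_coe] at hd
  refine ⟨d, fun i => ?_⟩
  have hN : ((ζ ^ ((q - 1) * i) : Fˣ) : F) * σ ((ζ ^ ((q - 1) * i) : Fˣ) : F) = 1 := by
    rw [conjHom_apply, ← pow_succ', ← Units.val_pow_eq_pow_val, ← pow_mul]
    have e : (q - 1) * i * (q + 1) = (q ^ 2 - 1) * i := by rw [sq_fac (by omega)]; ring
    have ho : ζ ^ (q ^ 2 - 1) = 1 := by
      rw [← hF, ← hζ.orderOf]; exact pow_orderOf_eq_one ζ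
    rw [e, pow_mul, ho, one_pow, Units.val_one]
  unfold Pc
  rw [map_mul σ (d : F)]
  have hd' : (d : F) * σ (d : F) = -(ν * ((ζ ^ q : Fˣ) : F) + σ (ν * ((ζ ^ q : Fˣ) : F))) := hd
  linear_combination (((ζ ^ ((q - 1) * i) : Fˣ) : F) * σ ((ζ ^ ((q - 1) * i) : Fˣ) : F)) * hd' - (ν * ((ζ ^ q : Fˣ) : F) + σ (ν * ((ζ ^ q : Fˣ) : F))) * hN

theorem su3_pres (h2 : q ≠ 2) : ∃ (R : Finset (FreeGroup (Fin 3))) (x : Fin 3 → U3 hF), R.card ≤ 20 ∧ IsPres (R : Set (FreeGroup (Fin 3))) x := by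
  obtain ⟨RB, xB, hRB, PB⟩ := exists_bor hF h2
  obtain ⟨ν, e, ζ, D⟩ := Un.exists_UD hF
  obtain ⟨x0, h0⟩ := exists_x0 hF D.hν D.ν0 D.hζ
  have hν' : Pc σ 0 ((Units.mk0 ν D.ν0 : Fˣ) : F) := Pc_z D.hν
  have hy2 : ν * ((ζ ^ q : Fˣ) : F) ≠ 0 := mul_ne_zero D.ν0 (ζ ^ q).ne_zero
  have h0' : ∀ i : ℕ, Pc σ (x0 * ((ζ ^ ((q - 1) * i) : Fˣ) : F)) ((Units.mk0 _ hy2 : Fˣ) : F) := h0
  have hcr : ∀ {x : F} {y : Fˣ} (h : Pc σ x y), CR hF (Subgroup.inclusion (Bor_le hF)) (⟨sM, sM_mem hF⟩ : U3 hF) h := by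
    intro x y h
    apply Subtype.ext
    have := sM_uM σ y (tt hF) h
    exact this
  obtain ⟨R, x, hR, P⟩ := glue_pres' PB (Om.isPres_free 1) (Subgroup.inclusion (Bor_le hF)) (FreeGroup.lift (fun _ => (⟨sM, sM_mem hF⟩ : U3 hF)))
    (srel Monoid.Coprod.inl (Monoid.Coprod.inr (FreeGroup.of 0)) ζ hν' h0') (by
      intro i
      rw [map_srel, Un.lift_comp_inl', Monoid.Coprod.lift_apply_inr, FreeGroup.lift_apply_of]
      rcases i with i | i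
      · fin_cases i
        · exact Subtype.ext sM_sq
        · change _ * _ = 1
          rw [mul_inv_eq_one]
          exact Subtype.ext (sM_hM σ ζ (tt hF))
        · exact (crw_iff _ _ _).2 (hcr _)
      · exact (crw_iff _ _ _).2 (hcr _)) (by
      intro Γ _ ρ θ H hΓ π h1 h2
      have H' : ∀ i, srel ρ (θ (FreeGroup.of 0)) ζ hν' h0' i = 1 := by
        intro i
        have := H i
        rwa [map_srel, Un.lift_comp_inl', Monoid.Coprod.lift_apply_inr] at this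
      have a0 : θ (FreeGroup.of 0) * θ (FreeGroup.of 0) = 1 := H' (Sum.inl 0)
      have a1 := H' (Sum.inl 1)
      have a2 := H' (Sum.inl 2)
      change _ * _⁻¹ = 1 at a1
      rw [mul_inv_eq_one] at a1
      have a2' := (crw_iff _ _ _).1 a2
      have a3 : ∀ i : ℕ, i < 3 → CR hF ρ (θ (FreeGroup.of 0)) (h0' i) := fun i hi => (crw_iff _ _ _).1 (H' (Sum.inr ⟨i, hi⟩))
      have SRr : SR hF ρ (θ (FreeGroup.of 0)) π := by
        refine ⟨a0, sh_all a0 D.hζ a1, fun b => ?_, ?_⟩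
        · rw [h1]; rfl
        · rw [h2, FreeGroup.lift_apply_of]
      have BSr : BS ρ (θ (FreeGroup.of 0)) ν ζ x0 D.hν h0 := ⟨a2'.qq, fun i hi => (a3 i hi).qq⟩
      have hs : ρ.range ⊔ zpowers (θ (FreeGroup.of 0)) = ⊤ := by
        rw [eq_top_iff, ← hΓ]
        exact sup_le_sup_left (Om.range_free_one θ) _
      refine ⟨inj SRr BSr D.hζ D.ν0 hs, ?_⟩
      intro g
      rcases bruhat hF g.2 with hb | ⟨b1, hb1, b2, hb2, e⟩
      · exact ⟨ρ ⟨g, hb⟩, by rw [h1]; rfl⟩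
      · refine ⟨ρ ⟨b1, hb1⟩ * θ (FreeGroup.of 0) * ρ ⟨b2, hb2⟩, ?_⟩
        rw [map_mul, map_mul, h1, h1, h2, FreeGroup.lift_apply_of]
        exact Subtype.ext e.symm)
  refine ⟨R, x, ?_, P⟩
  rw [Finset.card_empty, Fintype.card_sum, Fintype.card_fin] at hR
  omega

include hF in
theorem su3_final (h2 : q ≠ 2) : ∃ (R : Finset (FreeGroup (Fin 3))) (x : Fin 3 → SU 3 F q), R.card ≤ 20 ∧ IsPres (R : Set (FreeGroup (Fin 3))) x := by
  obtain ⟨R, x, hR, P⟩ := su3_pres hF h2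
  obtain ⟨e⟩ := exists_u3_equiv hF
  exact ⟨R, _, hR, P.map e⟩

end main

end Cfsg.Agent.GK.T3
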