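import Cfsg.Agent.GK.Un29
import Cfsg.Agent.GK.Om8

/-!
The relators in rank at least three and the presentations in even dimension.
-/

set_option autoImplicit false
set_option linter.unusedSectionVars false
set_option linter.unusedVariables false
set_option linter.unusedSimpArgs false

namespace Cfsg.Agent.GK.Un

open Subgroup Cfsg.Agent.Stb Cfsg.Agent.ClBN Cfsg.Agent.Uni
open scoped commutatorElement

attribute [local instance] Stb.sumNeg

universe v

section rel
variable {F : Type v} [Field F] {n r : ℕ} {Γ G : Type*} [Group Γ] [Group G]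

/-- the relators for the flip -/
noncomputable def evr (τ : F →+* F) (ν : F) (μ : Matrix.SpecialLinearGroup (Fin (n + 1)) F →* Γ) (s : Γ) {o' : Fin (n + 1)} (h : Fin.last n ≠ o') (ζ : Fˣ) (e : F)
    (g : Fin r → Matrix.SpecialLinearGroup (Fin n) F) : Fin r ⊕ Fin 6 → Γ :=
  Sum.elim (fun i => ⁅s, μ (EL (g i))⁆)
    ![⁅s, SF μ s (Fin.last n) o'⁆,
      ((s * SF μ s (Fin.last n) o') * μ (tvl h 1) * (s * SF μ s (Fin.last n) o')⁻¹) * (μ (tvl h.symm (-1)))⁻¹,
      ((s * SF μ s (Fin.last n) o') * μ (emb2 h (hm ζ)) * (s * SF μ s (Fin.last n) o')⁻¹) * (μ (emb2 h (hm (Units.map (τ : F →* F) ζ)⁻¹)))⁻¹,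
      ((s * s) * μ (tvl h 1) * (s * s)⁻¹) * (μ (tvl h (-1)))⁻¹,
      ⁅SF μ s (Fin.last n) o' * μ (tvl h ν) * (SF μ s (Fin.last n) o')⁻¹, μ (tvl h 1)⁆,
      s * (LLe τ μ s h e * RRe τ ν μ s h e * LLe τ μ s h e)⁻¹]

variable {τ : F →+* F} {ν : F} {μ : Matrix.SpecialLinearGroup (Fin (n + 1)) F →* Γ} {s : Γ} {o' : Fin (n + 1)} {h : Fin.last n ≠ o'} {ζ : Fˣ} {e : F}
  {g : Fin r → Matrix.SpecialLinearGroup (Fin n) F}

theorem map_LLe {l : Type*} [Fintype l] [DecidableEq l] (π : Γ →* G) (τ : F →+* F) (μ : Matrix.SpecialLinearGroup l F →* Γ) (s : Γ) {o o' : l} (h : o ≠ o') (e : F) :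
    π (LLe τ μ s h e) = LLe τ (π.comp μ) (π s) h e := by
  unfold LLe; simp [map_commutatorElement]

theorem map_RRe {l : Type*} [Fintype l] [DecidableEq l] (π : Γ →* G) (τ : F →+* F) (ν : F) (μ : Matrix.SpecialLinearGroup l F →* Γ) (s : Γ) {o o' : l} (h : o ≠ o') (e : F) :
    π (RRe τ ν μ s h e) = RRe τ ν (π.comp μ) (π s) h e := by
  unfold RRe; simp [map_commutatorElement]

theorem map_evr (π : Γ →* G) (i : Fin r ⊕ Fin 6) : π (evr τ ν μ s h ζ e g i) = evr τ ν (π.comp μ) (π s) h ζ e g i := by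
  rcases i with i | i
  · simp only [evr, Sum.elim_inl, map_commutatorElement]; rfl
  · fin_cases i <;> simp only [evr, Sum.elim_inr, Fin.zero_eta, Fin.mk_one, Fin.reduceFinMk, Matrix.cons_val_zero, Matrix.cons_val, map_mul, map_inv,
      map_commutatorElement, map_SF, map_LLe, map_RRe] <;> rfl

theorem two_n (hn : 2 ≤ n) (i : Fin (n + 1)) : ∃ j, j ≠ i := by
  by_cases hi : i = ⟨0, by omega⟩
  · exact ⟨⟨1, by omega⟩, fun e => by rw [hi] at e; simp at e⟩
  · exact ⟨⟨0, by omega⟩, fun e => hi e.symm⟩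

theorem three_n (hn : 2 ≤ n) (i j : Fin (n + 1)) : ∃ k, k ≠ i ∧ k ≠ j := by
  obtain ⟨k, hk⟩ : ∃ k, k ∉ ({i, j} : Finset (Fin (n + 1))) := by
    by_contra hc
    push Not at hc
    have h1 : (Finset.univ : Finset (Fin (n + 1))) ⊆ {i, j} := fun x _ => hc x
    have h2 := (Finset.card_le_card h1).trans Finset.card_le_two
    rw [Finset.card_univ, Fintype.card_fin] at h2
    omega
  simp only [Finset.mem_insert, Finset.mem_singleton, not_or] at hk
  exact ⟨k, hk⟩

theorem evr_iff (hn : 2 ≤ n) (hg : closure (Set.range g) = ⊤) : (∀ i, evr τ ν μ s h ζ e g i = 1) ↔ BR τ ν μ s h ζ ∧ FR τ ν μ s h e := by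
  constructor
  · intro H
    have a0 := H (Sum.inr 0)
    have a1 := H (Sum.inr 1)
    have a2 := H (Sum.inr 2)
    have a3 := H (Sum.inr 3)
    have a4 := H (Sum.inr 4)
    have a5 := H (Sum.inr 5)
    simp only [evr, Sum.elim_inr, Matrix.cons_val_zero, Matrix.cons_val, mul_inv_eq_one, commutatorElement_eq_one_iff_commute] at a0 a1 a2 a3 a4 a5
    refine ⟨⟨⟨two_n hn, ?_⟩, a0, a1, a2, a3, a4⟩, a5⟩
    intro M hM
    obtain ⟨A, rfl⟩ := exists_EL hM
    refine (comm_top hg (μ.comp EL) s ?_ A).symm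
    rintro _ ⟨i, rfl⟩
    have := H (Sum.inl i)
    simp only [evr, Sum.elim_inl, commutatorElement_eq_one_iff_commute] at this
    exact this.symm
  · rintro ⟨B, f⟩ i
    rcases i with i | i
    · simp only [evr, Sum.elim_inl, commutatorElement_eq_one_iff_commute]
      exact B.hs _ (Mo_EL _)
    · fin_cases i <;> simp only [evr, Sum.elim_inr, Fin.zero_eta, Fin.mk_one, Fin.reduceFinMk, Matrix.cons_val_zero, Matrix.cons_val, mul_inv_eq_one,
        commutatorElement_eq_one_iff_commute]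
      · exact B.r1
      · exact B.r2
      · exact B.r3
      · exact B.r4
      · exact B.r5
      · exact f

end rel

section ev
variable {F : Type v} [Field F] [Fintype F] {n r k q : ℕ}

theorem lift_comp_inl' {A B C : Type*} [Group A] [Group B] [Group C] (f : A →* C) (g : B →* C) :
    (Monoid.Coprod.lift f g).comp Monoid.Coprod.inl = f := Monoid.Coprod.lift_comp_inl f g

/-- the data -/
structure UD (hF : Fintype.card F = q ^ 2) (ν e : F) (ζ : Fˣ) : Prop where
  hν : conjHom hF ν = -ν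
  ν0 : ν ≠ 0
  he : e + conjHom hF e = 1
  hζ : IsGen ζ

theorem exists_UD (hF : Fintype.card F = q ^ 2) : ∃ ν e ζ, UD hF ν e ζ := by
  obtain ⟨θ, hθ⟩ := (tauU hF).nid
  obtain ⟨e, he⟩ := (tauU hF).tr
  obtain ⟨ζ, hζ⟩ := exists_isGen F
  exact ⟨θ - conjHom hF θ, e, ζ, by rw [map_sub, conjHom_involutive]; ring, fun e => hθ (sub_eq_zero.1 e).symm, he, hζ⟩

/-- gluing in even dimension -/
theorem glue_ev (hn : 2 ≤ n) (hF : Fintype.card F = q ^ 2) {RA : Finset (FreeGroup (Fin k))} {xA : Fin k → Matrix.SpecialLinearGroup (Fin (n + 1)) F}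
    (PA : IsPres (RA : Set (FreeGroup (Fin k))) xA) (g : Fin r → Matrix.SpecialLinearGroup (Fin n) F) (hg : closure (Set.range g) = ⊤) :
    ∃ (R : Finset (FreeGroup (Fin (k + 1)))) (x : Fin (k + 1) → ↥(G0U Empty (n + 1) hF)),
      R.card ≤ RA.card + (r + 6) ∧ IsPres (R : Set (FreeGroup (Fin (k + 1)))) x := by
  obtain ⟨ν, e, ζ, D⟩ := exists_UD hF
  obtain ⟨σ, S, C⟩ := exists_CG Empty (m := n + 1) (by omega) hF D.hν D.ν0
  have hgen := C.gen_even (Fin.last n) (fun w => Subsingleton.elim _ _) (gp_top (by omega) hF)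
  have h : Fin.last n ≠ 0 := (l0n (by omega)).symm
  obtain ⟨R, x, hR, P⟩ := glue_pres' PA (Om.isPres_free 1) σ (FreeGroup.lift (fun _ => S (Fin.last n)))
    (evr (conjHom hF) ν Monoid.Coprod.inl (Monoid.Coprod.inr (FreeGroup.of 0)) h ζ e g) (by
      intro i
      rw [map_evr, lift_comp_inl', Monoid.Coprod.lift_apply_inr, FreeGroup.lift_apply_of]
      exact (evr_iff hn hg).2 ⟨C.br h ζ, C.fr h D.he⟩ i) (by
      intro Γ _ ρ θ H hΓ π h1 h2
      have H' : ∀ i, evr (conjHom hF) ν ρ (θ (FreeGroup.of 0)) h ζ e g i = 1 := by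
        intro i
        have := H i
        rwa [map_evr, lift_comp_inl', Monoid.Coprod.lift_apply_inr] at this
      obtain ⟨B, f⟩ := (evr_iff hn hg).1 H'
      obtain ⟨z, E⟩ := ev_three C.T D.hν D.ν0 D.hζ (normU hF) (three_n hn) D.he B f
      have Q : PI C ρ (θ (FreeGroup.of 0)) (Fin.last n) π := ⟨h1, by rw [h2, FreeGroup.lift_apply_of]⟩
      have hs : ρ.range ⊔ zpowers (θ (FreeGroup.of 0)) = ⊤ := by
        rw [eq_top_iff, ← hΓ]
        exact sup_le_sup_left (Om.range_free_one θ) _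
      refine ⟨?_, ?_⟩
      · rw [injective_iff_map_eq_one]
        intro x hx
        refine even_inj C Q E (hermU hF) (normU hF) ?_ hx
        exact mu_gp E (hermU (κ := Empty) hF) (by rw [hs]; exact mem_top _)
      · rw [← MonoidHom.range_eq_top, eq_top_iff, ← hgen]
        refine sup_le ?_ ?_
        · rintro _ ⟨M, rfl⟩
          exact ⟨ρ M, h1 M⟩
        · rw [zpowers_le]
          exact ⟨θ (FreeGroup.of 0), Q.hs⟩)
  refine ⟨R, x, ?_, P⟩
  rw [Finset.card_empty, Fintype.card_sum, Fintype.card_fin, Fintype.card_fin] at hR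
  omega

end ev

end Cfsg.Agent.GK.Un
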