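import Cfsg.Agent.GK.Un30

/-!
The relators in rank two and the presentations in dimensions four and five.
-/

set_option autoImplicit false
set_option linter.unusedSectionVars false
set_option linter.unusedVariables false
set_option linter.unusedSimpArgs false

namespace Cfsg.Agent.GK.Un

open Subgroup Cfsg.Agent.Stb Cfsg.Agent.ClBN Cfsg.Agent.Uni
open scoped commutatorElement

attribute [local instance] Stb.sumNeg

universe v

section rel
variable {F : Type v} [Field F] {Γ G : Type*} [Group Γ] [Group G]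

/-- the word for the torus element -/
noncomputable def kw (μ : Matrix.SpecialLinearGroup (Fin 2) F →* Γ) (s : Γ) (h : (0 : Fin 2) ≠ 1) (ζ : Fˣ) : Γ :=
  s * μ (emb2 h (hm ζ)) * s⁻¹ * (μ (emb2 h (hm ζ)))⁻¹

/-- the relators in rank two -/
noncomputable def b2r (τ : F →+* F) (ν : F) (μ : Matrix.SpecialLinearGroup (Fin 2) F →* Γ) (s : Γ) (h : (0 : Fin 2) ≠ 1) (ζ : Fˣ) (e : F) : Fin 10 → Γ :=
  ![⁅s, SF μ s 0 1⁆,
    ((s * SF μ s 0 1) * μ (tvl h 1) * (s * SF μ s 0 1)⁻¹) * (μ (tvl h.symm (-1)))⁻¹,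
    ((s * s) * μ (tvl h 1) * (s * s)⁻¹) * (μ (tvl h (-1)))⁻¹,
    ⁅kw μ s h ζ, μ (emb2 h (hm ζ))⁆,
    (kw μ s h ζ * μ (tvl h 1) * (kw μ s h ζ)⁻¹) * (μ (tvl h ((nn τ ζ)⁻¹ : Fˣ)))⁻¹,
    ⁅SF μ s 0 1, kw μ s h ζ⁆,
    (kw μ s h ζ * μ (tvl h.symm 1) * (kw μ s h ζ)⁻¹) * (μ (tvl h.symm (nn τ ζ : Fˣ)))⁻¹,
    ⁅SF μ s 0 1 * μ (tvl h (ν * 1)) * (SF μ s 0 1)⁻¹, μ (tvl h 1)⁆,
    s * (LLe τ μ s h e * RRe τ ν μ s h e * LLe τ μ s h e)⁻¹,
    ⁅⁅s * μ (tvl h.symm (ν * (ν * e))) * s⁻¹, μ (tvl h.symm (-1))⁆, μ (tvl h (-τ 1))⁆ *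
      (s * μ (tvl h.symm (ν * (ν * 1))) * s⁻¹ * ⁅s * μ (tvl h.symm (ν * (-(1 * τ 1) * ν * τ e))) * s⁻¹, μ (tvl h (-1))⁆)⁻¹]

/-- two further relators in rank two -/
noncomputable def b2s (τ : F →+* F) (ν : F) (μ : Matrix.SpecialLinearGroup (Fin 2) F →* Γ) (s : Γ) (h : (0 : Fin 2) ≠ 1) (ζ : Fˣ) (e : F) : Fin 2 → Γ :=
  ![⁅SF μ s 0 1 * μ (tvl h (ν * ζ)) * (SF μ s 0 1)⁻¹, μ (tvl h (ζ : F))⁆,
    ⁅⁅s * μ (tvl h.symm (ν * (ν * e))) * s⁻¹, μ (tvl h.symm (-1))⁆, μ (tvl h (-τ (ζ : F)))⁆ *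
      (s * μ (tvl h.symm (ν * (ν * ζ))) * s⁻¹ * ⁅s * μ (tvl h.symm (ν * (-(ζ * τ ζ) * ν * τ e))) * s⁻¹, μ (tvl h (-1))⁆)⁻¹]

/-- the relators for the additional elements in odd dimension -/
noncomputable def vrr (τ : F →+* F) (ν : F) (μ : Matrix.SpecialLinearGroup (Fin 2) F →* Γ) (s : Γ) (h : (0 : Fin 2) ≠ 1) (ζ : Fˣ) (e c0 : F) (kk v : Γ) :
    Fin 10 ⊕ Fin 5 → Γ :=
  Sum.elim
    ![⁅kk, μ (emb2 h (hm ζ))⁆,
      (kk * μ (tvl h 1) * kk⁻¹) * (μ (tvl h ((ζ⁻¹ : Fˣ) : F)))⁻¹,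
      (kk * μ (tvl h.symm 1) * kk⁻¹) * (μ (tvl h.symm (ζ : F)))⁻¹,
      ⁅kk, s⁆,
      ⁅v, μ (tvl h 1)⁆,
      ⁅v, μ (tvl h (ζ : F))⁆,
      ⁅v, SF μ s 0 1⁆,
      ⁅v, SF μ s 0 1 * μ (emb2 h.symm (hm ζ)) * (SF μ s 0 1)⁻¹ * (μ (emb2 h.symm (hm ζ)))⁻¹⁆,
      ⁅v, ⁅s * μ (tvl h.symm e) * s⁻¹, μ (tvl h.symm 1)⁆⁆,
      (kk * v * kk⁻¹) * (μ (emb2 h (hm (ζ * (Units.map (τ : F →* F) ζ)⁻¹))) * v * (μ (emb2 h (hm (ζ * (Units.map (τ : F →* F) ζ)⁻¹))))⁻¹)⁻¹]
    (fun i => (v * (μ (KK h (ζ ^ (i : ℕ))) * v * (μ (KK h (ζ ^ (i : ℕ))))⁻¹)) *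
      ((μ (tvl h.symm ((ζ ^ (i : ℕ) : Fˣ) : F)) * v * (μ (tvl h.symm ((ζ ^ (i : ℕ) : Fˣ) : F)))⁻¹) *
      (SF μ s 0 1 * μ (tvl h (ν * τ (((ζ ^ (i : ℕ) : Fˣ) : F) * c0))) * (SF μ s 0 1)⁻¹))⁻¹)

variable {τ : F →+* F} {ν : F} {μ : Matrix.SpecialLinearGroup (Fin 2) F →* Γ} {s : Γ} {h : (0 : Fin 2) ≠ 1} {ζ : Fˣ} {e c0 : F} {kk v : Γ}

theorem map_kw (π : Γ →* G) : π (kw μ s h ζ) = kw (π.comp μ) (π s) h ζ := by
  unfold kw; simp

theorem map_b2r (π : Γ →* G) (i : Fin 10) : π (b2r τ ν μ s h ζ e i) = b2r τ ν (π.comp μ) (π s) h ζ e i := by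
  fin_cases i <;> simp only [b2r, Fin.zero_eta, Fin.mk_one, Fin.reduceFinMk, Matrix.cons_val_zero, Matrix.cons_val, map_mul, map_inv,
      map_commutatorElement, map_SF, map_LLe, map_RRe, map_kw] <;> rfl

theorem map_b2s (π : Γ →* G) (i : Fin 2) : π (b2s τ ν μ s h ζ e i) = b2s τ ν (π.comp μ) (π s) h ζ e i := by
  fin_cases i <;> simp only [b2s, Fin.zero_eta, Fin.mk_one, Fin.reduceFinMk, Matrix.cons_val_zero, Matrix.cons_val, map_mul, map_inv,
      map_commutatorElement, map_SF, map_LLe, map_RRe, map_kw] <;> rfl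

theorem map_vrr (π : Γ →* G) (i : Fin 10 ⊕ Fin 5) : π (vrr τ ν μ s h ζ e c0 kk v i) = vrr τ ν (π.comp μ) (π s) h ζ e c0 (π kk) (π v) i := by
  rcases i with i | i
  · fin_cases i <;> simp only [vrr, Sum.elim_inl, Fin.zero_eta, Fin.mk_one, Fin.reduceFinMk, Matrix.cons_val_zero, Matrix.cons_val, map_mul, map_inv,
      map_commutatorElement, map_SF, map_LLe, map_RRe, map_kw] <;> rfl
  · simp only [vrr, Sum.elim_inr, map_mul, map_inv, map_SF]; rfl

theorem b2r_iff1 : (∀ i, b2r τ ν μ s h ζ e i = 1) →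
    FR τ ν μ s h e ∧ C3R τ ν μ s h e 1 ∧ (Commute (SF μ s 0 1 * μ (tvl h (ν * ζ)) * (SF μ s 0 1)⁻¹) (μ (tvl h (ζ : F))) → B2 τ ν μ s h ζ (kw μ s h ζ)) ∧
      Commute (SF μ s 0 1 * μ (tvl h (ν * 1)) * (SF μ s 0 1)⁻¹) (μ (tvl h 1)) := by
  intro H
  have a0 := H 0
  have a1 := H 1
  have a2 := H 2
  have a3 := H 3
  have a4 := H 4
  have a5 := H 5
  have a6 := H 6
  have a7 := H 7
  have a8 := H 8
  have a9 := H 9
  simp only [b2r, Matrix.cons_val_zero, Matrix.cons_val, mul_inv_eq_one, commutatorElement_eq_one_iff_commute] at a0 a1 a2 a3 a4 a5 a6 a7 a8 a9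
  refine ⟨a8, a9, fun st2 => ⟨?_, a0, a1, a2, a3, a4, a5, a6, a7, st2⟩, a7⟩
  unfold kw; group

theorem b2r_of (B : B2 τ ν μ s h ζ (kw μ s h ζ)) (f : FR τ ν μ s h e) (c : C3R τ ν μ s h e 1) (i : Fin 10) : b2r τ ν μ s h ζ e i = 1 := by
  fin_cases i <;> simp only [b2r, Fin.zero_eta, Fin.mk_one, Fin.reduceFinMk, Matrix.cons_val_zero, Matrix.cons_val, mul_inv_eq_one,
        commutatorElement_eq_one_iff_commute]
  · exact B.e1
  · exact B.e2
  · exact B.e4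
  · exact B.e6
  · exact B.e7
  · exact B.e8
  · exact B.e9
  · exact B.st1
  · exact f
  · exact c

theorem b2s_iff : (∀ i, b2s τ ν μ s h ζ e i = 1) ↔ Commute (SF μ s 0 1 * μ (tvl h (ν * ζ)) * (SF μ s 0 1)⁻¹) (μ (tvl h (ζ : F))) ∧ C3R τ ν μ s h e ζ := by
  constructor
  · intro H
    have a0 := H 0
    have a1 := H 1
    simp only [b2s, Matrix.cons_val_zero, Matrix.cons_val, Matrix.cons_val_one, mul_inv_eq_one, commutatorElement_eq_one_iff_commute] at a0 a1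
    exact ⟨a0, a1⟩
  · rintro ⟨a0, a1⟩ i
    fin_cases i <;> simp only [b2s, Fin.zero_eta, Fin.mk_one, Matrix.cons_val_zero, Matrix.cons_val, Matrix.cons_val_one, mul_inv_eq_one,
        commutatorElement_eq_one_iff_commute]
    · exact a0
    · exact a1

theorem vrr_iff : (∀ i, vrr τ ν μ s h ζ e c0 kk v i = 1) ↔ KR μ s h ζ kk ∧ VR τ ν μ s h ζ e c0 kk v := by
  constructor
  · intro H
    have a0 := H (Sum.inl 0)
    have a1 := H (Sum.inl 1)
    have a2 := H (Sum.inl 2)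
    have a3 := H (Sum.inl 3)
    have a4 := H (Sum.inl 4)
    have a5 := H (Sum.inl 5)
    have a6 := H (Sum.inl 6)
    have a7 := H (Sum.inl 7)
    have a8 := H (Sum.inl 8)
    have a9 := H (Sum.inl 9)
    simp only [vrr, Sum.elim_inl, Matrix.cons_val_zero, Matrix.cons_val, mul_inv_eq_one, commutatorElement_eq_one_iff_commute] at a0 a1 a2 a3 a4 a5 a6 a7 a8 a9
    refine ⟨⟨a0, a1, a2, a3⟩, ⟨a4, a5, a6, a7, a8, a9, ?_⟩⟩
    intro i hi
    have := H (Sum.inr ⟨i, hi⟩)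
    simp only [vrr, Sum.elim_inr, mul_inv_eq_one] at this
    exact this
  · rintro ⟨K, V⟩ i
    rcases i with i | i
    · fin_cases i <;> simp only [vrr, Sum.elim_inl, Fin.zero_eta, Fin.mk_one, Fin.reduceFinMk, Matrix.cons_val_zero, Matrix.cons_val, mul_inv_eq_one,
        commutatorElement_eq_one_iff_commute]
      · exact K.k1
      · exact K.k2
      · exact K.k3
      · exact K.k4
      · exact V.v1
      · exact V.v2
      · exact V.v3
      · exact V.v4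
      · exact V.v5
      · exact V.v6
    · simp only [vrr, Sum.elim_inr, mul_inv_eq_one]
      exact V.r2 i i.2

end rel

section ev
variable {F : Type v} [Field F] [Fintype F] {k q : ℕ}

theorem hqU (hF : Fintype.card F = q ^ 2) (a : F) : conjHom hF a = a ^ q := rfl

/-- gluing in dimension four -/
theorem glue_ev2 (hF : Fintype.card F = q ^ 2) {RA : Finset (FreeGroup (Fin k))} {xA : Fin k → Matrix.SpecialLinearGroup (Fin 2) F}
    (PA : IsPres (RA : Set (FreeGroup (Fin k))) xA) :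
    ∃ (R : Finset (FreeGroup (Fin (k + 1)))) (x : Fin (k + 1) → ↥(G0U Empty 2 hF)),
      R.card ≤ RA.card + 12 ∧ IsPres (R : Set (FreeGroup (Fin (k + 1)))) x := by
  obtain ⟨ν, e, ζ, D⟩ := exists_UD hF
  obtain ⟨σ, S, C⟩ := exists_CG Empty (m := 2) le_rfl hF D.hν D.ν0
  have hgen := C.gen_even 0 (fun w => Subsingleton.elim _ _) (gp_top le_rfl hF)
  have h : (0 : Fin 2) ≠ 1 := by decide
  have B0 := C.b2 h ζ
  obtain ⟨R, x, hR, P⟩ := glue_pres' PA (Om.isPres_free 1) σ (FreeGroup.lift (fun _ => S 0))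
    (Sum.elim (b2r (conjHom hF) ν Monoid.Coprod.inl (Monoid.Coprod.inr (FreeGroup.of 0)) h ζ e)
      (b2s (conjHom hF) ν Monoid.Coprod.inl (Monoid.Coprod.inr (FreeGroup.of 0)) h ζ e)) (by
      intro i
      rcases i with i | i
      · rw [Sum.elim_inl, map_b2r, lift_comp_inl', Monoid.Coprod.lift_apply_inr, FreeGroup.lift_apply_of]
        exact b2r_of B0 (C.fr h D.he) (C.c3r h D.he 1) i
      · rw [Sum.elim_inr, map_b2s, lift_comp_inl', Monoid.Coprod.lift_apply_inr, FreeGroup.lift_apply_of]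
        exact b2s_iff.2 ⟨B0.st2, C.c3r h D.he _⟩ i) (by
      intro Γ _ ρ θ H hΓ π h1 h2
      have H' : ∀ i, b2r (conjHom hF) ν ρ (θ (FreeGroup.of 0)) h ζ e i = 1 := by
        intro i
        have := H (Sum.inl i)
        rwa [Sum.elim_inl, map_b2r, lift_comp_inl', Monoid.Coprod.lift_apply_inr] at this
      have H'' : ∀ i, b2s (conjHom hF) ν ρ (θ (FreeGroup.of 0)) h ζ e i = 1 := by
        intro i
        have := H (Sum.inr i)
        rwa [Sum.elim_inr, map_b2s, lift_comp_inl', Monoid.Coprod.lift_apply_inr] at this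
      obtain ⟨f, c1, hB, -⟩ := b2r_iff1 H'
      obtain ⟨st2, c2⟩ := b2s_iff.1 H''
      obtain ⟨z, E⟩ := ev_two C.T D.hν D.ν0 D.hζ (hqU hF) hF (normU hF) D.he (hB st2) f c1 c2
      have Q : PI C ρ (θ (FreeGroup.of 0)) 0 π := ⟨h1, by rw [h2, FreeGroup.lift_apply_of]⟩
      have hs : ρ.range ⊔ zpowers (θ (FreeGroup.of 0)) = ⊤ := by
        rw [eq_top_iff, ← hΓ]
        exact sup_le_sup_left (Om.range_free_one θ) _
      refine ⟨?_, ?_⟩
      · rw [injective_iff_map_eq_one]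
        intro x hx
        refine even_inj C Q E (hermU hF) (normU hF) ?_ hx
        exact mu_gp E (hermU (κ := Empty) hF) (by rw [hs]; exact mem_top _)
      · rw [← MonoidHom.range_eq_top, eq_top_iff, ← hgen]
        refine sup_le ?_ ?_
        · rintro _ ⟨M, rfl⟩
          exact ⟨ρ M, h1 M⟩
        · rw [zpowers_le]
          exact ⟨θ (FreeGroup.of 0), Q.hs⟩)
  refine ⟨R, x, ?_, P⟩
  rw [Finset.card_empty, Fintype.card_sum, Fintype.card_fin, Fintype.card_fin] at hR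
  omega

theorem w0P (hF : Fintype.card F = q ^ 2) {e : F} (he : e + conjHom hF e = 1) : PF (conjHom hF) (h0U hF) (fun _ : Unit => (1 : F)) (-e) := by
  unfold PF h0U
  rw [Fintype.sum_unique, map_one, mul_one, map_neg]
  linear_combination -he

theorem w0ne : (fun _ : Unit => (1 : F)) ≠ 0 := fun h => one_ne_zero (congrFun h ())

theorem oneU (w w' : Unit → F) (h : w ≠ 0) : ∃ a : F, w' = a • w := by
  have h1 : w () ≠ 0 := fun e => h (funext fun _ => e)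
  refine ⟨w' () / w (), ?_⟩
  funext z
  rw [Pi.smul_apply, smul_eq_mul]
  rw [div_mul_cancel₀ _ h1]

theorem range_free_two {Γ : Type*} [Group Γ] (θ : FreeGroup (Fin 2) →* Γ) : θ.range ≤ zpowers (θ (FreeGroup.of 0)) ⊔ zpowers (θ (FreeGroup.of 1)) := by
  have e : θ = FreeGroup.lift (fun i => θ (FreeGroup.of i)) := by ext i; simp
  have h : θ.range = closure (Set.range (fun i => θ (FreeGroup.of i))) := by
    conv_lhs => rw [e]
    exact FreeGroup.range_lift_eq_closure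
  rw [h, closure_le]
  rintro _ ⟨i, rfl⟩
  fin_cases i
  · exact mem_sup_left (mem_zpowers _)
  · exact mem_sup_right (mem_zpowers _)

/-- gluing in dimension five -/
theorem glue_od2 (hF : Fintype.card F = q ^ 2) {RA : Finset (FreeGroup (Fin k))} {xA : Fin k → Matrix.SpecialLinearGroup (Fin 2) F}
    (PA : IsPres (RA : Set (FreeGroup (Fin k))) xA) :
    ∃ (R : Finset (FreeGroup (Fin (k + 2)))) (x : Fin (k + 2) → ↥(G0U Unit 2 hF)),
      R.card ≤ RA.card + 25 ∧ IsPres (R : Set (FreeGroup (Fin (k + 2)))) x := by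
  obtain ⟨ν, e, ζ, D⟩ := exists_UD hF
  obtain ⟨σ, S, C⟩ := exists_CG Unit (m := 2) le_rfl hF D.hν D.ν0
  have hP := w0P hF D.he
  have Hh := hermU (κ := Unit) hF
  obtain ⟨kkG, K⟩ := exists_kk hF ζ
  set vG : ↥(G0U Unit 2 hF) := zC Unit 2 hF (Sum.inl 0) (fun _ => (1 : F)) (-e) with hvG
  have hgen := C.gen_odd Hh 0 (fun w => oneU _ w w0ne) hP (gp_top le_rfl hF)
  have h : (0 : Fin 2) ≠ 1 := by decide
  have B0 := C.b2 h ζ
  set θG : FreeGroup (Fin 2) →* ↥(G0U Unit 2 hF) := FreeGroup.lift ![S 0, vG] with hθG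
  have t0 : θG (FreeGroup.of 0) = S 0 := by rw [hθG, FreeGroup.lift_apply_of]; rfl
  have t1 : θG (FreeGroup.of 1) = vG := by rw [hθG, FreeGroup.lift_apply_of]; rfl
  obtain ⟨w, hw⟩ : ∃ w, Monoid.Coprod.lift σ θG w = kkG := by
    have h1 : (Monoid.Coprod.lift σ θG).range = ⊤ := by
      rw [eq_top_iff, ← hgen]
      refine sup_le (sup_le ?_ ?_) ?_
      · rintro _ ⟨M, rfl⟩
        exact ⟨Monoid.Coprod.inl M, by rw [Monoid.Coprod.lift_apply_inl]⟩
      · rw [zpowers_le]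
        exact ⟨Monoid.Coprod.inr (FreeGroup.of 0), by rw [Monoid.Coprod.lift_apply_inr, t0]⟩
      · rw [zpowers_le]
        exact ⟨Monoid.Coprod.inr (FreeGroup.of 1), by rw [Monoid.Coprod.lift_apply_inr, t1]⟩
    have h2 : kkG ∈ (Monoid.Coprod.lift σ θG).range := by rw [h1]; exact mem_top _
    exact h2
  obtain ⟨R, x, hR, P⟩ := glue_pres' PA (Om.isPres_free 2) σ θG
    (Sum.elim (b2r (conjHom hF) ν Monoid.Coprod.inl (Monoid.Coprod.inr (FreeGroup.of 0)) h ζ e)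
      (vrr (conjHom hF) ν Monoid.Coprod.inl (Monoid.Coprod.inr (FreeGroup.of 0)) h ζ e (-e) w (Monoid.Coprod.inr (FreeGroup.of 1)))) (by
      intro i
      rcases i with i | i
      · rw [Sum.elim_inl, map_b2r, lift_comp_inl', Monoid.Coprod.lift_apply_inr, t0]
        exact b2r_of B0 (C.fr h D.he) (C.c3r h D.he 1) i
      · rw [Sum.elim_inr, map_vrr, lift_comp_inl', Monoid.Coprod.lift_apply_inr, Monoid.Coprod.lift_apply_inr, t0, t1, hw]
        exact vrr_iff.2 ⟨C.kr K h, C.vr Hh K h D.he hP⟩ i) (by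
      intro Γ _ ρ θ H hΓ π h1 h2
      have H' : ∀ i, b2r (conjHom hF) ν ρ (θ (FreeGroup.of 0)) h ζ e i = 1 := by
        intro i
        have := H (Sum.inl i)
        rwa [Sum.elim_inl, map_b2r, lift_comp_inl', Monoid.Coprod.lift_apply_inr] at this
      have H'' : ∀ i, vrr (conjHom hF) ν ρ (θ (FreeGroup.of 0)) h ζ e (-e) (Monoid.Coprod.lift ρ θ w) (θ (FreeGroup.of 1)) i = 1 := by
        intro i
        have := H (Sum.inr i)
        rwa [Sum.elim_inr, map_vrr, lift_comp_inl', Monoid.Coprod.lift_apply_inr, Monoid.Coprod.lift_apply_inr] at this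
      obtain ⟨f, c1, hB, st1⟩ := b2r_iff1 H'
      obtain ⟨KK', VV⟩ := vrr_iff.1 H''
      have B := hB (KK'.st2 D.hζ st1)
      have c2 : C3R (conjHom hF) ν ρ (θ (FreeGroup.of 0)) h e ζ := by
        have V := B.uh C.T D.hν D.ν0 D.hζ (hqU hF) hF
        have U := B.ue C.T D.hν D.ν0 D.hζ (hqU hF) hF (normU hF)
        obtain ⟨z, Z⟩ := U.y0.exists_zd
        exact KK'.c3r D.hζ (hqU hF) D.he U V Z c1
      obtain ⟨z, E⟩ := ev_two C.T D.hν D.ν0 D.hζ (hqU hF) hF (normU hF) D.he B f c1 c2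
      have Q : PI C ρ (θ (FreeGroup.of 0)) 0 π := ⟨h1, by rw [h2, t0]⟩
      have V1' := v1_two C Q E Hh D.hζ (normU hF) D.he VV
      have hπ : ∀ x, π (Monoid.Coprod.lift ρ θ x) = Monoid.Coprod.lift σ θG x := by
        intro x
        have : π.comp (Monoid.Coprod.lift ρ θ) = Monoid.Coprod.lift σ θG := by
          apply Monoid.Coprod.hom_ext
          · ext M; simp [h1]
          · apply MonoidHom.ext; intro y; simp [h2]
        exact DFunLike.congr_fun this x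
      have hπk : π (Monoid.Coprod.lift ρ θ w) = kkG := by rw [hπ, hw]
      have c2' := c2_two C Q E Hh D.hζ (normU hF) KK' VV V1' (by rw [hπk, K.act, if_neg (by decide), if_neg (by decide), one_smul])
        (by rw [hπk, K.act, if_pos rfl])
      have hs : ρ.range ⊔ zpowers (θ (FreeGroup.of 0)) ⊔ zpowers (θ (FreeGroup.of 1)) = ⊤ := by
        rw [eq_top_iff, ← hΓ, sup_assoc]
        exact sup_le_sup_left (range_free_two θ) _
      refine ⟨?_, ?_⟩
      · rw [injective_iff_map_eq_one]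
        intro x hx
        exact odd_inj C Q E Hh V1' (normU hF) w0ne oneU hP (by rw [h2, t1]) c2' (by rw [hs]; exact mem_top _) hx
      · rw [← MonoidHom.range_eq_top, eq_top_iff, ← hgen]
        refine sup_le (sup_le ?_ ?_) ?_
        · rintro _ ⟨M, rfl⟩
          exact ⟨ρ M, h1 M⟩
        · rw [zpowers_le]
          exact ⟨θ (FreeGroup.of 0), Q.hs⟩
        · rw [zpowers_le]
          exact ⟨θ (FreeGroup.of 1), by rw [h2, t1]⟩)
  refine ⟨R, x, ?_, P⟩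
  rw [Finset.card_empty, Fintype.card_sum, Fintype.card_sum, Fintype.card_fin, Fintype.card_fin] at hR
  omega

end ev

end Cfsg.Agent.GK.Un
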