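import Cfsg.Agent.GK.Un31

/-!
The presentations in odd dimension, rank at least three.
-/

set_option autoImplicit false
set_option linter.unusedSectionVars false
set_option linter.unusedVariables false
set_option linter.unusedSimpArgs false

namespace Cfsg.Agent.GK.Un

open Subgroup Cfsg.Agent.Stb Cfsg.Agent.ClBN Cfsg.Agent.Uni
open scoped commutatorElement
open Om (Mo_emb2_fst Mo_emb2_snd Mo_emb2_out)

attribute [local instance] Stb.sumNeg

universe v

section merge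
variable {F : Type v} [Field F] {l : Type} [Fintype l] [DecidableEq l] {Δ : Type*} [Group Δ]
variable {τ : F →+* F} {ν : F}
variable {μ : Matrix.SpecialLinearGroup l F →* Δ} {s : Δ} {o : l} {z : l ⊕ l → F → Δ} {v : Δ}

theorem cj {a b : Δ} (h1 : Commute v a) (h2 : Commute v b) : Commute v (a * b * a⁻¹) := (h1.mul_right h2).mul_right h1.inv_right

theorem Mo_swap {i j : l} (h : i ≠ j) : Mo (emb2 h (tm⁻¹) : Matrix.SpecialLinearGroup l F) i j 1 := by
  have := ((Mo_tm (F := F)).inv).emb ![i, j] (inj2 h)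
  rw [inv_one] at this
  exact this

/-- two commutation relations follow from one -/
theorem merge (E : EV τ ν μ s o z) (hM : ∀ M, Mo M o o 1 → Commute v (μ M)) {a b c : l} (ha : o ≠ a) (hb : o ≠ b) (hc : o ≠ c)
    (hab : a ≠ b) (hac : a ≠ c) (hbc : b ≠ c) (h : Commute v (SF μ s o a * μ (tvl hb 1))) :
    Commute v (SF μ s o a) ∧ Commute v (μ (tvl ha 1)) := by
  have U := E.U
  have ν0 := U.ν0
  have Y := U.y0
  set S := SF μ s o with hS
  set x := μ (tvl hb (1 : F)) with hx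
  -- first step
  have m1 := Mo_emb2_out hac ha hc (tm⁻¹ : Matrix.SpecialLinearGroup (Fin 2) F)
  have s1 : Commute v (S c * x) := by
    have h1 := cj (hM _ m1) h
    have e1 : μ (emb2 hac tm⁻¹) * (S a * x) * (μ (emb2 hac tm⁻¹))⁻¹ = S c * x := by
      have k1 := SF_tr E.b0 (Mo_swap (F := F) hac)
      have k2 := tv_tr (ρ := μ) hb hb m1 (Mo_emb2_out hac hab.symm hbc (tm⁻¹ : Matrix.SpecialLinearGroup (Fin 2) F)) 1
      calc μ (emb2 hac tm⁻¹) * (S a * x) * (μ (emb2 hac tm⁻¹))⁻¹ =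
          (μ (emb2 hac tm⁻¹) * S a * (μ (emb2 hac tm⁻¹))⁻¹) * (μ (emb2 hac tm⁻¹) * x * (μ (emb2 hac tm⁻¹))⁻¹) := by group
        _ = _ := by rw [k1, k2]
    rwa [e1] at h1
  have s2 : Commute v (S a * (S c)⁻¹) := by
    have e1 : S a * (S c)⁻¹ = (S a * x) * (S c * x)⁻¹ := by group
    rw [e1]; exact h.mul_right s1.inv_right
  have m2 := Mo_emb2_out hab ha hb (tm⁻¹ : Matrix.SpecialLinearGroup (Fin 2) F)
  have s3 : Commute v (S b * (S c)⁻¹) := by
    have h1 := cj (hM _ m2) s2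
    have e1 : μ (emb2 hab tm⁻¹) * (S a * (S c)⁻¹) * (μ (emb2 hab tm⁻¹))⁻¹ = S b * (S c)⁻¹ := by
      have k1 := SF_tr E.b0 (Mo_swap (F := F) hab)
      have k2 := SF_tr E.b0 (Mo_emb2_out hab hac.symm hbc.symm (tm⁻¹ : Matrix.SpecialLinearGroup (Fin 2) F))
      calc μ (emb2 hab tm⁻¹) * (S a * (S c)⁻¹) * (μ (emb2 hab tm⁻¹))⁻¹ =
          (μ (emb2 hab tm⁻¹) * S a * (μ (emb2 hab tm⁻¹))⁻¹) * (μ (emb2 hab tm⁻¹) * S c * (μ (emb2 hab tm⁻¹))⁻¹)⁻¹ := by group
        _ = _ := by rw [k1, k2]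
    rwa [e1] at h1
  -- second step
  set y := S b * x * (S b)⁻¹ with hy
  have s4 : Commute v (S a * y) := by
    have h1 := cj s3 h
    have c1 : Commute (S c) x := U.SX hb hc.symm hbc.symm 1
    have c2 : Commute (S b * (S c)⁻¹) (S a) := (U.SS b a).mul_left (U.SS c a).inv_left
    have e1 : S b * (S c)⁻¹ * (S a * x) * (S b * (S c)⁻¹)⁻¹ = S a * y := by
      calc S b * (S c)⁻¹ * (S a * x) * (S b * (S c)⁻¹)⁻¹ = ((S b * (S c)⁻¹) * S a) * (x * (S b * (S c)⁻¹)⁻¹) := by group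
        _ = S a * (S b * ((S c)⁻¹ * x) * (S c) * (S b)⁻¹) := by rw [c2.eq]; group
        _ = _ := by rw [c1.inv_left.eq, hy]; group
    rwa [e1] at h1
  have s5 : Commute v (x⁻¹ * y) := by
    have e1 : x⁻¹ * y = (S a * x)⁻¹ * (S a * y) := by group
    rw [e1]; exact h.inv_right.mul_right s4
  -- third step
  set t := μ (tvl hbc (1 : F)) with ht
  have hty : Commute t y := by
    have n1 : (Sum.inl o : l ⊕ l) ≠ Sum.inl b := fun e => hb (Sum.inl_injective e)
    have n2 : (Sum.inl o : l ⊕ l) ≠ -(Sum.inl b) := Sum.inl_ne_inr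
    have n3 : (Sum.inl b : l ⊕ l) ≠ Sum.inr c := Sum.inl_ne_inr
    have n4 : (Sum.inl b : l ⊕ l) ≠ -(Sum.inr c) := fun e => hbc (Sum.inl_injective e)
    have n5 : (Sum.inl b : l ⊕ l) ≠ -(Sum.inl o) := Sum.inl_ne_inr
    have n6 : (Sum.inl b : l ⊕ l) ≠ -(Sum.inl b) := Sum.inl_ne_inr
    have n7 : (Sum.inr c : l ⊕ l) ≠ -(Sum.inl o) := fun e => hc (Sum.inr_injective e).symm
    have n8 : (Sum.inr c : l ⊕ l) ≠ -(Sum.inl b) := fun e => hbc (Sum.inr_injective e).symm
    have e1 := commutatorElement_eq_one_iff_commute.1 (Y.c4 n1 n2 n3 n4 n5 n6 n7 n8 ν⁻¹ 1)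
    rw [yu_ll hb, yu_lr hbc, mul_inv_cancel₀ ν0] at e1
    exact e1.symm
  set x3 := μ (tvl hc (1 : F)) with hx3
  have s6 : Commute v x3 := by
    have h1 := cj (hM _ (Mo.tv hbc hb hc 1)) s5
    have e1 : x * t * x⁻¹ * t⁻¹ = x3 := by
      have := tvl_com hb hbc hc (1 : F) 1
      rw [commutatorElement_def, mul_one] at this
      rw [hx, ht, hx3, ← this]; simp
    have e2 : t * x⁻¹ * t⁻¹ = x⁻¹ * x3 := by rw [← e1]; group
    have e3 : t * (x⁻¹ * y) * t⁻¹ = x⁻¹ * x3 * y := by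
      calc t * (x⁻¹ * y) * t⁻¹ = (t * x⁻¹ * t⁻¹) * (t * y * t⁻¹) := by group
        _ = _ := by
          have : t * y * t⁻¹ = y := by rw [hty.eq]; group
          rw [e2, this]
    change Commute v (t * (x⁻¹ * y) * t⁻¹) at h1
    rw [e3] at h1
    have h2 := h1.mul_right s5.inv_right
    have c13 : Commute x3 x := by
      have n3 : (Sum.inl o : l ⊕ l) ≠ Sum.inr b := Sum.inl_ne_inr
      have n4 : (Sum.inl o : l ⊕ l) ≠ -(Sum.inr b) := fun e => hb (Sum.inl_injective e)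
      have n5 : (Sum.inl o : l ⊕ l) ≠ Sum.inr c := Sum.inl_ne_inr
      have n6 : (Sum.inl o : l ⊕ l) ≠ -(Sum.inr c) := fun e => hc (Sum.inl_injective e)
      have n7 : (Sum.inr b : l ⊕ l) ≠ -(Sum.inl o) := fun e => hb (Sum.inr_injective e).symm
      have n8 : (Sum.inr b : l ⊕ l) ≠ -(Sum.inr c) := Sum.inr_ne_inl
      have n9 : (Sum.inl o : l ⊕ l) ≠ -(Sum.inl o) := Sum.inl_ne_inr
      have n10 : (Sum.inl o : l ⊕ l) ≠ -(Sum.inr c) := fun e => hc (Sum.inl_injective e)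
      have e1 := commutatorElement_eq_one_iff_commute.1 (Y.c4 n5 n6 n3 n4 n9 n10 n7 n8 1 1)
      rw [yu_lr hb, yu_lr hc] at e1
      exact e1
    have e4 : x⁻¹ * x3 * y * (x⁻¹ * y)⁻¹ = x3 := by
      calc x⁻¹ * x3 * y * (x⁻¹ * y)⁻¹ = x⁻¹ * (x3 * x) := by group
        _ = x⁻¹ * (x * x3) := by rw [c13.eq]
        _ = _ := by group
    rwa [e4] at h2
  have hX : ∀ {k : l} (hk : o ≠ k), k ≠ c → Commute v (μ (tvl hk (1 : F))) := by
    intro k hk hkc
    have m3 := Mo_emb2_out hkc.symm hc hk (tm⁻¹ : Matrix.SpecialLinearGroup (Fin 2) F)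
    have h1 := cj (hM _ m3) s6
    rwa [tv_tr (ρ := μ) hc hk m3 (Mo_swap (F := F) hkc.symm) 1] at h1
  have s7 : Commute v x := hX hb hbc
  refine ⟨?_, hX ha hac⟩
  have e5 : S a = (S a * x) * x⁻¹ := by group
  rw [e5]; exact h.mul_right s7.inv_right

end merge

section rel
variable {F : Type v} [Field F] {n r : ℕ} {Γ G : Type*} [Group Γ] [Group G]

/-- the relators for the additional element -/
noncomputable def odr (τ : F →+* F) (ν : F) (μ : Matrix.SpecialLinearGroup (Fin (n + 1)) F →* Γ) (s v : Γ) {o' : Fin (n + 1)} (h : Fin.last n ≠ o') (c0 : F)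
    (K : Matrix.SpecialLinearGroup (Fin (n + 1)) F) (g : Fin r → Matrix.SpecialLinearGroup (Fin n) F) : Fin r ⊕ Fin 1 → Γ :=
  Sum.elim (fun i => ⁅v, μ (EL (g i))⁆)
    ![(v * (μ K * v * (μ K)⁻¹)) * ((μ (tvl h.symm 1) * v * (μ (tvl h.symm 1))⁻¹) *
      (SF μ s (Fin.last n) o' * μ (tvl h (ν * τ (1 * c0))) * (SF μ s (Fin.last n) o')⁻¹))⁻¹]

variable {τ : F →+* F} {ν : F} {μ : Matrix.SpecialLinearGroup (Fin (n + 1)) F →* Γ} {s v : Γ} {o' : Fin (n + 1)} {h : Fin.last n ≠ o'} {c0 : F}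
  {K : Matrix.SpecialLinearGroup (Fin (n + 1)) F} {g : Fin r → Matrix.SpecialLinearGroup (Fin n) F}

theorem map_odr (π : Γ →* G) (i : Fin r ⊕ Fin 1) : π (odr τ ν μ s v h c0 K g i) = odr τ ν (π.comp μ) (π s) (π v) h c0 K g i := by
  rcases i with i | i
  · simp only [odr, Sum.elim_inl, map_commutatorElement]; rfl
  · fin_cases i <;> simp only [odr, Sum.elim_inr, Fin.zero_eta, Matrix.cons_val_zero, Matrix.cons_val, map_mul, map_inv,
      map_commutatorElement, map_SF] <;> rfl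

theorem odr_iff (hg : closure (Set.range g) = ⊤) : (∀ i, odr τ ν μ s v h c0 K g i = 1) ↔
    (∀ M, Mo M (Fin.last n) (Fin.last n) 1 → Commute v (μ M)) ∧
    v * (μ K * v * (μ K)⁻¹) = (μ (tvl h.symm 1) * v * (μ (tvl h.symm 1))⁻¹) *
      (SF μ s (Fin.last n) o' * μ (tvl h (ν * τ (1 * c0))) * (SF μ s (Fin.last n) o')⁻¹) := by
  constructor
  · intro H
    have a0 := H (Sum.inr 0)
    simp only [odr, Sum.elim_inr, Matrix.cons_val_zero, mul_inv_eq_one] at a0
    refine ⟨?_, a0⟩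
    intro M hM
    obtain ⟨A, rfl⟩ := exists_EL hM
    refine (comm_top hg (μ.comp EL) v ?_ A).symm
    rintro _ ⟨i, rfl⟩
    have := H (Sum.inl i)
    simp only [odr, Sum.elim_inl, commutatorElement_eq_one_iff_commute] at this
    exact this.symm
  · rintro ⟨B, f⟩ i
    rcases i with i | i
    · simp only [odr, Sum.elim_inl, commutatorElement_eq_one_iff_commute]
      exact B _ (Mo_EL _)
    · fin_cases i
      simp only [odr, Sum.elim_inr, Fin.zero_eta, Matrix.cons_val_zero, mul_inv_eq_one]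
      exact f

/-- the separate relators -/
noncomputable def ods (μ : Matrix.SpecialLinearGroup (Fin (n + 1)) F →* Γ) (s v : Γ) {o' : Fin (n + 1)} (h : Fin.last n ≠ o') : Fin 2 → Γ :=
  ![⁅v, SF μ s (Fin.last n) o'⁆, ⁅v, μ (tvl h 1)⁆]

theorem map_ods (π : Γ →* G) (i : Fin 2) : π (ods μ s v h i) = ods (π.comp μ) (π s) (π v) h i := by
  fin_cases i <;> simp only [ods, Fin.zero_eta, Fin.mk_one, Matrix.cons_val_zero, Matrix.cons_val_one, Matrix.cons_val, map_mul, map_inv,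
      map_commutatorElement, map_SF] <;> rfl

theorem ods_iff : (∀ i, ods μ s v h i = 1) ↔ Commute v (SF μ s (Fin.last n) o') ∧ Commute v (μ (tvl h 1)) := by
  constructor
  · intro H
    have a0 := H 0
    have a1 := H 1
    simp only [ods, Matrix.cons_val_zero, Matrix.cons_val_one, Matrix.cons_val, commutatorElement_eq_one_iff_commute] at a0 a1
    exact ⟨a0, a1⟩
  · rintro ⟨a0, a1⟩ i
    fin_cases i <;> simp only [ods, Fin.zero_eta, Fin.mk_one, Matrix.cons_val_zero, Matrix.cons_val_one, Matrix.cons_val, commutatorElement_eq_one_iff_commute]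
    · exact a0
    · exact a1

/-- the merged relator -/
noncomputable def odm (μ : Matrix.SpecialLinearGroup (Fin (n + 1)) F →* Γ) (s v : Γ) (o' : Fin (n + 1)) {o'' : Fin (n + 1)} (h : Fin.last n ≠ o'') : Fin 1 → Γ :=
  fun _ => ⁅v, SF μ s (Fin.last n) o' * μ (tvl h 1)⁆

theorem map_odm {o'' : Fin (n + 1)} {h : Fin.last n ≠ o''} (π : Γ →* G) (i : Fin 1) : π (odm μ s v o' h i) = odm (π.comp μ) (π s) (π v) o' h i := by
  simp only [odm, map_mul, map_commutatorElement, map_SF]; rfl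

theorem odm_iff {o'' : Fin (n + 1)} {h : Fin.last n ≠ o''} : (∀ i, odm μ s v o' h i = 1) ↔ Commute v (SF μ s (Fin.last n) o' * μ (tvl h 1)) := by
  constructor
  · intro H
    have a0 := H 0
    simpa only [odm, commutatorElement_eq_one_iff_commute] using a0
  · intro H i
    simpa only [odm, commutatorElement_eq_one_iff_commute] using H

end rel

section ev
variable {F : Type v} [Field F] [Fintype F] {n r k q : ℕ}

/-- gluing in odd dimension -/
theorem glue_od_core (hn : 2 ≤ n) (hF : Fintype.card F = q ^ 2) {RA : Finset (FreeGroup (Fin k))} {xA : Fin k → Matrix.SpecialLinearGroup (Fin (n + 1)) F}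
    (PA : IsPres (RA : Set (FreeGroup (Fin k))) xA) (g : Fin r → Matrix.SpecialLinearGroup (Fin n) F) (hg : closure (Set.range g) = ⊤)
    (h : Fin.last n ≠ 0) {a : ℕ}
    (X : ∀ {Γ : Type v} [Group Γ], (Matrix.SpecialLinearGroup (Fin (n + 1)) F →* Γ) → Γ → Γ → Fin a → Γ)
    (X' : ∀ {Γ : Type} [Group Γ], (Matrix.SpecialLinearGroup (Fin (n + 1)) F →* Γ) → Γ → Γ → Fin a → Γ)
    (mX : ∀ {Γ G : Type v} [Group Γ] [Group G] (π : Γ →* G) (μ : Matrix.SpecialLinearGroup (Fin (n + 1)) F →* Γ) (s v : Γ) (i : Fin a),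
      π (X μ s v i) = X (π.comp μ) (π s) (π v) i)
    (mX' : ∀ {Γ : Type v} {G : Type} [Group Γ] [Group G] (π : Γ →* G) (μ : Matrix.SpecialLinearGroup (Fin (n + 1)) F →* Γ) (s v : Γ) (i : Fin a),
      π (X μ s v i) = X' (π.comp μ) (π s) (π v) i)
    (hX : ∀ {Γ : Type v} [Group Γ] (μ : Matrix.SpecialLinearGroup (Fin (n + 1)) F →* Γ) (s v : Γ) (c : ∀ o', Fin.last n ≠ o' → Commute v (SF μ s (Fin.last n) o'))
      (d : ∀ (o' : Fin (n + 1)) (h : Fin.last n ≠ o'), Commute v (μ (tvl h 1))) (i : Fin a), X μ s v i = 1)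
    (hX' : ∀ {Γ : Type} [Group Γ] {τ : F →+* F} {ν : F} {z : Fin (n + 1) ⊕ Fin (n + 1) → F → Γ} (μ : Matrix.SpecialLinearGroup (Fin (n + 1)) F →* Γ) (s v : Γ)
      (E : EV τ ν μ s (Fin.last n) z) (hM : ∀ M, Mo M (Fin.last n) (Fin.last n) 1 → Commute v (μ M)), (∀ i, X' μ s v i = 1) →
      Commute v (SF μ s (Fin.last n) 0) ∧ Commute v (μ (tvl h 1))) :
    ∃ (R : Finset (FreeGroup (Fin (k + 2)))) (x : Fin (k + 2) → ↥(G0U Unit (n + 1) hF)),
      R.card ≤ RA.card + (r + 6 + (r + 1 + a)) ∧ IsPres (R : Set (FreeGroup (Fin (k + 2)))) x := by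
  obtain ⟨ν, e, ζ, D⟩ := exists_UD hF
  obtain ⟨σ, S, C⟩ := exists_CG Unit (m := n + 1) (by omega) hF D.hν D.ν0
  have hP := w0P hF D.he
  have Hh := hermU (κ := Unit) hF
  set vG : ↥(G0U Unit (n + 1) hF) := zC Unit (n + 1) hF (Sum.inl (Fin.last n)) (fun _ => (1 : F)) (-e) with hvG
  have hgen := C.gen_odd Hh (Fin.last n) (fun w => oneU _ w w0ne) hP (gp_top (by omega) hF)
  obtain ⟨K, hK⟩ := exists_mo1 (F := F) (two_n hn) (Fin.last n) 0
  set θG : FreeGroup (Fin 2) →* ↥(G0U Unit (n + 1) hF) := FreeGroup.lift ![S (Fin.last n), vG] with hθG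
  have t0 : θG (FreeGroup.of 0) = S (Fin.last n) := by rw [hθG, FreeGroup.lift_apply_of]; rfl
  have t1 : θG (FreeGroup.of 1) = vG := by rw [hθG, FreeGroup.lift_apply_of]; rfl
  obtain ⟨R, x, hR, P⟩ := glue_pres' PA (Om.isPres_free 2) σ θG
    (Sum.elim (evr (conjHom hF) ν Monoid.Coprod.inl (Monoid.Coprod.inr (FreeGroup.of 0)) h ζ e g)
      (Sum.elim (odr (conjHom hF) ν Monoid.Coprod.inl (Monoid.Coprod.inr (FreeGroup.of 0)) (Monoid.Coprod.inr (FreeGroup.of 1)) h (-e) K g)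
        (X Monoid.Coprod.inl (Monoid.Coprod.inr (FreeGroup.of 0)) (Monoid.Coprod.inr (FreeGroup.of 1))))) (by
      intro i
      rcases i with i | i | i
      · rw [Sum.elim_inl, map_evr, lift_comp_inl', Monoid.Coprod.lift_apply_inr, t0]
        exact (evr_iff hn hg).2 ⟨C.br h ζ, C.fr h D.he⟩ i
      · rw [Sum.elim_inr, Sum.elim_inl, map_odr, lift_comp_inl', Monoid.Coprod.lift_apply_inr, Monoid.Coprod.lift_apply_inr, t0, t1]
        exact (odr_iff hg).2 ⟨fun M hM => C.v_M Hh hP hM, by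
          have := C.v_r2 Hh hP h 1 hK
          rwa [Units.val_one] at this⟩ i
      · rw [Sum.elim_inr, Sum.elim_inr, mX, lift_comp_inl', Monoid.Coprod.lift_apply_inr, Monoid.Coprod.lift_apply_inr, t0, t1]
        exact hX _ _ _ (fun o' h => C.v_S Hh hP h) (fun o' h => C.v_x Hh hP h 1) i) (by
      intro Γ _ ρ θ H hΓ π h1 h2
      have H' : ∀ i, evr (conjHom hF) ν ρ (θ (FreeGroup.of 0)) h ζ e g i = 1 := by
        intro i
        have := H (Sum.inl i)
        rwa [Sum.elim_inl, map_evr, lift_comp_inl', Monoid.Coprod.lift_apply_inr] at this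
      have H'' : ∀ i, odr (conjHom hF) ν ρ (θ (FreeGroup.of 0)) (θ (FreeGroup.of 1)) h (-e) K g i = 1 := by
        intro i
        have := H (Sum.inr (Sum.inl i))
        rwa [Sum.elim_inr, Sum.elim_inl, map_odr, lift_comp_inl', Monoid.Coprod.lift_apply_inr, Monoid.Coprod.lift_apply_inr] at this
      have H3 : ∀ i, X' ρ (θ (FreeGroup.of 0)) (θ (FreeGroup.of 1)) i = 1 := by
        intro i
        have := H (Sum.inr (Sum.inr i))
        rwa [Sum.elim_inr, Sum.elim_inr, mX', lift_comp_inl', Monoid.Coprod.lift_apply_inr, Monoid.Coprod.lift_apply_inr] at this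
      obtain ⟨B, f⟩ := (evr_iff hn hg).1 H'
      obtain ⟨z, E⟩ := ev_three C.T D.hν D.ν0 D.hζ (normU hF) (three_n hn) D.he B f
      obtain ⟨hM, hR2⟩ := (odr_iff hg).1 H''
      obtain ⟨hS, hx⟩ := hX' _ _ _ E hM H3
      have Q : PI C ρ (θ (FreeGroup.of 0)) (Fin.last n) π := ⟨h1, by rw [h2, t0]⟩
      have V := v1_three (h := h) E (three_n hn) hM hS hx
      have c2' := c2_three C Q E Hh (h := h) (three_n hn) V (normU hF) hK hR2
      have hs : ρ.range ⊔ zpowers (θ (FreeGroup.of 0)) ⊔ zpowers (θ (FreeGroup.of 1)) = ⊤ := by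
        rw [eq_top_iff, ← hΓ, sup_assoc]
        exact sup_le_sup_left (range_free_two θ) _
      refine ⟨?_, ?_⟩
      · rw [injective_iff_map_eq_one]
        intro x hx
        exact odd_inj C Q E Hh V (normU hF) w0ne oneU hP (by rw [h2, t1]) c2' (by rw [hs]; exact mem_top _) hx
      · rw [← MonoidHom.range_eq_top, eq_top_iff, ← hgen]
        refine sup_le (sup_le ?_ ?_) ?_
        · rintro _ ⟨M, rfl⟩
          exact ⟨ρ M, h1 M⟩
        · rw [zpowers_le]
          exact ⟨θ (FreeGroup.of 0), Q.hs⟩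
        · rw [zpowers_le]
          exact ⟨θ (FreeGroup.of 1), by rw [h2, t1]⟩)
  refine ⟨R, x, ?_, P⟩
  rw [Finset.card_empty, Fintype.card_sum, Fintype.card_sum, Fintype.card_sum, Fintype.card_sum, Fintype.card_fin, Fintype.card_fin, Fintype.card_fin,
    Fintype.card_fin] at hR
  omega

/-- gluing in odd dimension at least seven -/
theorem glue_od (hn : 2 ≤ n) (hF : Fintype.card F = q ^ 2) {RA : Finset (FreeGroup (Fin k))} {xA : Fin k → Matrix.SpecialLinearGroup (Fin (n + 1)) F}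
    (PA : IsPres (RA : Set (FreeGroup (Fin k))) xA) (g : Fin r → Matrix.SpecialLinearGroup (Fin n) F) (hg : closure (Set.range g) = ⊤) :
    ∃ (R : Finset (FreeGroup (Fin (k + 2)))) (x : Fin (k + 2) → ↥(G0U Unit (n + 1) hF)),
      R.card ≤ RA.card + (r + 6 + (r + 1 + 2)) ∧ IsPres (R : Set (FreeGroup (Fin (k + 2)))) x := by
  have h : Fin.last n ≠ 0 := (l0n (by omega)).symm
  refine glue_od_core hn hF PA g hg h (a := 2) (fun μ s v => ods μ s v h) (fun μ s v => ods μ s v h) ?_ ?_ ?_ ?_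
  · intro Γ G _ _ π μ s v i; exact map_ods π i
  · intro Γ G _ _ π μ s v i; exact map_ods π i
  · intro Γ _ μ s v c d i; exact ods_iff.2 ⟨c 0 h, d 0 h⟩ i
  · intro Γ _ τ ν z μ s v E hM H; exact ods_iff.1 H

/-- gluing in odd dimension at least nine -/
theorem glue_od' (hn : 3 ≤ n) (hF : Fintype.card F = q ^ 2) {RA : Finset (FreeGroup (Fin k))} {xA : Fin k → Matrix.SpecialLinearGroup (Fin (n + 1)) F}
    (PA : IsPres (RA : Set (FreeGroup (Fin k))) xA) (g : Fin r → Matrix.SpecialLinearGroup (Fin n) F) (hg : closure (Set.range g) = ⊤) :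
    ∃ (R : Finset (FreeGroup (Fin (k + 2)))) (x : Fin (k + 2) → ↥(G0U Unit (n + 1) hF)),
      R.card ≤ RA.card + (r + 6 + (r + 1 + 1)) ∧ IsPres (R : Set (FreeGroup (Fin (k + 2)))) x := by
  have h : Fin.last n ≠ 0 := (l0n (by omega)).symm
  have v0 : ((0 : Fin (n + 1)) : ℕ) = 0 := rfl
  have hb : Fin.last n ≠ ⟨1, by omega⟩ := fun e => by
    have := congrArg Fin.val e
    simp at this; omega
  have hc : Fin.last n ≠ ⟨2, by omega⟩ := fun e => by
    have := congrArg Fin.val e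
    simp at this; omega
  have hab : (0 : Fin (n + 1)) ≠ ⟨1, by omega⟩ := fun e => by
    have := congrArg Fin.val e
    simp at this
  have hac : (0 : Fin (n + 1)) ≠ ⟨2, by omega⟩ := fun e => by
    have := congrArg Fin.val e
    simp at this
  have hbc : (⟨1, by omega⟩ : Fin (n + 1)) ≠ ⟨2, by omega⟩ := fun e => by
    have := congrArg Fin.val e
    simp at this
  refine glue_od_core (by omega) hF PA g hg h (a := 1) (fun μ s v => odm μ s v 0 hb) (fun μ s v => odm μ s v 0 hb) ?_ ?_ ?_ ?_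
  · intro Γ G _ _ π μ s v i; exact map_odm π i
  · intro Γ G _ _ π μ s v i; exact map_odm π i
  · intro Γ _ μ s v c d i; exact odm_iff.2 ((c 0 h).mul_right (d _ hb)) i
  · intro Γ _ τ ν z μ s v E hM H; exact merge E hM h hb hc hab hac hbc (odm_iff.1 H)

end ev

end Cfsg.Agent.GK.Un
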